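import Mathlib

/-!
# The rows and columns of the decomposition of a block with quaternion defect group

The positions are four characters `a b u v`, characters `x i` of height one, and at most two
further characters `g`, `k`.  Each position has a row over the projective indecomposables; the
columns killing the rows are indexed by `Sel M`.
-/

set_option autoImplicit false

namespace Cfsg.Agent.Blocks.Quaternion

/-- The positions. -/
inductive Pos (M g₁ g₂ : ℕ) : Type where
  | a
  | b
  | u
  | v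
  | x (i : Fin M)
  | g (i : Fin g₁)
  | k (i : Fin g₂)
  deriving DecidableEq

namespace Pos

variable {M g₁ g₂ : ℕ}

/-- The positions as a sum. -/
def equivSum (M g₁ g₂ : ℕ) : Pos M g₁ g₂ ≃ Fin 4 ⊕ Fin M ⊕ Fin g₁ ⊕ Fin g₂ where
  toFun
    | a => Sum.inl 0
    | b => Sum.inl 1
    | u => Sum.inl 2
    | v => Sum.inl 3
    | x i => Sum.inr (Sum.inl i)
    | g i => Sum.inr (Sum.inr (Sum.inl i))
    | k i => Sum.inr (Sum.inr (Sum.inr i))
  invFun
    | Sum.inl i => ![a, b, u, v] i
    | Sum.inr (Sum.inl i) => x i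
    | Sum.inr (Sum.inr (Sum.inl i)) => g i
    | Sum.inr (Sum.inr (Sum.inr i)) => k i
  left_inv q := by cases q <;> rfl
  right_inv q := by
    rcases q with i | i | i | i
    · fin_cases i <;> rfl
    all_goals rfl

instance : Fintype (Pos M g₁ g₂) := Fintype.ofEquiv _ (equivSum M g₁ g₂).symm

theorem sum_eq {R : Type*} [AddCommMonoid R] (f : Pos M g₁ g₂ → R) :
    ∑ q, f q = f a + f b + f u + f v + (∑ i, f (x i) + (∑ i, f (g i) + ∑ i, f (k i))) := by
  rw [← (equivSum M g₁ g₂).symm.sum_comp f, Fintype.sum_sum_type, Fintype.sum_sum_type,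
    Fintype.sum_sum_type, Fin.sum_univ_four]
  rfl

theorem card_eq : Fintype.card (Pos M g₁ g₂) = 4 + M + g₁ + g₂ := by
  rw [Fintype.card_congr (equivSum M g₁ g₂)]
  simp [add_assoc]

end Pos

/-- The ranks and numbers of extra characters that occur. -/
def Shape (l g₁ g₂ : ℕ) : Prop :=
  l = 1 ∧ g₁ = 0 ∧ g₂ = 0 ∨ l = 2 ∧ g₁ = 0 ∧ g₂ = 1 ∨ l = 3 ∧ g₁ = 1 ∧ g₂ = 1

/-- Coordinates with respect to `a b u`, reduced to rank `l`. -/
def red : (l : ℕ) → ℤ → ℤ → ℤ → Fin l → ℤ
  | 1, p, q, r => ![p + q - r]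
  | 2, p, q, r => ![p - r, q]
  | 3, p, q, r => ![p, q, r]
  | _, _, _, _ => 0

variable {M g₁ g₂ : ℕ}

/-- The rows. -/
def row (l : ℕ) : Pos M g₁ g₂ → Fin l → ℤ
  | .a => red l 1 0 0
  | .b => red l 0 1 0
  | .u => red l 0 0 1
  | .v => red l (-1) (-1) (-1)
  | .x _ => red l (-1) (-1) 0
  | .g _ => red l (-1) 0 (-1)
  | .k _ => red l 0 (-1) (-1)

/-- The positions of a basis. -/
def piv : (l : ℕ) → Fin l → Pos M g₁ g₂
  | 1 => ![.a]
  | 2 => ![.a, .b]
  | 3 => ![.a, .b, .u]
  | _ => fun _ => .a

theorem row_piv {l : ℕ} (hl : l = 1 ∨ l = 2 ∨ l = 3) (j i : Fin l) :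
    row l (piv (M := M) (g₁ := g₁) (g₂ := g₂) l j) i = if j = i then 1 else 0 := by
  rcases hl with rfl | rfl | rfl <;> fin_cases j <;> fin_cases i <;> simp [row, piv, red]

/-- The inverse Cartan matrix, times the order of the defect group. -/
def smat : (l : ℕ) → ℤ → Fin l → Fin l → ℤ
  | 1, _ => ![![1]]
  | 2, m => ![![m + 2, -m], ![-m, m + 2]]
  | 3, m => ![![2 * m + 3, -(2 * m + 1), -1], ![-(2 * m + 1), 2 * m + 3, -1],
      ![-1, -1, 2 * m + 3]]
  | _, _ => 0

/-- The normalised regular products of two rows. -/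
def yv {l : ℕ} (m : ℤ) (w w' : Fin l → ℤ) : ℤ := ∑ i, ∑ j, w i * smat l m i j * w' j

/-- The Cartan matrix in the quotient by the central involution. -/
def cbar (l m : ℕ) (i j : Fin l) : ℤ := ∑ q : Pos m 0 0, row l q i * row l q j

theorem smat_symm {l : ℕ} (hl : l = 1 ∨ l = 2 ∨ l = 3) (m : ℤ) (i j : Fin l) :
    smat l m i j = smat l m j i := by
  rcases hl with rfl | rfl | rfl <;> fin_cases i <;> fin_cases j <;> simp [smat]

theorem cbar_smat {l m : ℕ} (hl : l = 1 ∨ l = 2 ∨ l = 3) (i k : Fin l) :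
    ∑ j, cbar l m i j * smat l m j k = if i = k then 4 * ((m : ℤ) + 1) else 0 := by
  simp only [cbar, Pos.sum_eq]
  rcases hl with rfl | rfl | rfl <;> fin_cases i <;> fin_cases k <;>
    simp [row, red, smat, Fin.sum_univ_three, Fin.sum_univ_two] <;> ring

/-- The rows of the whole block have twice the Cartan matrix of the quotient. -/
theorem cart_eq {l m : ℕ} (hs : Shape l g₁ g₂) (i j : Fin l) :
    ∑ q : Pos (m + (m + 1)) g₁ g₂, row l q i * row l q j = 2 * cbar l m i j := by
  simp only [cbar, Pos.sum_eq]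
  rcases hs with ⟨rfl, rfl, rfl⟩ | ⟨rfl, rfl, rfl⟩ | ⟨rfl, rfl, rfl⟩ <;> fin_cases i <;>
    fin_cases j <;> simp [row, red] <;> ring

theorem Shape.rank {l : ℕ} (hs : Shape l g₁ g₂) : l = 1 ∨ l = 2 ∨ l = 3 := by
  rcases hs with h | h | h
  exacts [Or.inl h.1, Or.inr (Or.inl h.1), Or.inr (Or.inr h.1)]

/-- The indices of the columns. -/
abbrev Sel (M : ℕ) := Fin M ⊕ Unit ⊕ Bool

/-- The column through `a b x`. -/
abbrev Sel.V {M : ℕ} (i : Fin M) : Sel M := Sum.inl i
/-- The column through `a b u v`. -/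
abbrev Sel.C {M : ℕ} : Sel M := Sum.inr (Sum.inl ())
/-- The column through `a u g`. -/
abbrev Sel.H {M : ℕ} (t : Bool) : Sel M := Sum.inr (Sum.inr t)

/-- The columns. -/
def col : Sel M → Pos M g₁ g₂ → ℤ
  | Sum.inl i, q => if q = .a ∨ q = .b ∨ q = .x i then 1 else 0
  | Sum.inr (Sum.inl _), q => if q = .a ∨ q = .b ∨ q = .u ∨ q = .v then 1 else 0
  | Sum.inr (Sum.inr false), q => match q with
    | .a => 1
    | .u => 1
    | .g _ => 1
    | _ => 0
  | Sum.inr (Sum.inr true), q => match q with
    | .b => 1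
    | .u => 1
    | .k _ => 1
    | _ => 0

theorem gram_VV (i j : Fin M) :
    ∑ q : Pos M g₁ g₂, col (Sel.V i) q * col (Sel.V j) q = 2 + if i = j then 1 else 0 := by
  simp [Pos.sum_eq, col, Finset.sum_ite_eq']
  split_ifs <;> simp_all

theorem gram_VC (i : Fin M) : ∑ q : Pos M g₁ g₂, col (Sel.V i) q * col Sel.C q = 2 := by
  simp [Pos.sum_eq, col]

theorem gram_CC : ∑ q : Pos M g₁ g₂, col (Sel.C (M := M)) q * col Sel.C q = 4 := by
  simp [Pos.sum_eq, col]

theorem gram_VH (i : Fin M) (t : Bool) :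
    ∑ q : Pos M g₁ g₂, col (Sel.V i) q * col (Sel.H t) q = 1 := by
  cases t <;> simp [Pos.sum_eq, col]

theorem gram_CH (t : Bool) :
    ∑ q : Pos M g₁ g₂, col (Sel.C (M := M)) q * col (Sel.H t) q = 2 := by
  cases t <;> simp [Pos.sum_eq, col]

theorem gram_H1 :
    ∑ q : Pos M g₁ g₂, col (Sel.H (M := M) false) q * col (Sel.H false) q = 2 + (g₁ : ℤ) := by
  simp [Pos.sum_eq, col]

theorem gram_H2 :
    ∑ q : Pos M g₁ g₂, col (Sel.H (M := M) true) q * col (Sel.H true) q = 2 + (g₂ : ℤ) := by
  simp [Pos.sum_eq, col]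

theorem gram_H12 :
    ∑ q : Pos M g₁ g₂, col (Sel.H (M := M) false) q * col (Sel.H true) q = 1 := by
  simp [Pos.sum_eq, col]

/-- The columns kill the rows. -/
theorem col_row {l : ℕ} (hs : Shape l g₁ g₂) (s : Sel M) (j : Fin l) :
    ∑ q : Pos M g₁ g₂, col s q * row l q j = 0 := by
  rcases hs with ⟨rfl, rfl, rfl⟩ | ⟨rfl, rfl, rfl⟩ | ⟨rfl, rfl, rfl⟩ <;> fin_cases j <;>
    rcases s with i | _ | (_ | _) <;> simp [Pos.sum_eq, col, row, red, Finset.sum_ite_eq']

/-- What kills the rows is a combination of the columns. -/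
theorem exists_comb {l : ℕ} (hs : Shape l g₁ g₂) (f : Pos M g₁ g₂ → ℂ)
    (hf : ∀ j, ∑ q, f q * (row l q j : ℂ) = 0) :
    ∃ α : Sel M → ℂ, ∀ q, f q = ∑ s, α s * (col s q : ℂ) := by
  refine ⟨fun s => match s with
    | Sum.inl i => f (.x i)
    | Sum.inr (Sum.inl _) => f .v
    | Sum.inr (Sum.inr false) => if g₁ = 0 then f .a - ∑ i, f (.x i) - f .v else ∑ i, f (.g i)
    | Sum.inr (Sum.inr true) => if g₂ = 0 then f .b - ∑ i, f (.x i) - f .v else ∑ i, f (.k i),
    fun q => ?_⟩
  rw [Fintype.sum_sum_type, Fintype.sum_sum_type, Fintype.sum_bool]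
  simp only [Finset.univ_unique, Finset.sum_singleton]
  rcases hs with ⟨rfl, rfl, rfl⟩ | ⟨rfl, rfl, rfl⟩ | ⟨rfl, rfl, rfl⟩
  · have h0 := hf 0
    simp [Pos.sum_eq, row, red, ← Finset.sum_mul] at h0
    cases q with
    | a => simp [col]
    | b => simp [col]
    | u => simp [col]; linear_combination (-1 : ℂ) * h0
    | v => simp [col]
    | x i => simp [col]
    | g i => exact i.elim0
    | k i => exact i.elim0
  · have h0 := hf 0
    have h1 := hf 1
    simp [Pos.sum_eq, row, red] at h0 h1
    cases q with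
    | a => simp [col]
    | b => simp [col]; linear_combination h1
    | u => simp [col]; linear_combination (-1 : ℂ) * h0
    | v => simp [col]
    | x i => simp [col]
    | g i => exact i.elim0
    | k i => simp [col, Subsingleton.elim i 0]
  · have h0 := hf 0
    have h1 := hf 1
    have h2 := hf 2
    simp [Pos.sum_eq, row, red] at h0 h1 h2
    cases q with
    | a => simp [col]; linear_combination h0
    | b => simp [col]; linear_combination h1
    | u => simp [col]; linear_combination h2
    | v => simp [col]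
    | x i => simp [col]
    | g i => simp [col, Subsingleton.elim i 0]
    | k i => simp [col, Subsingleton.elim i 0]

/-- A vector killed by the columns is given by its values at the pivots. -/
theorem eq_row_piv {l : ℕ} (hs : Shape l g₁ g₂) (f : Pos M g₁ g₂ → ℂ)
    (hf : ∀ s, ∑ q, (col s q : ℂ) * f q = 0) (q : Pos M g₁ g₂) :
    f q = ∑ j, (row l q j : ℂ) * f (piv l j) := by
  have hV := fun i => hf (Sel.V i)
  have hC := hf Sel.C
  have hA := hf (Sel.H false)
  have hB := hf (Sel.H true)
  simp [Pos.sum_eq, col, Finset.sum_ite_eq'] at hV hC hA hB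
  rcases hs with ⟨rfl, rfl, rfl⟩ | ⟨rfl, rfl, rfl⟩ | ⟨rfl, rfl, rfl⟩
  · simp at hA hB
    cases q with
    | a => simp [row, red, piv]
    | b => simp [row, red, piv]; linear_combination hB - hA
    | u => simp [row, red, piv]; linear_combination hA
    | v => simp [row, red, piv]; linear_combination hC - hB
    | x i => simp [row, red, piv]; linear_combination hV i - hB + hA
    | g i => exact i.elim0
    | k i => exact i.elim0
  · simp at hA hB
    cases q with
    | a => simp [row, red, piv, Fin.sum_univ_two]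
    | b => simp [row, red, piv, Fin.sum_univ_two]
    | u => simp [row, red, piv, Fin.sum_univ_two]; linear_combination hA
    | v => simp [row, red, piv, Fin.sum_univ_two]; linear_combination hC - hA
    | x i => simp [row, red, piv, Fin.sum_univ_two]; linear_combination hV i
    | g i => exact i.elim0
    | k i => obtain rfl := Subsingleton.elim i 0
             simp [row, red, piv, Fin.sum_univ_two]; linear_combination hB - hA
  · simp at hA hB
    cases q with
    | a => simp [row, red, piv, Fin.sum_univ_three]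
    | b => simp [row, red, piv, Fin.sum_univ_three]
    | u => simp [row, red, piv, Fin.sum_univ_three]
    | v => simp [row, red, piv, Fin.sum_univ_three]; linear_combination hC
    | x i => simp [row, red, piv, Fin.sum_univ_three]; linear_combination hV i
    | g i => obtain rfl := Subsingleton.elim i 0
             simp [row, red, piv, Fin.sum_univ_three]; linear_combination hA
    | k i => obtain rfl := Subsingleton.elim i 0
             simp [row, red, piv, Fin.sum_univ_three]; linear_combination hB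

end Cfsg.Agent.Blocks.Quaternion
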