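import Mathlib
import Cfsg.Agent.Lib.Blocks.Dihedral.Lattice
import Cfsg.Agent.Lib.Blocks.Quaternion.Model

/-!
# Integral vectors with the products of the columns `V` and `C`

Up to signs they have the supports `a b x`, `a b u v`, or one of two exceptional shapes on at most
five indices.
-/

namespace Cfsg.Agent.Blocks.Quaternion

open Cfsg.Agent.Blocks.Dihedral (ind unit_terms three_units)

variable {α : Type*} [Fintype α] [DecidableEq α] {m : ℕ}

/-- Common signs for vectors with products `2 + δ`. -/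
theorem exists_signs {c : Fin m → α → ℤ}
    (hcc : ∀ i j, ∑ t, c i t * c j t = 2 + if i = j then 1 else 0) :
    ∃ (S : Fin m → Finset α) (σ : α → ℤ), (∀ t, σ t = 1 ∨ σ t = -1) ∧
      (∀ i, (S i).card = 3) ∧ (∀ i j, i ≠ j → (S i ∩ S j).card = 2) ∧
      ∀ i t, c i t = σ t * ind (S i) t := by
  classical
  have hu := fun i => three_units (f := c i) (by
    simp_rw [sq]; rw [hcc i i, if_pos rfl]; norm_num)
  set S : Fin m → Finset α := fun i => Finset.univ.filter fun t => c i t ≠ 0 with hS
  have hmemS : ∀ i t, t ∈ S i ↔ c i t ≠ 0 := fun i t => by simp [hS]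
  have hterm : ∀ i j, ∀ t ∈ S i ∩ S j, c i t * c j t = 1 ∨ c i t * c j t = -1 := by
    intro i j t ht
    rw [Finset.mem_inter, hmemS, hmemS] at ht
    rcases ((hu i).1 t).resolve_left ht.1 with h | h <;>
      rcases ((hu j).1 t).resolve_left ht.2 with h' | h' <;> simp [h, h']
  have hagree : ∀ i j, i ≠ j → (S i ∩ S j).card = 2 ∧ ∀ t ∈ S i ∩ S j, c i t = c j t := by
    intro i j hij
    have h := hcc i j
    rw [if_neg hij, add_zero, ← Finset.sum_subset (Finset.subset_univ (S i ∩ S j)) fun t _ ht => by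
      rw [Finset.mem_inter, hmemS, hmemS, not_and_or, not_not, not_not] at ht
      rcases ht with h | h <;> simp [h]] at h
    have hle : 2 ≤ (S i ∩ S j).card := by
      have := Finset.sum_le_card_nsmul (S i ∩ S j) (fun t => c i t * c j t) 1 fun t ht => by
        rcases hterm i j t ht with e | e <;> simp [e]
      rw [h, nsmul_eq_mul, mul_one] at this
      exact_mod_cast this
    have heven : (2 : ℤ) ∣ ((S i ∩ S j).card : ℤ) - 2 := by
      have h' : (2 : ℤ) ∣ ∑ t ∈ S i ∩ S j, (1 - c i t * c j t) :=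
        Finset.dvd_sum fun t ht => by rcases hterm i j t ht with e | e <;> simp [e]
      rwa [Finset.sum_sub_distrib, h, Finset.sum_const, nsmul_one] at h'
    have hub := Finset.card_le_card (Finset.inter_subset_left (s₁ := S i) (s₂ := S j))
    have hi3 : (S i).card = 3 := (hu i).2
    have h2 : (S i ∩ S j).card = 2 := by omega
    refine ⟨h2, ?_⟩
    obtain ⟨p, q, hpq, hI⟩ := Finset.card_eq_two.1 h2
    rw [hI, Finset.sum_pair hpq] at h
    intro t ht
    have hp := hterm i j p (by rw [hI]; simp)
    have hq := hterm i j q (by rw [hI]; simp)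
    have h1 : c i t * c j t = 1 := by
      rw [hI] at ht
      simp only [Finset.mem_insert, Finset.mem_singleton] at ht
      rcases ht with rfl | rfl <;> omega
    rcases Int.eq_one_or_neg_one_of_mul_eq_one' h1 with ⟨e, e'⟩ | ⟨e, e'⟩ <;> rw [e, e']
  refine ⟨S, fun t => if ∃ i, c i t = -1 then -1 else 1, fun t => by dsimp only; split_ifs <;> simp,
    fun i => (hu i).2, fun i j h => (hagree i j h).1, fun i t => ?_⟩
  show c i t = (if ∃ i, c i t = -1 then -1 else 1) * ind (S i) t
  by_cases ht : t ∈ S i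
  · rw [ind, if_pos ht, mul_one]
    rcases ((hu i).1 t).resolve_left ((hmemS i t).1 ht) with h | h
    · rw [h, if_neg]
      rintro ⟨j, hj⟩
      have hij : i ≠ j := fun e => by rw [e, hj] at h; norm_num at h
      have := (hagree i j hij).2 t (Finset.mem_inter.2 ⟨ht, (hmemS j t).2 (by simp [hj])⟩)
      rw [h, hj] at this
      norm_num at this
    · rw [h, if_pos ⟨i, h⟩]
  · rw [ind, if_neg ht, mul_zero]
    exact not_not.1 fun h => ht ((hmemS i t).2 h)

/-- The shape `a b x`, `a b u v`. -/
structure Frame (c : Fin m → α → ℤ) (cs : α → ℤ) where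
  ρ : Pos m 0 0 → α
  inj : Function.Injective ρ
  σ : α → ℤ
  unit : ∀ t, σ t = 1 ∨ σ t = -1
  hc : ∀ i t, c i t = σ t * ind {ρ .a, ρ .b, ρ (.x i)} t
  hs : ∀ t, cs t = σ t * ind {ρ .a, ρ .b, ρ .u, ρ .v} t

/-- The first exceptional shape, with three vectors through a common pair. -/
def Exotic (c : Fin m → α → ℤ) (cs : α → ℤ) : Prop :=
  ∃ (a b : α) (x : Fin m → α) (σ : α → ℤ), m = 3 ∧ a ≠ b ∧ (∀ i, x i ≠ a) ∧ (∀ i, x i ≠ b) ∧
    Function.Injective x ∧ (∀ t, σ t = 1 ∨ σ t = -1) ∧ (∀ i t, c i t = σ t * ind {a, b, x i} t) ∧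
    ∀ t, cs t = σ t * ind (insert a (Finset.univ.image x)) t

/-- The second exceptional shape, with three vectors without a common pair. -/
def Tetra (c : Fin m → α → ℤ) (cs : α → ℤ) : Prop :=
  ∃ (a b u v y : α) (i₀ i₁ i₂ : Fin m) (σ : α → ℤ), m = 3 ∧
    [a, b, u, v, y].Nodup ∧ [i₀, i₁, i₂].Nodup ∧
    (∀ t, σ t = 1 ∨ σ t = -1) ∧ (∀ t, c i₀ t = σ t * ind {a, b, u} t) ∧
    (∀ t, c i₁ t = σ t * ind {a, b, v} t) ∧ (∀ t, c i₂ t = σ t * ind {b, u, v} t) ∧
    ∀ t, cs t = σ t * ind {a, u, v, y} t

/-- Signs extended off a set. -/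
theorem exists_extend {σ cs : α → ℤ} (hσ : ∀ t, σ t = 1 ∨ σ t = -1) (K : Finset α) :
    ∃ σ' : α → ℤ, (∀ t, σ' t = 1 ∨ σ' t = -1) ∧ (∀ t ∈ K, σ' t = σ t) ∧
      ∀ t ∉ K, cs t = 1 ∨ cs t = -1 → cs t = σ' t := by
  refine ⟨fun t => if t ∈ K then σ t else if cs t = -1 then -1 else 1, fun t => ?_,
    fun t ht => if_pos ht, fun t ht h => ?_⟩
  · dsimp only
    split_ifs
    exacts [hσ t, Or.inr rfl, Or.inl rfl]
  · dsimp only
    rw [if_neg ht]
    rcases h with h | h <;> simp [h]

/-- The frame of a common pair whose third points lie outside `cs`. -/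
theorem frame_of_core {c : Fin m → α → ℤ} {cs σ : α → ℤ} {S : Fin m → Finset α}
    (hσ : ∀ t, σ t = 1 ∨ σ t = -1) (hc : ∀ i t, c i t = σ t * ind (S i) t)
    (hss : ∑ t, cs t ^ 2 = 4) (hns : ∀ t, cs t = 0 ∨ cs t = 1 ∨ cs t = -1)
    {a b : α} (hab : a ≠ b) {x : Fin m → α} (hxa : ∀ i, x i ≠ a) (hxb : ∀ i, x i ≠ b)
    (hx : Function.Injective x) (hS : ∀ i, S i = {a, b, x i}) (h0 : ∀ i, cs (x i) = 0)
    (ha : σ a * cs a = 1) (hb : σ b * cs b = 1) : Nonempty (Frame c cs) := by
  classical
  set K : Finset α := insert a (insert b (Finset.univ.image x)) with hK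
  have hval : ∀ t, σ t * cs t = 1 → cs t = σ t := fun t e => by
    rcases hσ t with e' | e' <;> rw [e'] at e ⊢ <;> omega
  have hca := hval a ha
  have hcb := hval b hb
  set T := (Finset.univ \ K).filter fun t => cs t ≠ 0 with hT
  have hTs : ∑ t ∈ T, cs t ^ 2 = ((2 : ℕ) : ℤ) := by
    have h1 := Finset.sum_sdiff (Finset.subset_univ K) (f := fun t => cs t ^ 2)
    rw [hss, hK, Finset.sum_insert (by simp [hab, hxa]), Finset.sum_insert (by simp [hxb]),
      Finset.sum_image fun i _ j _ h => hx h] at h1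
    simp only [h0] at h1
    have sa : cs a ^ 2 = 1 := by rw [hca]; rcases hσ a with e | e <;> simp [e]
    have sb : cs b ^ 2 = 1 := by rw [hcb]; rcases hσ b with e | e <;> simp [e]
    rw [hT, Finset.sum_filter, Finset.sum_congr rfl (g := fun t => cs t ^ 2) fun t _ => by
      by_cases h : cs t = 0 <;> simp [h], hK]
    norm_num [sa, sb] at h1 ⊢
    linarith
  obtain ⟨hTc, -⟩ := unit_terms (by norm_num) (fun t ht => (Finset.mem_filter.1 ht).2) hTs
  obtain ⟨u, v, huv, hTuv₀⟩ := Finset.card_eq_two.1 hTc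
  have hTuv : T = {u, v} := hTuv₀
  have hu : u ∈ T := by rw [hTuv]; simp
  have hv : v ∈ T := by rw [hTuv]; simp
  simp only [hT, hK, Finset.mem_filter, Finset.mem_sdiff, Finset.mem_univ, Finset.mem_insert,
    Finset.mem_image, true_and, not_or, not_exists] at hu hv
  obtain ⟨σ', hσ', hK', hout⟩ := exists_extend (cs := cs) hσ K
  refine ⟨⟨fun q => match q with
    | .a => a
    | .b => b
    | .u => u
    | .v => v
    | .x i => x i
    | .g i => i.elim0
    | .k i => i.elim0, ?_, σ', hσ', fun i t => ?_, fun t => ?_⟩⟩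
  · rintro (_ | _ | _ | _ | i | i | i) (_ | _ | _ | _ | j | j | j) h <;>
      first
        | rfl
        | exact Fin.elim0 ‹Fin 0›
        | exact congrArg Pos.x (hx h)
        | exact absurd h hab
        | exact absurd h.symm hab
        | exact absurd h huv
        | exact absurd h.symm huv
        | exact absurd h hu.1.1
        | exact absurd h.symm hu.1.1
        | exact absurd h hu.1.2.1
        | exact absurd h.symm hu.1.2.1
        | exact absurd h hv.1.1
        | exact absurd h.symm hv.1.1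
        | exact absurd h hv.1.2.1
        | exact absurd h.symm hv.1.2.1
        | exact absurd h (hxa _)
        | exact absurd h.symm (hxa _)
        | exact absurd h (hxb _)
        | exact absurd h.symm (hxb _)
        | exact absurd h (hu.1.2.2 _)
        | exact absurd h.symm (hu.1.2.2 _)
        | exact absurd h (hv.1.2.2 _)
        | exact absurd h.symm (hv.1.2.2 _)
  · rw [hc i t, hS i]
    by_cases ht : t ∈ ({a, b, x i} : Finset α)
    · rw [hK' t (by
        simp only [Finset.mem_insert, Finset.mem_singleton] at ht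
        simp only [hK, Finset.mem_insert, Finset.mem_image, Finset.mem_univ, true_and]
        rcases ht with h | h | h
        exacts [Or.inl h, Or.inr (Or.inl h), Or.inr (Or.inr ⟨i, h.symm⟩)])]
    · simp [ind, ht]
  · show cs t = σ' t * ind {a, b, u, v} t
    by_cases htK : t ∈ K
    · have ht' := htK
      simp only [hK, Finset.mem_insert, Finset.mem_image, Finset.mem_univ, true_and] at ht'
      rcases ht' with rfl | rfl | ⟨i, rfl⟩
      · rw [hK' _ htK, hca]; simp [ind]
      · rw [hK' _ htK, hcb]; simp [ind]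
      · rw [h0]
        simp [ind, hxa, hxb, Ne.symm (hu.1.2.2 i), Ne.symm (hv.1.2.2 i), hu.1.2.2, hv.1.2.2]
    · by_cases ht : t ∈ T
      · rw [hout t htK ((hns t).resolve_left (Finset.mem_filter.1 ht).2)]
        rw [hTuv] at ht
        simp only [Finset.mem_insert, Finset.mem_singleton] at ht
        rcases ht with rfl | rfl <;> simp [ind]
      · have h1 : cs t = 0 := by
          by_contra h1
          exact ht (Finset.mem_filter.2 ⟨Finset.mem_sdiff.2 ⟨Finset.mem_univ _, htK⟩, h1⟩)
        simp only [hK, Finset.mem_insert, not_or] at htK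
        rw [hTuv] at ht
        simp only [Finset.mem_insert, Finset.mem_singleton, not_or] at ht
        simp [ind, h1, htK.1, htK.2.1, ht.1, ht.2]

/-- The possible shapes. -/
theorem trichotomy {c : Fin m → α → ℤ} {cs : α → ℤ} (hm : Odd m)
    (hcc : ∀ i j, ∑ t, c i t * c j t = 2 + if i = j then 1 else 0)
    (hss : ∑ t, cs t ^ 2 = 4) (hcs : ∀ i, ∑ t, c i t * cs t = 2)
    (hns : ∀ t, cs t = 0 ∨ cs t = 1 ∨ cs t = -1) :
    Nonempty (Frame c cs) ∨ Exotic c cs ∨ Tetra c cs := by
  classical
  obtain ⟨S, σ, hσ, hcard, hint, hc⟩ := exists_signs hcc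
  set cs' : α → ℤ := fun t => σ t * cs t with hcs'
  have hsq : ∀ t, cs' t ^ 2 = cs t ^ 2 := fun t => by
    simp only [hcs', mul_pow]; rcases hσ t with e | e <;> simp [e]
  have hns' : ∀ t, cs' t = 0 ∨ cs' t = 1 ∨ cs' t = -1 := fun t => by
    simp only [hcs']
    rcases hσ t with e | e <;> rcases hns t with e' | e' | e' <;> simp [e, e']
  have hzero : ∀ t, cs' t = 0 → cs t = 0 := fun t e => by
    rcases hσ t with e' | e' <;> simp only [hcs', e'] at e <;> omega
  have hin : ∀ i, ∑ t ∈ S i, cs' t = 2 := fun i => by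
    rw [← hcs i, ← Finset.sum_subset (Finset.subset_univ (S i)) fun t _ ht => by
      rw [hc, ind, if_neg ht]; ring]
    refine Finset.sum_congr rfl fun t ht => ?_
    rw [hc, ind, if_pos ht, mul_one]
  rcases Nat.lt_or_ge m 2 with hm2 | hm2
  · -- one vector
    left
    have hm1 : m = 1 := by obtain ⟨k, hk⟩ := hm; omega
    subst hm1
    obtain ⟨p, q, w, hpq, hpw, hqw, hS⟩ := Finset.card_eq_three.1 (hcard 0)
    have h := hin 0
    rw [hS, Finset.sum_insert (by simp [hpq, hpw]), Finset.sum_insert (by simp [hqw]),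
      Finset.sum_singleton] at h
    have hSi : ∀ i : Fin 1, S i = S 0 := fun i => by rw [Subsingleton.elim i 0]
    obtain ⟨a, b, z, hab, hza, hzb, hSabz, ha, hb, hz⟩ : ∃ a b z, a ≠ b ∧ z ≠ a ∧ z ≠ b ∧
        S 0 = {a, b, z} ∧ cs' a = 1 ∧ cs' b = 1 ∧ cs' z = 0 := by
      rcases hns' p with e | e | e <;> rcases hns' q with e' | e' | e' <;>
        rcases hns' w with e'' | e'' | e'' <;> try omega
      · exact ⟨q, w, p, hqw, hpq, hpw, by rw [hS]; ext; simp; tauto, e', e'', e⟩
      · exact ⟨p, w, q, hpw, hpq.symm, hqw, by rw [hS]; ext; simp; tauto, e, e'', e'⟩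
      · exact ⟨p, q, w, hpq, hpw.symm, hqw.symm, hS, e, e', e''⟩
    exact frame_of_core hσ hc hss hns hab (x := fun _ => z) (fun _ => hza) (fun _ => hzb)
      (fun i j _ => Subsingleton.elim i j) (fun i => by rw [hSi, hSabz]) (fun _ => hzero z hz) ha hb
  have hm3 : 3 ≤ m := by obtain ⟨k, hk⟩ := hm; omega
  set i₀ : Fin m := ⟨0, by omega⟩
  set i₁ : Fin m := ⟨1, by omega⟩
  have h01 : i₀ ≠ i₁ := by simp [i₀, i₁, Fin.ext_iff]
  obtain ⟨a, b, hab, hI⟩ := Finset.card_eq_two.1 (hint i₀ i₁ h01)
  by_cases hcore : ∀ i, a ∈ S i ∧ b ∈ S i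
  · -- a common pair
    have hsub : ∀ i, ({a, b} : Finset α) ⊆ S i := fun i => by
      simp [Finset.insert_subset_iff, (hcore i).1, (hcore i).2]
    have hx : ∀ i, ∃ x, S i \ {a, b} = {x} := fun i => Finset.card_eq_one.1 (by
      have := Finset.card_sdiff_add_card_eq_card (hsub i)
      rw [hcard, Finset.card_pair hab] at this
      omega)
    choose x hx' using hx
    have hxm : ∀ i, x i ∈ S i \ {a, b} := fun i => by rw [hx']; exact Finset.mem_singleton_self _
    have hxa : ∀ i, x i ≠ a := fun i h => (Finset.mem_sdiff.1 (hxm i)).2 (by simp [h])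
    have hxb : ∀ i, x i ≠ b := fun i h => (Finset.mem_sdiff.1 (hxm i)).2 (by simp [h])
    have hS : ∀ i, S i = {a, b, x i} := fun i => by
      have := Finset.sdiff_union_of_subset (hsub i)
      rw [hx'] at this
      rw [← this]
      ext; simp; tauto
    have hinj : Function.Injective x := fun i j h => by_contra fun hij => by
      have h2 := hint i j hij
      rw [hS i, hS j, h, Finset.inter_self, ← h, ← hS i, hcard] at h2
      omega
    have hγ : ∀ i, cs' (x i) = 2 - cs' a - cs' b := fun i => by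
      have h := hin i
      rw [hS, Finset.sum_insert (by simp [hab, (hxa i).symm]),
        Finset.sum_insert (by simp [(hxb i).symm]), Finset.sum_singleton] at h
      omega
    have hq := Finset.sum_le_sum_of_subset_of_nonneg
      (Finset.subset_univ (insert a (insert b (Finset.univ.image x))))
      (f := fun t => cs' t ^ 2) fun t _ _ => sq_nonneg _
    rw [Finset.sum_insert (by simp [hab, hxa]), Finset.sum_insert (by simp [hxb]),
      Finset.sum_image fun i _ j _ h => hinj h] at hq
    rw [Finset.sum_congr rfl (fun t _ => hsq t) (s₁ := Finset.univ), hss] at hq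
    simp only [hγ, Finset.sum_const, Finset.card_univ, Fintype.card_fin, nsmul_eq_mul] at hq
    have hm' : (3 : ℤ) ≤ m := by exact_mod_cast hm3
    have hg := hns' (x i₀)
    rw [hγ] at hg
    rcases hg with eg | eg | eg
    · left
      have e : cs' a = 1 ∧ cs' b = 1 := by
        rcases hns' a with e | e | e <;> rcases hns' b with e' | e' | e' <;> omega
      exact frame_of_core hσ hc hss hns hab hxa hxb hinj hS
        (fun i => hzero _ ((hγ i).trans eg)) e.1 e.2
    · right; left
      rw [eg] at hq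
      have hsum : cs' a + cs' b = 1 := by omega
      have hmm : m = 3 := by
        have : cs' a ^ 2 + cs' b ^ 2 = 1 := by
          rcases hns' a with e | e | e <;> rcases hns' b with e' | e' | e' <;>
            first | omega | (rw [e, e']; norm_num)
        have : (m : ℤ) ≤ 3 := by linarith
        omega
      subst hmm
      suffices main : ∀ a b, a ≠ b → (∀ i, x i ≠ a) → (∀ i, x i ≠ b) →
          (∀ i, S i = {a, b, x i}) → cs' a = 1 → cs' b = 0 → (∀ i, cs' (x i) = 1) →
          Exotic c cs by
        rcases hns' a with e | e | e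
        · exact main b a hab.symm hxb hxa (fun i => by rw [hS]; ext; simp; tauto) (by omega) e
            fun i => (hγ i).trans eg
        · exact main a b hab hxa hxb hS e (by omega) fun i => (hγ i).trans eg
        · rcases hns' b with e' | e' | e' <;> omega
      clear hsum hq hγ eg hsub hxm hx' hcore hI hab hxa hxb hS
      intro a b hab hxa hxb hS ha hb hx1
      obtain ⟨σ', hσ', hK', -⟩ := exists_extend (cs := cs) hσ
        (insert a (insert b (Finset.univ.image x)))
      refine ⟨a, b, x, σ', rfl, hab, hxa, hxb, hinj, hσ', fun i t => ?_, fun t => ?_⟩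
      · rw [hc i t, hS i]
        by_cases ht : t ∈ ({a, b, x i} : Finset α)
        · rw [hK' t (by
            simp only [Finset.mem_insert, Finset.mem_singleton] at ht
            simp only [Finset.mem_insert, Finset.mem_image, Finset.mem_univ, true_and]
            rcases ht with h | h | h
            exacts [Or.inl h, Or.inr (Or.inl h), Or.inr (Or.inr ⟨i, h.symm⟩)])]
        · simp [ind, ht]
      · by_cases ht : t ∈ insert a (Finset.univ.image x)
        · rw [ind, if_pos ht, mul_one, hK' t (Finset.insert_subset_insert _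
            (Finset.subset_insert _ _) ht)]
          have : cs' t = 1 := by
            simp only [Finset.mem_insert, Finset.mem_image, Finset.mem_univ, true_and] at ht
            rcases ht with rfl | ⟨i, rfl⟩
            exacts [ha, hx1 i]
          rcases hσ t with e | e <;> simp only [hcs', e] at this <;> omega
        · rw [ind, if_neg ht, mul_zero]
          have h4 := Finset.sum_le_sum_of_subset_of_nonneg
            (Finset.subset_univ (insert t (insert a (Finset.univ.image x))))
            (f := fun t => cs t ^ 2) fun t _ _ => sq_nonneg _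
          rw [Finset.sum_insert ht, Finset.sum_insert (by simp [hxa]),
            Finset.sum_image fun i _ j _ h => hinj h, hss] at h4
          simp only [← hsq, ha, hx1] at h4
          rw [hsq] at h4
          norm_num at h4
          rcases hns t with e | e | e <;> simp [e] at h4 ⊢
    · exfalso
      rcases hns' a with e | e | e <;> rcases hns' b with e' | e' | e' <;> omega
  -- no common pair
  right; right
  push Not at hcore
  obtain ⟨l, hl⟩ := hcore
  wlog ha : a ∉ S l generalizing a b with H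
  · exact H b a hab.symm (by rw [hI, Finset.pair_comm]) (fun hb => absurd hb (hl (not_not.1 ha)))
      (hl (not_not.1 ha))
  clear hl
  have hmem : a ∈ S i₀ ∧ a ∈ S i₁ ∧ b ∈ S i₀ ∧ b ∈ S i₁ := by
    have ha' : a ∈ S i₀ ∩ S i₁ := by rw [hI]; simp
    have hb' : b ∈ S i₀ ∩ S i₁ := by rw [hI]; simp
    exact ⟨(Finset.mem_inter.1 ha').1, (Finset.mem_inter.1 ha').2, (Finset.mem_inter.1 hb').1,
      (Finset.mem_inter.1 hb').2⟩
  have hpick : ∀ i, a ∈ S i → (S i).erase a ⊆ S l := fun i hi => by
    have hne' : l ≠ i := fun h => ha (h ▸ hi)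
    have h1 : S l ∩ S i ⊆ (S i).erase a := fun t ht => by
      obtain ⟨ht1, ht2⟩ := Finset.mem_inter.1 ht
      exact Finset.mem_erase.2 ⟨fun h => ha (h ▸ ht1), ht2⟩
    rw [← Finset.eq_of_subset_of_card_le h1 (by
      rw [Finset.card_erase_of_mem hi, hcard, hint l i hne'])]
    exact Finset.inter_subset_left
  have hbl : b ∈ S l := hpick i₀ hmem.1 (Finset.mem_erase.2 ⟨hab.symm, hmem.2.2.1⟩)
  have hthird : ∀ i, a ∈ S i → b ∈ S i → ∃ u, u ≠ a ∧ u ≠ b ∧ S i = {a, b, u} ∧ u ∈ S l := by
    intro i hia hib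
    have hsub : ({a, b} : Finset α) ⊆ S i := by simp [Finset.insert_subset_iff, hia, hib]
    obtain ⟨u, hu⟩ := Finset.card_eq_one.1 (show (S i \ {a, b}).card = 1 by
      have := Finset.card_sdiff_add_card_eq_card hsub
      rw [hcard, Finset.card_pair hab] at this
      omega)
    have hum : u ∈ S i \ {a, b} := by rw [hu]; exact Finset.mem_singleton_self _
    obtain ⟨hu1, hu2⟩ := Finset.mem_sdiff.1 hum
    simp only [Finset.mem_insert, Finset.mem_singleton, not_or] at hu2
    refine ⟨u, hu2.1, hu2.2, ?_, hpick i hia (Finset.mem_erase.2 ⟨hu2.1, hu1⟩)⟩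
    have := Finset.sdiff_union_of_subset hsub
    rw [hu] at this
    rw [← this]
    ext; simp; tauto
  obtain ⟨u, hua, hub, hS0, hul⟩ := hthird i₀ hmem.1 hmem.2.2.1
  obtain ⟨v, hva, hvb, hS1, hvl⟩ := hthird i₁ hmem.2.1 hmem.2.2.2
  have huv : u ≠ v := fun h => by
    have := hint i₀ i₁ h01
    rw [hS0, hS1, h, Finset.inter_self, ← h, ← hS0, hcard] at this
    omega
  have hSl : S l = {b, u, v} := by
    refine (Finset.eq_of_subset_of_card_le ?_ ?_).symm
    · simp [Finset.insert_subset_iff, hbl, hul, hvl]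
    · rw [hcard, Finset.card_insert_of_notMem (by simp [hub.symm, hvb.symm]),
        Finset.card_pair huv]
  have hl0 : l ≠ i₀ := fun h => ha (h ▸ hmem.1)
  have hl1 : l ≠ i₁ := fun h => ha (h ▸ hmem.2.1)
  have hfour : ∀ i, i ≠ i₀ → i ≠ i₁ → i ≠ l → S i = {a, u, v} := by
    intro i hi0 hi1 hil
    have hai : a ∈ S i := by
      by_contra hai
      have : S l ⊆ S i := by
        have key : ∀ j, a ∈ S j → i ≠ j → (S j).erase a ⊆ S i := fun j hj hij => by
          have h1 : S i ∩ S j ⊆ (S j).erase a := fun t ht => by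
            obtain ⟨ht1, ht2⟩ := Finset.mem_inter.1 ht
            exact Finset.mem_erase.2 ⟨fun h => hai (h ▸ ht1), ht2⟩
          rw [← Finset.eq_of_subset_of_card_le h1 (by
            rw [Finset.card_erase_of_mem hj, hcard, hint i j hij])]
          exact Finset.inter_subset_left
        rw [hSl]
        simp only [Finset.insert_subset_iff, Finset.singleton_subset_iff]
        exact ⟨key i₀ hmem.1 hi0 (Finset.mem_erase.2 ⟨hab.symm, hmem.2.2.1⟩),
          key i₀ hmem.1 hi0 (Finset.mem_erase.2 ⟨hua, by simp [hS0]⟩),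
          key i₁ hmem.2.1 hi1 (Finset.mem_erase.2 ⟨hva, by simp [hS1]⟩)⟩
      have h2 := hint l i (Ne.symm hil)
      rw [Finset.inter_eq_left.2 this, hcard] at h2
      omega
    have hbi : b ∉ S i := by
      intro hbi
      obtain ⟨y, hya, hyb, hSi, hyl⟩ := hthird i hai hbi
      rw [hSl] at hyl
      simp only [Finset.mem_insert, Finset.mem_singleton] at hyl
      rcases hyl with h | h | h
      · exact hyb h
      · have h2 := hint i i₀ hi0
        rw [hSi, hS0, h, Finset.inter_self, ← hS0, hcard] at h2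
        omega
      · have h2 := hint i i₁ hi1
        rw [hSi, hS1, h, Finset.inter_self, ← hS1, hcard] at h2
        omega
    have hsl := hpick i hai
    refine Finset.eq_of_subset_of_card_le (fun t ht => ?_) ?_
    · by_cases hta : t = a
      · simp [hta]
      have h3 := hsl (Finset.mem_erase.2 ⟨hta, ht⟩)
      rw [hSl] at h3
      simp only [Finset.mem_insert, Finset.mem_singleton] at h3 ⊢
      rcases h3 with h | h | h
      · exact absurd (h ▸ ht) hbi
      · exact Or.inr (Or.inl h)
      · exact Or.inr (Or.inr h)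
    · rw [hcard]
      exact Finset.card_le_three
  have hmm : m = 3 := by
    by_contra hne4
    have hm5 : 5 ≤ m := by obtain ⟨k, hk⟩ := hm; omega
    have hbig : 1 < (Finset.univ \ ({i₀, i₁, l} : Finset (Fin m))).card := by
      have := Finset.card_sdiff_add_card_eq_card (Finset.subset_univ ({i₀, i₁, l} : Finset (Fin m)))
      rw [Finset.card_univ, Fintype.card_fin] at this
      have := (Finset.card_le_three (a := i₀) (b := i₁) (c := l))
      omega
    obtain ⟨i, hi, j, hj, hij⟩ := Finset.one_lt_card.1 hbig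
    simp only [Finset.mem_sdiff, Finset.mem_univ, true_and, Finset.mem_insert,
      Finset.mem_singleton, not_or] at hi hj
    have h2 := hint i j hij
    rw [hfour i hi.1 hi.2.1 hi.2.2, hfour j hj.1 hj.2.1 hj.2.2, Finset.inter_self,
      ← hfour i hi.1 hi.2.1 hi.2.2, hcard] at h2
    omega
  -- the values of `cs`
  have e0 := hin i₀
  have e1 := hin i₁
  have e2 := hin l
  rw [hS0, Finset.sum_insert (by simp [hab, hua.symm]), Finset.sum_insert (by simp [hub.symm]),
    Finset.sum_singleton] at e0
  rw [hS1, Finset.sum_insert (by simp [hab, hva.symm]), Finset.sum_insert (by simp [hvb.symm]),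
    Finset.sum_singleton] at e1
  rw [hSl, Finset.sum_insert (by simp [hub.symm, hvb.symm]), Finset.sum_insert (by simp [huv]),
    Finset.sum_singleton] at e2
  obtain ⟨va, vb, vu, vv⟩ : cs' a = 1 ∧ cs' b = 0 ∧ cs' u = 1 ∧ cs' v = 1 := by
    rcases hns' a with e | e | e <;> rcases hns' b with e' | e' | e' <;> omega
  set K : Finset α := {a, b, u, v} with hK
  have hTs : ∑ t ∈ (Finset.univ \ K).filter (fun t => cs t ≠ 0), cs t ^ 2 = ((1 : ℕ) : ℤ) := by
    have h1 := Finset.sum_sdiff (Finset.subset_univ K) (f := fun t => cs t ^ 2)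
    rw [hss, hK, Finset.sum_insert (by simp [hab, hua.symm, hva.symm]),
      Finset.sum_insert (by simp [hub.symm, hvb.symm]), Finset.sum_pair huv] at h1
    rw [Finset.sum_filter, Finset.sum_congr rfl (g := fun t => cs t ^ 2) fun t _ => by
      by_cases h : cs t = 0 <;> simp [h], hK]
    simp only [← hsq, va, vb, vu, vv] at h1
    simp only [← hsq]
    norm_num at h1 ⊢
    linarith
  obtain ⟨hTc, hTu⟩ := unit_terms (by norm_num) (fun t ht => (Finset.mem_filter.1 ht).2) hTs
  obtain ⟨y, hy⟩ := Finset.card_eq_one.1 hTc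
  have hyT : y ∈ (Finset.univ \ K).filter (fun t => cs t ≠ 0) := by rw [hy]; simp
  have hyK : y ∉ K := (Finset.mem_sdiff.1 (Finset.mem_filter.1 hyT).1).2
  obtain ⟨σ', hσ', hK', hout⟩ := exists_extend (cs := cs) hσ K
  have hyn := hyK
  simp only [hK, Finset.mem_insert, Finset.mem_singleton, not_or] at hyn
  have hSK : ∀ i, S i ⊆ K → ∀ t, c i t = σ' t * ind (S i) t := fun i hi t => by
    rw [hc]
    by_cases ht : t ∈ S i
    · rw [hK' t (hi ht)]
    · simp [ind, ht]
  refine ⟨a, b, u, v, y, i₀, i₁, l, σ', hmm, ?_, ?_, hσ', ?_, ?_, ?_, fun t => ?_⟩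
  · simp [hab, hua.symm, hva.symm, hub.symm, hvb.symm, huv, Ne.symm hyn.1, Ne.symm hyn.2.1,
      Ne.symm hyn.2.2.1, Ne.symm hyn.2.2.2]
  · simp [h01, hl0.symm, hl1.symm]
  · rw [← hS0]; exact hSK i₀ (by rw [hS0, hK]; simp [Finset.insert_subset_iff])
  · rw [← hS1]; exact hSK i₁ (by rw [hS1, hK]; simp [Finset.insert_subset_iff])
  · rw [← hSl]; exact hSK l (by rw [hSl, hK]; simp [Finset.insert_subset_iff])
  by_cases htK : t ∈ K
  · have ht' := htK
    simp only [hK, Finset.mem_insert, Finset.mem_singleton] at ht'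
    rw [hK' t htK]
    have hval : ∀ s, cs' s = 1 → cs s = σ s := fun s e => by
      rcases hσ s with e' | e' <;> simp only [hcs', e'] at e ⊢ <;> omega
    rcases ht' with rfl | rfl | rfl | rfl
    · rw [hval _ va]; simp [ind]
    · rw [hzero _ vb]; simp [ind, hab.symm, hub.symm, hvb.symm, Ne.symm hyn.2.1]
    · rw [hval _ vu]; simp [ind]
    · rw [hval _ vv]; simp [ind]
  · by_cases hty : t = y
    · subst hty
      rw [hout t htK ((hns t).resolve_left (Finset.mem_filter.1 hyT).2)]
      simp [ind]
    · have h0 : cs t = 0 := by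
        by_contra h1
        have : t ∈ ({y} : Finset α) := hy ▸ Finset.mem_filter.2
          ⟨Finset.mem_sdiff.2 ⟨Finset.mem_univ _, htK⟩, h1⟩
        exact hty (Finset.mem_singleton.1 this)
      simp only [hK, Finset.mem_insert, Finset.mem_singleton, not_or] at htK
      simp [ind, h0, htK.1, htK.2.2.1, htK.2.2.2, hty]

end Cfsg.Agent.Blocks.Quaternion
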