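import Mathlib
import Cfsg.Agent.Lib.Blocks.Dihedral.Group

/-!
# Generalized quaternion 2-subgroups: elements, centralisers, the quotient by the involution
-/

set_option linter.style.haveILetI false
set_option linter.unusedSectionVars false

namespace Cfsg.Agent.Blocks.Quaternion

universe u v

variable {G : Type u} [Group G] [Finite G]

/-- The subgroup is generalized quaternion of order `2 N` with `r` of order `N`. -/
structure IsQuat (D : Subgroup G) (r : D) (N : ℕ) : Prop where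
  ord : orderOf r = N
  pow : ∃ j, 2 ≤ j ∧ N = 2 ^ j
  card : Nat.card D = 2 * N
  sq : ∀ w : D, w ∉ Subgroup.zpowers r → w * w = r ^ (N / 2)
  inv : ∀ w : D, w ∉ Subgroup.zpowers r → w * r * w⁻¹ = r⁻¹

theorem exists_isQuat {D : Subgroup G} {n : ℕ} (hn : 3 ≤ n)
    (hq : Nonempty (D ≃* QuaternionGroup (2 ^ (n - 2)))) :
    ∃ r : D, IsQuat D r (2 ^ (n - 1)) := by
  obtain ⟨φ⟩ := hq
  set k := 2 ^ (n - 2) with hk
  haveI : NeZero k := ⟨pow_ne_zero _ two_ne_zero⟩
  have hN : 2 ^ (n - 1) = 2 * k := by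
    rw [hk, ← pow_succ', show n - 2 + 1 = n - 1 by omega]
  rw [hN]
  have hsr : ∀ w : D, w ∉ Subgroup.zpowers (φ.symm (QuaternionGroup.a 1)) →
      ∃ i, φ w = QuaternionGroup.xa i := by
    intro w hw
    cases h : φ w with
    | xa i => exact ⟨i, rfl⟩
    | a i =>
      refine absurd ?_ hw
      refine Subgroup.mem_zpowers_iff.2 ⟨(i.val : ℤ), φ.injective ?_⟩
      rw [zpow_natCast, map_pow, φ.apply_symm_apply, QuaternionGroup.a_one_pow, h,
        ZMod.natCast_val, ZMod.cast_id]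
  refine ⟨φ.symm (QuaternionGroup.a 1), ?_, ⟨n - 1, by omega, hN.symm⟩, ?_, fun w hw => ?_,
    fun w hw => ?_⟩
  · rw [φ.symm.orderOf_eq, QuaternionGroup.orderOf_a_one]
  · rw [Nat.card_congr φ.toEquiv, Nat.card_eq_fintype_card, QuaternionGroup.card]
    ring
  all_goals obtain ⟨i, hi⟩ := hsr w hw
  · refine φ.injective ?_
    rw [map_mul, hi, map_pow, φ.apply_symm_apply, QuaternionGroup.a_one_pow,
      show 2 * k / 2 = k by omega, QuaternionGroup.xa_mul_xa]
    congr 1
    ring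
  · refine φ.injective ?_
    rw [map_mul, map_mul, map_inv, map_inv, φ.apply_symm_apply, hi, mul_inv_eq_iff_eq_mul,
      eq_inv_mul_iff_mul_eq, QuaternionGroup.xa_mul_a, QuaternionGroup.a_mul_xa]
    congr 1
    ring

namespace IsQuat

variable {D : Subgroup G} {r : D} {N : ℕ} (h : IsQuat D r N)
include h

theorem four_le : 4 ≤ N := by
  obtain ⟨j, hj, rfl⟩ := h.pow
  calc (4 : ℕ) = 2 ^ 2 := rfl
    _ ≤ 2 ^ j := Nat.pow_le_pow_right two_pos hj

theorem four_dvd : 4 ∣ N := by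
  obtain ⟨j, hj, rfl⟩ := h.pow
  exact pow_dvd_pow 2 hj

theorem card_R : Nat.card (Subgroup.zpowers r) = N := by rw [Nat.card_zpowers, h.ord]

theorem exists_out : ∃ w : D, w ∉ Subgroup.zpowers r := by
  by_contra hcon
  push Not at hcon
  have h1 : Subgroup.zpowers r = ⊤ := (Subgroup.eq_top_iff' _).2 hcon
  have h2 := h.card_R
  rw [h1, Subgroup.card_top, h.card] at h2
  have := h.four_le
  omega

theorem comm {t t' : D} (ht : t ∈ Subgroup.zpowers r) (ht' : t' ∈ Subgroup.zpowers r) :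
    t * t' = t' * t := by
  obtain ⟨k, rfl⟩ := Subgroup.mem_zpowers_iff.1 ht
  obtain ⟨l, rfl⟩ := Subgroup.mem_zpowers_iff.1 ht'
  rw [← zpow_add, add_comm, zpow_add]

theorem inv_mem {w t : D} (hw : w ∉ Subgroup.zpowers r) (ht : t ∈ Subgroup.zpowers r) :
    w * t * w⁻¹ = t⁻¹ := by
  obtain ⟨k, rfl⟩ := Subgroup.mem_zpowers_iff.1 ht
  rw [← conj_zpow, h.inv w hw, inv_zpow]

theorem conj_mem {t : D} (ht : t ∈ Subgroup.zpowers r) (w : D) :
    w * t * w⁻¹ = t ∨ w * t * w⁻¹ = t⁻¹ := by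
  by_cases hw : w ∈ Subgroup.zpowers r
  · exact Or.inl (by rw [h.comm hw ht, mul_inv_cancel_right])
  · exact Or.inr (h.inv_mem hw ht)

theorem pow_inj {a b : ℕ} (ha : a < N) (hb : b < N) : r ^ a = r ^ b ↔ a = b :=
  ⟨fun e => pow_injOn_Iio_orderOf (h.ord.symm ▸ ha) (h.ord.symm ▸ hb) e, fun e => by rw [e]⟩

theorem pow_eq_one {a : ℕ} : r ^ a = 1 ↔ N ∣ a := by
  rw [← orderOf_dvd_iff_pow_eq_one, h.ord]

theorem mul_mem_R {w w' : D} (hw : w ∉ Subgroup.zpowers r) (hw' : w' ∉ Subgroup.zpowers r) :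
    w * w' ∈ Subgroup.zpowers r := by
  by_contra hu
  have h1 := h.inv _ hu
  rw [show w * w' * r * (w * w')⁻¹ = w * (w' * r * w'⁻¹) * w⁻¹ by group, h.inv w' hw',
    show w * r⁻¹ * w⁻¹ = (w * r * w⁻¹)⁻¹ by group, h.inv w hw, inv_inv] at h1
  have h2 : r ^ 2 = 1 := by rw [pow_two]; exact eq_inv_iff_mul_eq_one.1 h1
  have := Nat.le_of_dvd two_pos (h.ord ▸ orderOf_dvd_of_pow_eq_one h2)
  have := h.four_le
  omega

theorem z_facts : (r ^ (N / 2) : D) ≠ 1 ∧ (r ^ (N / 2) : D) * r ^ (N / 2) = 1 := by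
  have h2 := h.four_dvd
  have h4 := h.four_le
  refine ⟨pow_ne_one_of_lt_orderOf (by omega) (by rw [h.ord]; omega), ?_⟩
  rw [← pow_add, show N / 2 + N / 2 = N by omega, ← h.ord, pow_orderOf_eq_one]

theorem z_inv : (r ^ (N / 2) : D)⁻¹ = r ^ (N / 2) := inv_eq_of_mul_eq_one_left h.z_facts.2

theorem z_central (w : D) : w * r ^ (N / 2) = r ^ (N / 2) * w := by
  have hz : r ^ (N / 2) ∈ Subgroup.zpowers r := Subgroup.npow_mem_zpowers _ _
  rcases h.conj_mem hz w with e | e
  · exact mul_inv_eq_iff_eq_mul.1 e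
  · rw [h.z_inv] at e
    exact mul_inv_eq_iff_eq_mul.1 e

/-- The only involution. -/
theorem sq_eq_one {t : D} (h2 : t * t = 1) : t = 1 ∨ t = r ^ (N / 2) := by
  have ht : t ∈ Subgroup.zpowers r := by_contra fun ht => h.z_facts.1 (h.sq t ht ▸ h2)
  obtain ⟨k, hk, rfl⟩ : ∃ k, k < N ∧ r ^ k = t := by
    obtain ⟨k, hk⟩ := mem_powers_iff_mem_zpowers.2 ht
    exact ⟨k % N, Nat.mod_lt _ (by have := h.four_le; omega), by
      rw [← h.ord, pow_mod_orderOf]; exact hk⟩
  rw [← pow_add, h.pow_eq_one] at h2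
  obtain ⟨c, hc⟩ := h2
  have hc2 : c < 2 := by
    by_contra hcc
    have := Nat.mul_le_mul (le_refl N) (show 2 ≤ c by omega)
    omega
  interval_cases c
  · exact Or.inl (by rw [show k = 0 by omega, pow_zero])
  · exact Or.inr (by rw [show k = N / 2 by omega])

theorem pow_two_pow (t : D) : ∃ k : ℕ, t ^ 2 ^ k = 1 := by
  obtain ⟨j, -, hj⟩ := h.pow
  refine ⟨j + 1, ?_⟩
  rw [pow_succ', ← hj, ← h.card, pow_card_eq_one']

theorem isPGroup : IsPGroup 2 D := isPGroup_iff_pow_pow_eq_one.2 h.pow_two_pow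

theorem z_mem_zpowers {t : D} (h1 : t ≠ 1) : r ^ (N / 2) ∈ Subgroup.zpowers t := by
  obtain ⟨k, hk⟩ := h.pow_two_pow t
  induction k generalizing t with
  | zero => exact absurd (by simpa using hk) h1
  | succ k ih =>
    by_cases h2 : t * t = 1
    · rcases h.sq_eq_one h2 with e | e
      · exact absurd e h1
      · rw [← e]; exact Subgroup.mem_zpowers t
    · have h3 := ih h2 (by rw [← pow_two, ← pow_mul, ← pow_succ']; exact hk)
      exact Subgroup.zpowers_le.2 (mul_mem (Subgroup.mem_zpowers t) (Subgroup.mem_zpowers t)) h3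

/-- The elements commuting with one of order at least four form a cyclic group. -/
theorem exists_cent {t : D} (ht2 : t * t ≠ 1) :
    ∃ c : D, ∀ u : D, u * t = t * u → u ∈ Subgroup.zpowers c := by
  by_cases ht : t ∈ Subgroup.zpowers r
  · refine ⟨r, fun u hu => by_contra fun hn => ht2 ?_⟩
    have := h.inv_mem hn ht
    rw [hu, mul_inv_cancel_right] at this
    exact eq_inv_iff_mul_eq_one.1 this
  have hzt : r ^ (N / 2) ∈ Subgroup.zpowers t := by
    rw [← h.sq t ht]
    exact mul_mem (Subgroup.mem_zpowers t) (Subgroup.mem_zpowers t)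
  have key : ∀ u ∈ Subgroup.zpowers r, u * t = t * u → u ∈ Subgroup.zpowers t := fun u hu e => by
    have := h.inv_mem ht hu
    rw [← e, mul_inv_cancel_right] at this
    rcases h.sq_eq_one (eq_inv_iff_mul_eq_one.1 this) with e' | e'
    · rw [e']; exact one_mem _
    · rw [e']; exact hzt
  refine ⟨t, fun u hu => ?_⟩
  by_cases hu' : u ∈ Subgroup.zpowers r
  · exact key u hu' hu
  have hti : t⁻¹ ∉ Subgroup.zpowers r := fun hin => ht (inv_inv t ▸ Subgroup.inv_mem _ hin)
  have h1 := key (t⁻¹ * u) (h.mul_mem_R hti hu') (by rw [mul_assoc, hu]; group)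
  have := mul_mem (Subgroup.mem_zpowers t) h1
  rwa [mul_inv_cancel_left] at this

theorem exists_i4 : (r ^ (N / 4) : D) * r ^ (N / 4) = r ^ (N / 2) ∧
    ∃ w : D, w * r ^ (N / 4) * w⁻¹ = r ^ (N / 4) * r ^ (N / 2) := by
  have h4 := h.four_dvd
  have e : (r ^ (N / 4) : D) * r ^ (N / 4) = r ^ (N / 2) := by
    rw [← pow_add]; congr 1; omega
  refine ⟨e, ?_⟩
  obtain ⟨w, hw⟩ := h.exists_out
  refine ⟨w, ?_⟩
  rw [h.inv_mem hw (Subgroup.npow_mem_zpowers r _)]
  refine inv_eq_of_mul_eq_one_right ?_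
  rw [← mul_assoc, e, h.z_facts.2]

/-- The image of the quaternion group under a map killing exactly the involution is dihedral. -/
theorem map_isDih {K : Type v} [Group K] [Finite K] (f : G →* K)
    (hf : ∀ d : D, f d = 1 ↔ d = 1 ∨ d = r ^ (N / 2)) (h8 : 8 ≤ N) :
    Dihedral.IsDih (D.map f) ⟨f r, Subgroup.mem_map_of_mem f r.2⟩ (N / 2) := by
  set g : D →* D.map f := f.subgroupMap D
  have hgs : Function.Surjective g := f.subgroupMap_surjective D
  have hker : ∀ d : D, g d = 1 ↔ d = 1 ∨ d = r ^ (N / 2) := fun d => by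
    rw [← hf d, Subtype.ext_iff]; rfl
  have hgr : (⟨f r, Subgroup.mem_map_of_mem f r.2⟩ : D.map f) = g r := rfl
  rw [hgr]
  have h4 := h.four_dvd
  have hout : ∀ w : D.map f, w ∉ Subgroup.zpowers (g r) →
      ∃ d : D, d ∉ Subgroup.zpowers r ∧ g d = w := by
    intro w hw
    obtain ⟨d, rfl⟩ := hgs w
    refine ⟨d, fun hd => hw ?_, rfl⟩
    obtain ⟨i, rfl⟩ := Subgroup.mem_zpowers_iff.1 hd
    exact ⟨i, (map_zpow g r i).symm⟩
  obtain ⟨j, hj, hjN⟩ := h.pow
  refine ⟨?_, ⟨j - 1, ?_, ?_⟩, ?_, fun w hw => ?_, fun w hw => ?_⟩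
  · refine Nat.dvd_antisymm (orderOf_dvd_of_pow_eq_one ?_) ?_
    · rw [← map_pow]; exact (hker _).2 (Or.inr rfl)
    have h1 := pow_orderOf_eq_one (g r)
    rw [← map_pow, hker] at h1
    rcases h1 with e | e
    · exact (Nat.div_dvd_of_dvd (dvd_trans (by norm_num) h4)).trans (h.pow_eq_one.1 e)
    · have e2 : r ^ (2 * orderOf (g r)) = 1 := by rw [mul_comm, pow_mul, e, pow_two, h.z_facts.2]
      have e3 := h.pow_eq_one.1 e2
      rw [show N = 2 * (N / 2) by omega] at e3
      exact Nat.dvd_of_mul_dvd_mul_left two_pos e3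
  · have : 2 < j := (Nat.pow_lt_pow_iff_right one_lt_two).1 (by rw [← hjN]; omega)
    omega
  · rw [hjN, ← Nat.pow_div (by omega) two_pos, pow_one]
  · have h2 : Nat.card g.ker = 2 := by
      have hset : (g.ker : Set D) = {1, r ^ (N / 2)} := Set.ext fun d => by
        simp [MonoidHom.mem_ker, hker d]
      rw [← SetLike.coe_sort_coe, Nat.card_coe_set_eq, hset,
        Set.ncard_pair h.z_facts.1.symm]
    have h3 := Subgroup.card_eq_card_quotient_mul_card_subgroup g.ker
    rw [h.card, h2, Nat.card_congr (QuotientGroup.quotientKerEquivOfSurjective g hgs).toEquiv] at h3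
    omega
  all_goals obtain ⟨d, hd, rfl⟩ := hout w hw
  · rw [← map_mul, h.sq d hd]; exact (hker _).2 (Or.inr rfl)
  · rw [← map_inv, ← map_mul, ← map_mul, h.inv d hd, map_inv]

/-- For order eight the image is a Klein four group. -/
theorem map_klein {K : Type v} [Group K] [Finite K] (f : G →* K)
    (hf : ∀ d : D, f d = 1 ↔ d = 1 ∨ d = r ^ (N / 2)) (h4' : N = 4) :
    IsKleinFour (D.map f) := by
  set g : D →* D.map f := f.subgroupMap D
  have hgs : Function.Surjective g := f.subgroupMap_surjective D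
  have hker : ∀ d : D, g d = 1 ↔ d = 1 ∨ d = r ^ (N / 2) := fun d => by
    rw [← hf d, Subtype.ext_iff]; rfl
  have hcard : Nat.card (D.map f) = 4 := by
    have h2 : Nat.card g.ker = 2 := by
      have hset : (g.ker : Set D) = {1, r ^ (N / 2)} := Set.ext fun d => by
        simp [MonoidHom.mem_ker, hker d]
      rw [← SetLike.coe_sort_coe, Nat.card_coe_set_eq, hset,
        Set.ncard_pair h.z_facts.1.symm]
    have h3 := Subgroup.card_eq_card_quotient_mul_card_subgroup g.ker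
    rw [h.card, h2, Nat.card_congr (QuotientGroup.quotientKerEquivOfSurjective g hgs).toEquiv] at h3
    omega
  have hsq : ∀ x : D.map f, x ^ 2 = 1 := by
    intro x
    obtain ⟨d, rfl⟩ := hgs x
    rw [← map_pow, hker, pow_two]
    by_cases hd : d ∈ Subgroup.zpowers r
    · have h4 := h.card_R
      have : (d * d) * (d * d) = 1 := by
        have e : (⟨d, hd⟩ : Subgroup.zpowers r) ^ Nat.card (Subgroup.zpowers r) = 1 :=
          pow_card_eq_one'
        rw [h4, h4'] at e
        have e2 : d ^ 4 = 1 := congrArg Subtype.val e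
        rw [← e2]; simp [pow_succ, mul_assoc]
      exact h.sq_eq_one this
    · exact Or.inr (h.sq d hd)
  haveI : Nontrivial (D.map f) := Finite.one_lt_card_iff_nontrivial.1 (by omega)
  exact ⟨hcard, (Monoid.exponent_eq_prime_iff Nat.prime_two).2 fun x hx =>
    orderOf_eq_prime (hsq x) hx⟩

end IsQuat

end Cfsg.Agent.Blocks.Quaternion
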