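import Mathlib
import Cfsg.Agent.Lib.Blocks.Quaternion.Group
import Cfsg.Agent.Lib.Blocks.CentralStep.Subsections
import Cfsg.Agent.Lib.Blocks.CentralStep.Factor
import Cfsg.Agent.BlockCharsA.PairFusion

/-!
# Descending named pairs to the centraliser, and fusion of rotations
-/

set_option linter.style.haveILetI false
set_option linter.unusedSectionVars false

namespace Cfsg.Agent.Blocks.Quaternion

open Cfsg.Agent.Blocks Cfsg.Agent.Characters Cfsg.Agent.Blocks.Star
open Cfsg.Agent.Blocks.CentralStep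
open Cfsg.Agent.BlockCharsA Cfsg.Agent.BlockCharsA.BrauerPairs Cfsg.Agent.BlockCharsA.PairConj
open Cfsg.Agent.BlockCharsA.PairReceptive Cfsg.Agent.BlockCharsA.PairFusion
open Cfsg.Agent.BlockCharsA.PairLocal
open MonoidAlgebra

universe u

variable {G : Type u} [Group G] [Finite G] {p : ℕ} {M : Ideal Cfsg.AlgInt}
  {B : Set (Cfsg.IrrCharacter G)} {P : Subgroup G}
  {e : Set (Cfsg.IrrCharacter (Subgroup.centralizer (P : Set G)))}

/-- The named idempotent, for a pair whose group is named differently. -/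
theorem eps_of_le (hM : Cfsg.IsPModular p M) (hmax : Cfsg.IsMaximalBrauerPair p M B P e) (v : P)
    {L : Subgroup G} {g : Set (Cfsg.IrrCharacter (Subgroup.centralizer (L : Set G)))}
    (hL : L = Subgroup.zpowers (v : G)) (hle : Cfsg.SubpairLE p M L g P e) :
    eps p M e v = elF (Subgroup.centralizer (L : Set G)) g := by
  subst hL
  exact eps_eq hM hmax v hle

/-- The named idempotents at elements with centraliser inside that of `z` agree inside the
centraliser. -/
theorem eps_descend (hM : Cfsg.IsPModular p M) (hmax : Cfsg.IsMaximalBrauerPair p M B P e) {z : P}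
    (hz : (z : G) ∈ Subgroup.centralizer (P : Set G))
    {b : Set (Cfsg.IrrCharacter (CU (z : G)))}
    {a : Set (Cfsg.IrrCharacter (Subgroup.centralizer (top' P (z : G) : Set (CU (z : G)))))}
    (ha : Cfsg.IsMaximalBrauerPair p M b (top' P (z : G)) a)
    (hm : Match (⟨_, a⟩ : Cfsg.BrauerPairIdx (CU (z : G))) ⟨P, e⟩) (v : P)
    (hvC : CU (v : G) ≤ CU (z : G)) (t : CU (z : G)) :
    (eps p M a (⟨⟨(v : G), top_le z hz v.2⟩, v.2⟩ : top' P (z : G))).coeff t =
      (eps p M e v).coeff (t : G) := by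
  set c : CU (z : G) := ⟨(v : G), top_le z hz v.2⟩ with hc
  set v' : top' P (z : G) := ⟨c, v.2⟩ with hv'
  obtain ⟨g', hg', -, he'⟩ := eps_spec hM ha v'
  have hA : (Subgroup.zpowers c).map (CU (z : G)).subtype = Subgroup.zpowers (v : G) :=
    MonoidHom.map_zpowers _ c
  obtain ⟨g, hg, hgm⟩ := exists_up hM (⟨Subgroup.zpowers c, g'⟩ : Cfsg.BrauerPairIdx (CU (z : G)))
    ((subpairLE_facts hM hg').2 ha.1.1) (by
      show Subgroup.centralizer _ ≤ _
      rw [hA]; exact hvC)
  have hle := subpairLE_up hM (Q := Subgroup.zpowers (v : G)) hvC hg' hA.ge hgm hm hmax.1.1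
  rw [eps_of_le hM hmax v hA hle, he']
  exact hgm.2.2 t

namespace IsQuat

variable {D : Subgroup G} {r : D} {N : ℕ} (h : IsQuat D r N)
include h

theorem CU_le {v : D} (h1 : v ≠ 1) : CU (v : G) ≤ CU ((r ^ (N / 2) : D) : G) := fun x hx => by
  obtain ⟨k, hk⟩ := Subgroup.mem_zpowers_iff.1 (h.z_mem_zpowers h1)
  refine mem_CU_of_commute ?_
  rw [← hk, Subgroup.coe_zpow]
  exact (commute_of_mem_CU hx).zpow_left k

theorem z_cen : ((r ^ (N / 2) : D) : G) ∈ Subgroup.centralizer (D : Set G) :=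
  Subgroup.mem_centralizer_iff.2 fun x hx => congrArg Subtype.val (h.z_central ⟨x, hx⟩)

/-- Elements of order above four are rotations. -/
theorem mem_R_of_order {v : D} (h4 : 4 < orderOf v) : v ∈ Subgroup.zpowers r := by
  by_contra hn
  have h1 : v ^ 4 = 1 := by
    rw [show v ^ 4 = (v * v) * (v * v) by simp [pow_succ, mul_assoc], h.sq v hn, h.z_facts.2]
  have := Nat.le_of_dvd (by norm_num) (orderOf_dvd_of_pow_eq_one h1)
  omega

/-- Rotations of the same order generate the same group. -/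
theorem zpowers_eq {v w : D} (hv : v ∈ Subgroup.zpowers r) (hw : w ∈ Subgroup.zpowers r)
    (ho : orderOf v = orderOf w) : Subgroup.zpowers v = Subgroup.zpowers w := by
  have key : ∀ k : ℕ, Subgroup.zpowers (r ^ k) = Subgroup.zpowers (r ^ N.gcd k) := by
    intro k
    refine le_antisymm (Subgroup.zpowers_le.2 ?_) (Subgroup.zpowers_le.2 ?_)
    · obtain ⟨c, hc⟩ := Nat.gcd_dvd_right N k
      rw [show r ^ k = (r ^ N.gcd k) ^ c by rw [← pow_mul, ← hc]]
      exact Subgroup.npow_mem_zpowers _ _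
    · refine Subgroup.mem_zpowers_iff.2 ⟨Nat.gcdB N k, ?_⟩
      have hN : r ^ (N : ℤ) = 1 := by rw [zpow_natCast, ← h.ord, pow_orderOf_eq_one]
      rw [← zpow_natCast r (N.gcd k), Nat.gcd_eq_gcd_ab, zpow_add, zpow_mul, hN, one_zpow,
        one_mul, zpow_mul, zpow_natCast]
  obtain ⟨i, rfl⟩ := mem_powers_iff_mem_zpowers.2 hv
  obtain ⟨j, rfl⟩ := mem_powers_iff_mem_zpowers.2 hw
  rw [orderOf_pow, orderOf_pow, h.ord] at ho
  have hN : N ≠ 0 := by have := h.four_le; omega
  have e := congrArg (fun t => N / t) ho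
  simp only [Nat.div_div_self (Nat.gcd_dvd_left N i) hN,
    Nat.div_div_self (Nat.gcd_dvd_left N j) hN] at e
  show Subgroup.zpowers (r ^ i) = Subgroup.zpowers (r ^ j)
  rw [key i, key j, e]

/-- The structure moves along isomorphisms. -/
theorem map_equiv {K : Type*} [Group K] [Finite K] {E : Subgroup K} (φ : D ≃* E) :
    IsQuat E (φ r) N := by
  have hmem : ∀ d : D, φ d ∈ Subgroup.zpowers (φ r) ↔ d ∈ Subgroup.zpowers r := fun d => by
    simp only [Subgroup.mem_zpowers_iff, ← map_zpow, φ.injective.eq_iff]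
  refine ⟨by rw [φ.orderOf_eq, h.ord], h.pow, by rw [← Nat.card_congr φ.toEquiv, h.card],
    fun w hw => ?_, fun w hw => ?_⟩
  all_goals
    obtain ⟨d, rfl⟩ := φ.surjective w
    rw [hmem] at hw
  · rw [← map_mul, h.sq d hw, map_pow]
  · rw [← map_inv, ← map_mul, ← map_mul, h.inv d hw, map_inv]

/-- Fused rotations are equal or inverse. -/
theorem fused_rot (hM : Cfsg.IsPModular 2 M) {e : Set (Cfsg.IrrCharacter (Subgroup.centralizer
    (D : Set G)))} (hmax : Cfsg.IsMaximalBrauerPair 2 M B D e) {v w : D}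
    (hv : v ∈ Subgroup.zpowers r) (hw : w ∈ Subgroup.zpowers r) (hf : Fused 2 M e v w) :
    w = v ∨ w = v⁻¹ := by
  classical
  haveI := fact_prime_of_pm hM
  obtain ⟨x, hx, hε⟩ := hf
  have ho : orderOf v = orderOf w := by
    rw [← Subgroup.orderOf_coe v, ← Subgroup.orderOf_coe w, hx]
    exact (MulEquiv.orderOf_eq (MulAut.conj x) (v : G)).symm
  have hz := h.zpowers_eq hv hw ho
  have hwv : w ∈ Subgroup.zpowers v := hz ▸ Subgroup.mem_zpowers w
  by_cases h4 : orderOf v ≤ 4
  · obtain ⟨k, rfl⟩ := mem_powers_iff_mem_zpowers.2 hwv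
    have hk : (fun t => v ^ t) k = v ^ (k % orderOf v) := (pow_mod_orderOf v k).symm
    simp only at hk ho ⊢
    rw [hk] at ho ⊢
    have hlt := Nat.mod_lt k (orderOf_pos v)
    have hpos := orderOf_pos v
    set j := k % orderOf v
    rcases (show j = 0 ∨ j = 1 ∨ j = 2 ∨ j = 3 by omega) with e | e | e | e <;> rw [e] at ho hlt ⊢
    · rw [pow_zero, orderOf_one] at ho
      rw [pow_zero, show v = 1 from orderOf_eq_one_iff.1 ho]
      exact Or.inl rfl
    · exact Or.inl (pow_one v)
    · rw [orderOf_pow] at ho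
      rcases (show orderOf v = 3 ∨ orderOf v = 4 by omega) with e' | e'
      · refine Or.inr (eq_inv_of_mul_eq_one_left ?_)
        rw [← pow_succ, show (2 + 1 : ℕ) = orderOf v by omega, pow_orderOf_eq_one]
      · rw [e'] at ho; norm_num at ho
    · refine Or.inr (eq_inv_of_mul_eq_one_left ?_)
      rw [← pow_succ, show (3 + 1 : ℕ) = orderOf v by omega, pow_orderOf_eq_one]
  set R₀ := Subgroup.zpowers (v : G) with hR₀
  have hRw : Subgroup.zpowers (w : G) = R₀ := by
    have e := congrArg (Subgroup.map D.subtype) hz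
    rw [MonoidHom.map_zpowers, MonoidHom.map_zpowers] at e
    exact e.symm
  obtain ⟨g, hg, -, heg⟩ := eps_spec hM hmax v
  have hgw : eps 2 M e w = elF (Subgroup.centralizer (R₀ : Set G)) g :=
    eps_of_le hM hmax w hRw.symm hg
  have hst : x ∈ stab R₀ g := by
    refine mem_stab_iff.2 (idx_ext ((cj_zpowers x _).trans ((congrArg Subgroup.zpowers hx.symm).trans
      hRw)) fun y => ?_)
    simp only [cjPair]
    rw [coeff_conjBlock', ← coeff_cjE, ← heg, hε, hgw, heg]
  set S := blockSystem hM hmax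
  have hS := isBlockFusion_blockSystem hM hmax
  have hα : autHom R₀ g ⟨x, hst⟩ ∈ S.autGroup R₀ := by
    rw [autGroup_eq hM hS hg]
    exact ⟨_, rfl⟩
  have hRP : R₀ ≤ D := Subgroup.zpowers_le.2 v.2
  obtain ⟨Q, ⟨φ, hφ, hQ⟩, hfull, -⟩ := isSaturated hM hS R₀ hRP
  -- the subgroup is the only one of its kind
  have hQR : Q = R₀ := by
    set vv : R₀ := ⟨(v : G), Subgroup.mem_zpowers _⟩
    have hgen : Subgroup.zpowers vv = ⊤ := by
      refine (Subgroup.eq_top_iff' _).2 fun y => ?_
      obtain ⟨i, hi⟩ := Subgroup.mem_zpowers_iff.1 y.2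
      exact Subgroup.mem_zpowers_iff.2 ⟨i, Subtype.ext (by simpa using hi)⟩
    set u : D := ⟨φ vv, (S.le_of_mem hφ).2 vv⟩
    have hou : orderOf u = orderOf v := by
      rw [← Subgroup.orderOf_coe u, show (u : G) = φ vv from rfl,
        orderOf_injective φ (S.injective_of_mem hφ), ← Subgroup.orderOf_coe vv,
        ← Subgroup.orderOf_coe v]
    have hu := h.zpowers_eq (h.mem_R_of_order (v := u) (by omega)) hv hou
    have e := congrArg (Subgroup.map D.subtype) hu
    rw [MonoidHom.map_zpowers, MonoidHom.map_zpowers] at e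
    rw [← hQ, MonoidHom.range_eq_map, ← hgen, MonoidHom.map_zpowers]
    exact e
  rw [hQR] at hfull
  obtain ⟨-, T, hT⟩ := hfull
  -- the automorphisms form a 2-group
  haveI : IsCyclic R₀ := Subgroup.isCyclic_zpowers _
  have hA : IsPGroup 2 (MulAut R₀) := by
    obtain ⟨j, -, hj⟩ := h.pow
    have hd : orderOf (v : G) ∣ 2 ^ (j + 1) := by
      rw [Subgroup.orderOf_coe, pow_succ', ← hj, ← h.card]
      exact orderOf_dvd_natCard v
    obtain ⟨i, -, hi⟩ := (Nat.dvd_prime_pow Nat.prime_two).1 hd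
    refine IsPGroup.of_card (n := i - 1) ?_
    rw [IsCyclic.card_mulAut, Nat.card_zpowers, hi, Nat.totient_prime_pow Nat.prime_two]
    · simp
    · rcases i with _ | i
      · rw [pow_zero, Subgroup.orderOf_coe] at hi; omega
      · omega
  have htop : (T : Subgroup (S.autGroup R₀)) = ⊤ := by
    refine (T.3 (hA.to_subgroup _ |>.to_subgroup ⊤) le_top).symm
  have hind : autHom R₀ g ⟨x, hst⟩ ∈ Cfsg.autInducedBy D R₀ := by
    have : (⟨_, hα⟩ : S.autGroup R₀) ∈ (T : Subgroup (S.autGroup R₀)) := htop ▸ trivial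
    rw [hT] at this
    exact this
  -- conjugation by the top inverts or fixes
  have hprop : ∀ α ∈ Cfsg.autInducedBy D R₀,
      ((α ⟨(v : G), Subgroup.mem_zpowers _⟩ : R₀) : G) = v ∨
        ((α ⟨(v : G), Subgroup.mem_zpowers _⟩ : R₀) : G) = (v : G)⁻¹ := by
    intro α hα'
    induction hα' using Subgroup.closure_induction with
    | mem α hα' =>
      obtain ⟨d, hd, hαd⟩ := hα'
      rw [hαd]
      rcases h.conj_mem hv ⟨d, hd⟩ with e | e
      · exact Or.inl (congrArg Subtype.val e)
      · exact Or.inr (congrArg Subtype.val e)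
    | one => exact Or.inl rfl
    | mul α β _ _ ha hb =>
      simp only [MulAut.mul_apply]
      rcases hb with e | e
      · rwa [show β ⟨(v : G), _⟩ = ⟨(v : G), Subgroup.mem_zpowers _⟩ from Subtype.ext e]
      · rw [show β ⟨(v : G), _⟩ = (⟨(v : G), Subgroup.mem_zpowers _⟩ : R₀)⁻¹ from Subtype.ext e,
          map_inv, Subgroup.coe_inv]
        rcases ha with e' | e'
        · exact Or.inr (by rw [e'])
        · exact Or.inl (by rw [e', inv_inv])
    | inv α _ ha =>
      rcases ha with e | e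
      · refine Or.inl ?_
        conv_lhs => rw [← show α ⟨(v : G), _⟩ = ⟨(v : G), Subgroup.mem_zpowers _⟩ from Subtype.ext e]
        rw [← MulAut.mul_apply, inv_mul_cancel, MulAut.one_apply]
      · refine Or.inr ?_
        have e2 : α (⟨(v : G), Subgroup.mem_zpowers _⟩ : R₀)⁻¹ =
            ⟨(v : G), Subgroup.mem_zpowers _⟩ := Subtype.ext (by
          rw [map_inv, Subgroup.coe_inv, e, inv_inv])
        conv_lhs => rw [← e2]
        rw [← MulAut.mul_apply, inv_mul_cancel, MulAut.one_apply, Subgroup.coe_inv]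
  rcases hprop _ hind with e | e
  · refine Or.inl (Subtype.ext ?_)
    rw [coe_autHom] at e
    rw [hx]; exact e
  · refine Or.inr (Subtype.ext ?_)
    rw [coe_autHom] at e
    rw [hx, Subgroup.coe_inv]; exact e

end IsQuat

end Cfsg.Agent.Blocks.Quaternion
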