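import Mathlib
import Cfsg.Agent.Lib.Blocks.Quaternion.Descent
import Cfsg.Agent.BlockCharsA.CyclicDefect.Parts
import Cfsg.Agent.Lib.Blocks.Star.Major

/-!
# The functions of a block vanishing on the regular elements, from the centraliser of the involution

When the involution `z` lies in every non-trivial cyclic subgroup of the top, induction from the
centraliser of `z` is an isometry from the combinations of the block at `z` vanishing on the
regular elements onto those of the block.
-/

set_option linter.style.haveILetI false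
set_option linter.unusedSectionVars false

namespace Cfsg.Agent.Blocks.Quaternion

open Cfsg.Agent.Blocks Cfsg.Agent.Characters Cfsg.Agent.Blocks.Star
open Cfsg.Agent.Blocks.CentralStep
open Cfsg.Agent.BlockCharsA Cfsg.Agent.BlockCharsA.BrauerPairs Cfsg.Agent.BlockCharsA.PairConj
open Cfsg.Agent.BlockCharsA.PairReceptive
open MonoidAlgebra
open scoped ComplexConjugate

universe u

section Generic

variable {G : Type u} [Group G] [Finite G] {p : ℕ} {M : Ideal Cfsg.AlgInt}
  {B : Set (Cfsg.IrrCharacter G)} {P : Subgroup G}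
  {e : Set (Cfsg.IrrCharacter (Subgroup.centralizer (P : Set G)))}

variable (p) in
/-- A combination of the members of the block vanishing on the regular elements. -/
def IsKer (B : Set (Cfsg.IrrCharacter G)) [Fintype B] (f : B → ℂ) : Prop :=
  ∀ s : G, ¬ p ∣ orderOf s → ∑ χ : B, f χ * ((χ : Cfsg.IrrCharacter G) : G → ℂ) s = 0

variable (p) in
/-- Integral combinations spanning those vanishing on the regular elements. -/
structure IsCols (B : Set (Cfsg.IrrCharacter G)) [Fintype B] {ι : Type*} [Fintype ι]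
    (A : ι → ι → ℤ) (c : ι → B → ℤ) : Prop where
  ker : ∀ i, IsKer p B fun χ => (c i χ : ℂ)
  gram : ∀ i j, ∑ χ : B, c i χ * c j χ = A i j
  span : ∀ f : B → ℂ, IsKer p B f → ∃ α : ι → ℂ, ∀ χ, f χ = ∑ i, α i * (c i χ : ℂ)

/-- The function of a combination. -/
noncomputable def expand (B : Set (Cfsg.IrrCharacter G)) [Fintype B] (f : B → ℂ) : G → ℂ :=
  fun g => ∑ χ : B, f χ * ((χ : Cfsg.IrrCharacter G) : G → ℂ) g

/-- Outside the block there are no parts. -/
theorem th_out (hM : Cfsg.IsPModular p M) (hmax : Cfsg.IsMaximalBrauerPair p M B P e) (v : P)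
    {χ : Cfsg.IrrCharacter G} (hχ : χ ∉ B) {s : G} (hs : s ∈ regAt p (v : G)) :
    th (χ : G → ℂ) (v : G) (eps p M e v) s = 0 := by
  obtain ⟨g, hg, hgB, he⟩ := eps_spec hM hmax v
  rw [he]
  refine th_eq_zero hM (isPBlock_blockOf M χ) (mem_blockOf_self hM χ) (orderOf_top hM hmax v) hgB
    (fun hp => hχ ?_) hs
  rw [brauerPairOf_unique hM ((block_of_subpairLE hM (B := B) hg).2 hmax.1) hp]
  exact mem_blockOf_self hM χ

variable [Fintype B]

theorem isClassFunction_expand (f : B → ℂ) : Cfsg.IsClassFunction G (expand B f) := fun g a =>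
  Finset.sum_congr rfl fun χ _ => by rw [irr_isClassFunction (χ : Cfsg.IrrCharacter G) g a]

theorem classInner_expand [Fintype G] (f : B → ℂ) (F : G → ℂ) :
    Cfsg.classInner (expand B f) F =
      ∑ χ : B, f χ * conj (Cfsg.classInner F ((χ : Cfsg.IrrCharacter G) : G → ℂ)) := by
  have e : expand B f = ∑ χ : B, f χ • ((χ : Cfsg.IrrCharacter G) : G → ℂ) := by
    funext g; simp [expand, Finset.sum_apply]
  rw [e, classInner_sum_left]
  refine Finset.sum_congr rfl fun χ _ => ?_
  rw [classInner_smul_left, classInner_conj_symm F]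

theorem coeff_expand [Fintype G] (f : B → ℂ) (χ : B) :
    Cfsg.classInner (expand B f) ((χ : Cfsg.IrrCharacter G) : G → ℂ) = f χ := by
  classical
  rw [classInner_expand, Finset.sum_eq_single χ]
  · rw [classInner_irr, if_pos rfl, map_one, mul_one]
  · intro θ _ hne
    rw [classInner_irr, if_neg fun e => hne (Subtype.ext e.symm), map_zero, mul_zero]
  · simp

theorem eq_expand [Fintype G] {F : G → ℂ} (hF : Cfsg.IsClassFunction G F)
    (h : ∀ η : Cfsg.IrrCharacter G, η ∉ B → Cfsg.classInner F (η : G → ℂ) = 0) :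
    F = expand B fun χ => Cfsg.classInner F ((χ : Cfsg.IrrCharacter G) : G → ℂ) := by
  classical
  haveI := Fintype.ofFinite (Cfsg.IrrCharacter G)
  conv_lhs => rw [classFun_eq_sum hF]
  funext g
  rw [Finset.sum_apply, expand,
    ← Finset.sum_subset (Finset.subset_univ (Finset.univ.filter fun η => η ∈ B))
    fun η _ hη => by
      rw [Pi.smul_apply, h η fun h' => hη (Finset.mem_filter.2 ⟨Finset.mem_univ _, h'⟩), zero_smul],
    Finset.sum_subtype (p := fun η => η ∈ B) _ (fun η => by simp)
      (fun η : Cfsg.IrrCharacter G => (Cfsg.classInner F (η : G → ℂ) • (η : G → ℂ)) g)]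
  rfl

/-- A named part only sees the coefficients on the block. -/
theorem th_expand [Fintype G] (hM : Cfsg.IsPModular p M)
    (hmax : Cfsg.IsMaximalBrauerPair p M B P e) {F : G → ℂ} (hF : Cfsg.IsClassFunction G F)
    (v : P) {s : G} (hs : s ∈ regAt p (v : G)) :
    th F (v : G) (eps p M e v) s =
      th (expand B fun χ => Cfsg.classInner F ((χ : Cfsg.IrrCharacter G) : G → ℂ))
        (v : G) (eps p M e v) s := by
  classical
  haveI := Fintype.ofFinite (Cfsg.IrrCharacter G)
  have e1 : F = fun g => ∑ η : Cfsg.IrrCharacter G,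
      Cfsg.classInner F (η : G → ℂ) * (η : G → ℂ) g := by
    funext g
    conv_lhs => rw [classFun_eq_sum hF]
    simp [Finset.sum_apply]
  conv_lhs => rw [e1, th_linear]
  unfold expand
  rw [th_linear, ← Finset.sum_subset (Finset.subset_univ (Finset.univ.filter fun η => η ∈ B))
    fun η _ hη => by
      rw [th_out hM hmax v (fun h' => hη (Finset.mem_filter.2 ⟨Finset.mem_univ _, h'⟩)) hs,
        mul_zero],
    Finset.sum_subtype (p := fun η => η ∈ B) _ (fun η => by simp)
      (fun η : Cfsg.IrrCharacter G =>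
        Cfsg.classInner F (η : G → ℂ) * th (η : G → ℂ) (v : G) (eps p M e v) s)]

/-- A value at a singular element comes from a named part. -/
theorem exists_part (hM : Cfsg.IsPModular p M) (hmax : Cfsg.IsMaximalBrauerPair p M B P e)
    (f : B → ℂ) {g : G} (hg : p ∣ orderOf g) (hne : expand B f g ≠ 0) :
    ∃ (w : P) (x s : G), w ≠ 1 ∧ (w : G) = x * ppt hM g * x⁻¹ ∧ s ∈ regAt p (w : G) ∧
      th (expand B f) (w : G) (eps p M e w) s ≠ 0 := by
  classical
  obtain ⟨s, hg', hc, hk, hs⟩ := isPPart_ppt hM g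
  set u := ppt hM g
  have hu1 : u ≠ 1 := fun e' => by
    rw [e', one_mul] at hg'
    exact hs (hg' ▸ hg)
  rw [← hg', eq_sum_th hM (expand B f)] at hne
  obtain ⟨ε, hε, hne⟩ := Finset.exists_ne_zero_of_sum_ne_zero hne
  obtain ⟨gε, hgε, rfl⟩ := mem_BI.1 hε
  by_cases hp : Cfsg.IsBrauerPairOf p M B (Subgroup.zpowers u) gε
  swap
  · refine absurd ?_ hne
    unfold expand
    rw [th_linear]
    exact Finset.sum_eq_zero fun χ _ => by
      rw [th_eq_zero hM hmax.1.2.1 χ.2 hk hgε hp (mem_regAt.2 ⟨hc, hs⟩), mul_zero]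
  obtain ⟨w, x, hw, hx⟩ := (witness_iff hM hmax hk hgε).2 hp
  refine ⟨w, x, x * s * x⁻¹, fun e' => hu1 ?_, hw, ?_, ?_⟩
  · rw [e', OneMemClass.coe_one] at hw
    simpa using hw.symm
  · rw [hw, show x * u * x⁻¹ = MulAut.conj x u from rfl,
      show x * s * x⁻¹ = MulAut.conj x s from rfl]
    exact mem_regAt.2 ⟨hc.map (MulAut.conj x).toMonoidHom, by rwa [MulEquiv.orderOf_eq]⟩
  · rw [hw, ← hx, CyclicDefect.th_conj (isClassFunction_expand f)]
    exact hne

/-- Two involutions in one cyclic group are equal. -/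
theorem invol_eq {K : Type*} [Group K] [Finite K] {u a b : K} (ha : a ∈ Subgroup.zpowers u)
    (hb : b ∈ Subgroup.zpowers u) (ha1 : a ≠ 1) (hb1 : b ≠ 1) (ha2 : a * a = 1)
    (hb2 : b * b = 1) : a = b := by
  classical
  haveI := Fintype.ofFinite (Subgroup.zpowers u)
  haveI : IsCyclic (Subgroup.zpowers u) := Subgroup.isCyclic_zpowers u
  by_contra hne
  have h := IsCyclic.card_pow_eq_one_le (α := Subgroup.zpowers u) (n := 2) two_pos
  set s : Finset (Subgroup.zpowers u) := {1, ⟨a, ha⟩, ⟨b, hb⟩} with hs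
  have hcard : s.card = 3 :=
    Finset.card_eq_three.2 ⟨1, ⟨a, ha⟩, ⟨b, hb⟩, fun e' => ha1 (congrArg Subtype.val e').symm,
      fun e' => hb1 (congrArg Subtype.val e').symm, fun e' => hne (congrArg Subtype.val e'), hs⟩
  have hsub : s ⊆ Finset.univ.filter fun t : Subgroup.zpowers u => t ^ 2 = 1 := by
    intro t ht
    simp only [hs, Finset.mem_insert, Finset.mem_singleton] at ht
    refine Finset.mem_filter.2 ⟨Finset.mem_univ _, ?_⟩
    rcases ht with rfl | rfl | rfl
    · exact one_pow 2
    · exact Subtype.ext (by rw [Subgroup.coe_pow, pow_two]; exact ha2)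
    · exact Subtype.ext (by rw [Subgroup.coe_pow, pow_two]; exact hb2)
  have := Finset.card_le_card hsub
  omega

end Generic

section Local

variable {G : Type u} [Group G] [Finite G] {M : Ideal Cfsg.AlgInt}
  {B : Set (Cfsg.IrrCharacter G)} {P : Subgroup G}
  {e : Set (Cfsg.IrrCharacter (Subgroup.centralizer (P : Set G)))} {z : P}
  {b : Set (Cfsg.IrrCharacter (CU (z : G)))}
  {a : Set (Cfsg.IrrCharacter (Subgroup.centralizer (top' P (z : G) : Set (CU (z : G)))))}

/-- The setting: a maximal pair, an involution in every cyclic subgroup, the local pair. -/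
structure Setting (M : Ideal Cfsg.AlgInt) (B : Set (Cfsg.IrrCharacter G)) (P : Subgroup G)
    (e : Set (Cfsg.IrrCharacter (Subgroup.centralizer (P : Set G)))) (z : P)
    (b : Set (Cfsg.IrrCharacter (CU (z : G))))
    (a : Set (Cfsg.IrrCharacter (Subgroup.centralizer (top' P (z : G) : Set (CU (z : G)))))) :
    Prop where
  hM : Cfsg.IsPModular 2 M
  hmax : Cfsg.IsMaximalBrauerPair 2 M B P e
  cen : (z : G) ∈ Subgroup.centralizer (P : Set G)
  ne : z ≠ 1
  sq : z * z = 1
  gen : ∀ v : P, v ≠ 1 → z ∈ Subgroup.zpowers v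
  max : Cfsg.IsMaximalBrauerPair 2 M b (top' P (z : G)) a
  mat : Match (⟨_, a⟩ : Cfsg.BrauerPairIdx (CU (z : G))) ⟨P, e⟩

variable (S : Setting M B P e z b a)
include S

theorem Setting.ne' : (z : G) ≠ 1 := fun e' => S.ne (Subtype.ext e')

theorem Setting.sq' : (z : G) * z = 1 := congrArg Subtype.val S.sq

theorem Setting.CU_le {v : P} (hv : v ≠ 1) : CU (v : G) ≤ CU (z : G) := fun x hx => by
  obtain ⟨k, hk⟩ := Subgroup.mem_zpowers_iff.1 (S.gen v hv)
  refine mem_CU_of_commute ?_
  rw [← hk, Subgroup.coe_zpow]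
  exact (commute_of_mem_CU hx).zpow_left k

/-- An element of the top, inside the centraliser. -/
def Setting.up (v : P) : top' P (z : G) := ⟨⟨(v : G), top_le z S.cen v.2⟩, v.2⟩

omit S in
/-- The element of the top given by one inside the centraliser. -/
def downP (w : top' P (z : G)) : P := ⟨((w : CU (z : G)) : G), w.2⟩

theorem Setting.th_local {F : G → ℂ} {v : P} (hv : v ≠ 1) {s : CU (z : G)} :
    th F (v : G) (eps 2 M e v) (s : G) =
      th (fun c : CU (z : G) => F c) (S.up v : CU (z : G)) (eps 2 M a (S.up v)) s := by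
  have e1 : restrEl (CU (z : G)) (eps 2 M e v) = eps 2 M a (S.up v) := el_ext fun t => by
    rw [coeff_restrEl]
    exact (eps_descend S.hM S.hmax S.cen S.max S.mat v (S.CU_le hv) t).symm
  rw [← e1]
  exact th_down F (S.up v : CU (z : G)) s fun g hg =>
    eps_supp S.hM S.hmax fun h => hg (S.CU_le hv h)

theorem Setting.ppt_coe (g : CU (z : G)) :
    ppt S.hM (g : G) = ((ppt S.hM g : CU (z : G)) : G) := by
  obtain ⟨y, hy, hc, hk, hr⟩ := isPPart_ppt S.hM g
  refine ppt_eq S.hM ⟨(y : G), by rw [← Subgroup.coe_mul, hy],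
    hc.map (CU (z : G)).subtype, ?_, by rwa [Subgroup.orderOf_coe]⟩
  rwa [Subgroup.orderOf_coe]

/-- Combinations of the local block live at the elements whose part generates the involution. -/
theorem Setting.support [Fintype b] (β : b → ℂ) {g : CU (z : G)} (hg : 2 ∣ orderOf g)
    (hne : expand b β g ≠ 0) : (z : G) ∈ Subgroup.zpowers (ppt S.hM (g : G)) := by
  obtain ⟨w, x, s, hw1, hw, -, -⟩ := exists_part S.hM S.max β hg hne
  have hv1 : downP w ≠ 1 := fun e' => hw1 (Subtype.ext (Subtype.ext (congrArg (Subtype.val : P → G) e')))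
  obtain ⟨k, hk⟩ := Subgroup.mem_zpowers_iff.1 (S.gen _ hv1)
  refine Subgroup.mem_zpowers_iff.2 ⟨k, ?_⟩
  have e1 : ((downP w : P) : G) = (x : G) * ppt S.hM (g : G) * (x : G)⁻¹ := by
    rw [S.ppt_coe g]
    exact congrArg Subtype.val hw
  have e2 : (x : G) * ppt S.hM (g : G) ^ k * (x : G)⁻¹ = (z : G) := by
    rw [← conj_zpow, ← e1, ← Subgroup.coe_zpow, hk]
  rw [mul_inv_eq_iff_eq_mul, (commute_of_mem_CU x.2).eq] at e2
  exact mul_left_cancel e2

theorem Setting.expand_regular [Fintype b] {β : b → ℂ} (hβ : IsKer 2 b β) {g : CU (z : G)}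
    (hg : ¬ 2 ∣ orderOf (g : G)) : expand b β g = 0 :=
  hβ g (by rwa [Subgroup.orderOf_coe] at hg)

theorem Setting.ind_regular [Fintype G] [Fintype b] {β : b → ℂ} (hβ : IsKer 2 b β) {g : G}
    (hg : ¬ 2 ∣ orderOf g) : Cfsg.indFun (CU (z : G)) (expand b β) g = 0 := by
  rw [Cfsg.indFun, Finset.sum_eq_zero fun x _ => ?_, mul_zero]
  by_cases hy : x⁻¹ * g * x ∈ CU (z : G)
  · rw [show x⁻¹ * g * x = ((⟨_, hy⟩ : CU (z : G)) : G) from rfl,
      CharTheory.IndBasic.extendByZero_coe]
    refine S.expand_regular hβ ?_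
    rwa [Subgroup.coe_mk, show x⁻¹ * g * x = MulAut.conj x⁻¹ g by simp [MulAut.conj_apply],
      MulEquiv.orderOf_eq]
  · rw [CharTheory.IndBasic.extendByZero_of_notMem _ _ hy]

/-- Where the part generates the involution induction changes nothing. -/
theorem Setting.ind_apply [Fintype G] [Fintype b] {β : b → ℂ} (hβ : IsKer 2 b β)
    {g : CU (z : G)} (hz : (z : G) ∈ Subgroup.zpowers (ppt S.hM (g : G))) :
    Cfsg.indFun (CU (z : G)) (expand b β) (g : G) = expand b β g := by
  classical
  haveI := Fintype.ofFinite (CU (z : G))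
  rw [Cfsg.indFun, Finset.sum_congr rfl (g := fun x : G =>
    if x ∈ CU (z : G) then expand b β g else 0) fun x _ => ?_, ← Finset.sum_filter,
    Finset.sum_const, nsmul_eq_mul, ← mul_assoc]
  · rw [show (Finset.univ.filter fun x : G => x ∈ CU (z : G)).card = Nat.card (CU (z : G)) by
      rw [Nat.card_eq_fintype_card, Fintype.card_of_subtype (p := fun x : G => x ∈ CU (z : G))
        (Finset.univ.filter fun x : G => x ∈ CU (z : G)) fun x => by simp],
      inv_mul_cancel₀ natCard_ne_zero,
      one_mul]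
  by_cases hx : x ∈ CU (z : G)
  · rw [if_pos hx, show x⁻¹ * (g : G) * x = (((⟨x, hx⟩ : CU (z : G))⁻¹ * g * ⟨x, hx⟩ :
      CU (z : G)) : G) by simp, CharTheory.IndBasic.extendByZero_coe]
    conv_rhs => rw [← isClassFunction_expand β g (⟨x, hx⟩ : CU (z : G))⁻¹]
    simp
  rw [if_neg hx]
  by_cases hy : x⁻¹ * (g : G) * x ∈ CU (z : G)
  swap
  · rw [CharTheory.IndBasic.extendByZero_of_notMem _ _ hy]
  rw [show x⁻¹ * (g : G) * x = ((⟨_, hy⟩ : CU (z : G)) : G) from rfl,
    CharTheory.IndBasic.extendByZero_coe]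
  by_contra hne
  set y : CU (z : G) := ⟨_, hy⟩
  have hy2 : 2 ∣ orderOf y := by
    by_contra hn
    exact hne (S.expand_regular hβ (by rwa [Subgroup.orderOf_coe]))
  have hzy := S.support β hy2 hne
  have hu : ppt S.hM (y : G) = x⁻¹ * ppt S.hM (g : G) * x⁻¹⁻¹ :=
    ppt_eq S.hM (by
      rw [show (y : G) = x⁻¹ * (g : G) * x⁻¹⁻¹ by simp [y]]
      exact isPPart_conj (isPPart_ppt S.hM _) x⁻¹)
  have hz' : x⁻¹ * (z : G) * x⁻¹⁻¹ ∈ Subgroup.zpowers (ppt S.hM (y : G)) := by
    obtain ⟨k, hk⟩ := Subgroup.mem_zpowers_iff.1 hz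
    exact Subgroup.mem_zpowers_iff.2 ⟨k, by rw [hu, conj_zpow, hk]⟩
  have heq := invol_eq hzy hz' S.ne' (fun e' => S.ne' (conj_eq_one_iff.1 e')) S.sq' (by
    rw [show x⁻¹ * (z : G) * x⁻¹⁻¹ * (x⁻¹ * (z : G) * x⁻¹⁻¹) = x⁻¹ * ((z : G) * z) * x⁻¹⁻¹ by group,
      S.sq']
    simp)
  refine hx (mem_CU_of_commute ?_)
  rw [inv_inv, mul_assoc, eq_inv_mul_iff_mul_eq] at heq
  exact heq.symm

/-- The coefficients on the local block survive induction. -/
theorem Setting.ind_coeff [Fintype G] [Fintype (CU (z : G))] [Fintype b] {β : b → ℂ}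
    (hβ : IsKer 2 b β) (θ : b) :
    Cfsg.classInner (fun c : CU (z : G) => Cfsg.indFun (CU (z : G)) (expand b β) c)
      ((θ : Cfsg.IrrCharacter (CU (z : G))) : CU (z : G) → ℂ) = β θ := by
  classical
  rw [← coeff_expand β θ, classInner_def, classInner_def]
  congr 1
  refine Finset.sum_congr rfl fun g _ => ?_
  by_cases hg : 2 ∣ orderOf g
  · by_cases h0 : ((θ : Cfsg.IrrCharacter (CU (z : G))) : CU (z : G) → ℂ) g = 0
    · rw [h0, map_zero, mul_zero, mul_zero]
    · rw [S.ind_apply hβ (S.support (fun η => if η = θ then 1 else 0) hg (by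
        simpa [expand, ite_mul, Finset.sum_ite_eq'] using h0))]
  · rw [S.expand_regular hβ (by rwa [Subgroup.orderOf_coe]),
      S.ind_regular hβ (by rwa [Subgroup.orderOf_coe])]

/-- The induced function has no coefficient outside the block. -/
theorem Setting.ind_out [Fintype G] [Fintype (CU (z : G))] [Fintype b] {β : b → ℂ}
    (hβ : IsKer 2 b β) {χ : Cfsg.IrrCharacter G} (hχ : χ ∉ B) :
    Cfsg.classInner (Cfsg.indFun (CU (z : G)) (expand b β)) (χ : G → ℂ) = 0 := by
  classical
  rw [frobenius_reciprocity _ _ (irr_isClassFunction χ)]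
  set F := fun c : CU (z : G) => (χ : G → ℂ) c with hF
  set Y := expand b fun θ => Cfsg.classInner F ((θ : Cfsg.IrrCharacter (CU (z : G))) :
    CU (z : G) → ℂ) with hY
  have e1 : Cfsg.classInner (expand b β) F = Cfsg.classInner (expand b β) Y := by
    rw [classInner_expand, classInner_expand]
    exact Finset.sum_congr rfl fun θ _ => by rw [hY, coeff_expand]
  rw [e1, classInner_def, Finset.sum_eq_zero fun g _ => ?_, mul_zero]
  by_cases hg : 2 ∣ orderOf g
  · by_cases h0 : Y g = 0
    · rw [h0, map_zero, mul_zero]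
    obtain ⟨w, x, s, hw1, -, hs, hth⟩ := exists_part S.hM S.max _ hg h0
    refine absurd ?_ hth
    have hv1 : downP w ≠ 1 := fun e' => hw1 (Subtype.ext (Subtype.ext (congrArg (Subtype.val : P → G) e')))
    rw [← th_expand S.hM S.max (fun c a => irr_isClassFunction χ _ _) w hs]
    have h2 := S.th_local (F := (χ : G → ℂ)) hv1 (s := s)
    rw [show S.up (downP w) = w from rfl] at h2
    rw [hF, ← h2]
    refine th_out S.hM S.hmax _ hχ ?_
    obtain ⟨h3, h4⟩ := mem_regAt.1 hs
    exact mem_regAt.2 ⟨h3.map (CU (z : G)).subtype, by rwa [Subgroup.orderOf_coe]⟩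
  · rw [S.expand_regular hβ (by rwa [Subgroup.orderOf_coe]), zero_mul]

/-- Spanning integral combinations go up with their products. -/
theorem Setting.transfer [Fintype b] [Fintype B] {ι : Type*} [Fintype ι] {A : ι → ι → ℤ}
    {c₀ : ι → b → ℤ} (hc : IsCols 2 b A c₀) : ∃ c : ι → B → ℤ, IsCols 2 B A c := by
  classical
  haveI := Fintype.ofFinite G
  haveI := Fintype.ofFinite (CU (z : G))
  set F : ι → G → ℂ := fun i =>
    Cfsg.indFun (CU (z : G)) (expand b fun θ => (c₀ i θ : ℂ)) with hFdef
  have hint : ∀ i (χ : B), ∃ n : ℤ,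
      Cfsg.classInner (F i) ((χ : Cfsg.IrrCharacter G) : G → ℂ) = (n : ℂ) := by
    intro i χ
    simp only [hFdef]
    rw [frobenius_reciprocity _ _ (irr_isClassFunction _), classInner_expand]
    have hn := fun θ : b => classInner_gen_int
      (isGen_of_isCharacter (isCharacter_restrict (CU (z : G))
        (irr_isCharacter (χ : Cfsg.IrrCharacter G))))
      (isGen_of_isCharacter (irr_isCharacter (θ : Cfsg.IrrCharacter (CU (z : G)))))
    choose n hn using hn
    refine ⟨∑ θ, c₀ i θ * n θ, ?_⟩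
    push_cast
    exact Finset.sum_congr rfl fun θ _ => by rw [hn θ, map_intCast]
  choose c hcF using hint
  have hexp : ∀ i, F i = expand B fun χ => (c i χ : ℂ) := fun i => by
    have := eq_expand (B := B) (F := F i) (indFun_isClassFunction _ _)
      fun η hη => S.ind_out (hc.ker i) hη
    simp only [hcF] at this
    exact this
  refine ⟨c, fun i s hs => ?_, fun i j => ?_, fun f hf => ?_⟩
  · have := congrFun (hexp i) s
    simp only [hFdef, S.ind_regular (hc.ker i) hs, expand] at this
    exact this.symm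
  · apply Int.cast_injective (α := ℂ)
    have e1 : Cfsg.classInner (F i) (F j) = ∑ θ : b, (c₀ i θ : ℂ) * (c₀ j θ : ℂ) := by
      simp only [hFdef]
      rw [frobenius_reciprocity _ _ (indFun_isClassFunction _ _), classInner_expand]
      exact Finset.sum_congr rfl fun θ _ => by rw [S.ind_coeff (hc.ker j), map_intCast]
    have e2 : Cfsg.classInner (F i) (F j) = ∑ χ : B, (c i χ : ℂ) * (c j χ : ℂ) := by
      rw [hexp i, classInner_expand]
      exact Finset.sum_congr rfl fun χ _ => by rw [hcF, map_intCast]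
    rw [← hc.gram i j]
    push_cast
    rw [← e1, ← e2]
  set β : b → ℂ := fun θ => Cfsg.classInner (fun g : CU (z : G) => expand B f g)
    ((θ : Cfsg.IrrCharacter (CU (z : G))) : CU (z : G) → ℂ) with hβdef
  have hres : Cfsg.IsClassFunction (CU (z : G)) fun g : CU (z : G) => expand B f g :=
    fun g a => isClassFunction_expand f (g : G) a
  have hβ : IsKer 2 b β := fun s hs => by
    have e : Cfsg.blockPart b (fun g : CU (z : G) => expand B f g) s =
        ∑ θ : b, β θ * ((θ : Cfsg.IrrCharacter (CU (z : G))) : CU (z : G) → ℂ) s := by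
      haveI := Fintype.ofFinite (Cfsg.IrrCharacter (CU (z : G)))
      rw [Cfsg.blockPart, ZStar.Principal.finsum_mem_eq_sum_filter,
        Finset.sum_subtype (p := fun θ => θ ∈ b) _ (fun θ => by simp)]
      refine Finset.sum_congr rfl fun θ _ => ?_
      simp only [hβdef]
      congr 2
      exact Subsingleton.elim _ _
    rw [← e, blockPart_congr_reg S.hM S.max.1.2.1 (F' := 0) (fun g hg => ?_) hs]
    · rw [Cfsg.blockPart]
      simp [classInner_def]
    · exact hf g (by rwa [Subgroup.orderOf_coe])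
  obtain ⟨α, hα⟩ := hc.span β hβ
  refine ⟨α, fun χ => sub_eq_zero.1 ?_⟩
  set d : B → ℂ := fun χ => f χ - ∑ i, α i * (c i χ : ℂ) with hd
  have hdexp : ∀ g, expand B d g = expand B f g - ∑ i, α i * F i g := by
    intro g
    simp only [hexp]
    simp only [expand, hd, sub_mul, Finset.sum_sub_distrib, Finset.sum_mul, Finset.mul_sum,
      mul_assoc]
    rw [Finset.sum_comm]
  suffices h0 : expand B d = 0 by
    have := coeff_expand d χ
    rw [h0, classInner_def] at this
    simpa using this.symm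
  funext g
  by_cases hg : 2 ∣ orderOf g
  swap
  · rw [hdexp, Pi.zero_apply, Finset.sum_eq_zero fun i _ => ?_, sub_zero]
    · exact hf g hg
    · simp only [hFdef, S.ind_regular (hc.ker i) hg, mul_zero]
  by_contra hne
  obtain ⟨w, x, s, hw1, -, hs, hth⟩ := exists_part S.hM S.hmax d hg hne
  refine hth ?_
  have hsC : s ∈ CU (z : G) := S.CU_le hw1 (mem_CU_of_commute (mem_regAt.1 hs).1)
  obtain ⟨h3, h4⟩ := mem_regAt.1 hs
  have hs' : (⟨s, hsC⟩ : CU (z : G)) ∈ regAt 2 (S.up w : CU (z : G)) :=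
    mem_regAt.2 ⟨Subtype.ext h3.eq, by rwa [Subgroup.orderOf_mk]⟩
  rw [show s = ((⟨s, hsC⟩ : CU (z : G)) : G) from rfl, S.th_local hw1,
    th_expand S.hM S.max (fun g a => isClassFunction_expand d (g : G) a) _ hs']
  have hz : ∀ θ : b, Cfsg.classInner (fun g : CU (z : G) => expand B d g)
      ((θ : Cfsg.IrrCharacter (CU (z : G))) : CU (z : G) → ℂ) = 0 := by
    intro θ
    rw [show (fun g : CU (z : G) => expand B d g) = (fun g : CU (z : G) => expand B f g) -
      ∑ i, α i • (fun g : CU (z : G) => F i g) from funext fun g => by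
        rw [hdexp]; simp [Finset.sum_apply], classInner_sub_left, classInner_sum_left]
    simp only [classInner_smul_left, hFdef, S.ind_coeff (hc.ker _)]
    rw [show Cfsg.classInner (fun g : CU (z : G) => expand B f g)
      ((θ : Cfsg.IrrCharacter (CU (z : G))) : CU (z : G) → ℂ) = β θ from rfl, hα θ, sub_self]
  simp only [hz]
  unfold expand
  rw [th_linear]
  simp

/-- Every member of the block occurs in a combination. -/
theorem Setting.exists_col_ne [Fintype B] {ι : Type*} [Fintype ι] {A : ι → ι → ℤ}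
    {c : ι → B → ℤ} (hc : IsCols 2 B A c) (χ : B) : ∃ i, c i χ ≠ 0 := by
  classical
  haveI := Fintype.ofFinite G
  haveI := Fintype.ofFinite (Cfsg.IrrCharacter G)
  by_contra hcon
  push Not at hcon
  set f : B → ℂ := fun θ => wgt 2 M e ((χ : Cfsg.IrrCharacter G) : G → ℂ)
    ((θ : Cfsg.IrrCharacter G) : G → ℂ) z with hfdef
  have hf : IsKer 2 B f := fun s hs => by
    rw [← column_regular S.hM S.hmax χ.2 S.ne hs,
      Finset.sum_subtype (p := fun η => η ∈ B) _ (fun η => by simp)]
  obtain ⟨α, hα⟩ := hc.span f hf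
  have h0 := hα χ
  simp only [hcon, Int.cast_zero, mul_zero, Finset.sum_const_zero] at h0
  revert h0
  simp only [hfdef, wgt]
  obtain ⟨s, hs, hne⟩ := exists_th_ne_zero_center S.hM S.hmax S.cen χ.2
  refine div_ne_zero ?_ (Nat.cast_ne_zero.2 Nat.card_pos.ne')
  rw [pairing_self, Ne, Complex.ofReal_eq_zero]
  refine (Finset.sum_pos' (fun _ _ => sq_nonneg _) ⟨s, hs, ?_⟩).ne'
  exact pow_pos (norm_pos_iff.2 hne) 2

end Local

end Cfsg.Agent.Blocks.Quaternion
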