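import Mathlib
import Cfsg.Agent.Lib.Blocks.Quaternion.Frames
import Cfsg.Agent.Lib.Blocks.Quaternion.Transfer
import Cfsg.Agent.Lib.Blocks.Dihedral.Main

/-!
# The frame of the coordinates of a block with dihedral defect group
-/

set_option linter.style.haveILetI false
set_option linter.unusedSectionVars false

namespace Cfsg.Agent.Blocks.Quaternion

open Cfsg.Agent.Blocks Cfsg.Agent.Characters Cfsg.Agent.Blocks.Star
open Cfsg.Agent.Blocks.CentralStep
open Cfsg.Agent.BlockCharsA.BrauerPairs Cfsg.Agent.BlockCharsA.PairConj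
open Cfsg.Agent.Blocks.Dihedral (IsDih cz uz coefC colPow coefC_inverse coefC_refl alt_sum ind
  sum_sign)

universe u

/-- The frame fills the indices when there are four more than vectors and each counts at the
involution. -/
theorem exists_frame_bijective {α : Type*} [Fintype α] [DecidableEq α] {m : ℕ} (hm : Odd m)
    {c : Fin m → α → ℤ} {cs : α → ℤ}
    (hcc : ∀ i j, ∑ t, c i t * c j t = 2 + if i = j then 1 else 0)
    (hss : ∑ t, cs t ^ 2 = 4) (hcs : ∀ i, ∑ t, c i t * cs t = 2)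
    (hne : ∀ t, uz c cs t ≠ 0) (hk : Fintype.card α = m + 4) :
    ∃ F : Frame c cs, Function.Bijective F.ρ := by
  classical
  have hns : ∀ t, cs t = 0 ∨ cs t = 1 ∨ cs t = -1 := by
    intro t
    have h1 := Finset.single_le_sum (f := fun t => cs t ^ 2) (fun _ _ => sq_nonneg _)
      (Finset.mem_univ t)
    rw [hss] at h1
    have h2 : |cs t| ≤ 2 := abs_le_of_sq_le_sq (by norm_num; exact h1) (by norm_num)
    rw [abs_le] at h2
    by_contra hcon
    have h3 : cs t ^ 2 = 4 := by
      rcases (show cs t = 2 ∨ cs t = -2 by omega) with e | e <;> simp [e]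
    have h4 : ∀ x, x ≠ t → cs x = 0 := fun x hx => by
      have h5 := Finset.sum_le_sum_of_subset_of_nonneg (Finset.subset_univ ({x, t} : Finset α))
        (f := fun t => cs t ^ 2) fun t _ _ => sq_nonneg _
      rw [Finset.sum_pair hx, hss, h3] at h5
      exact pow_eq_zero_iff two_ne_zero |>.1 (le_antisymm (by linarith) (sq_nonneg _))
    have h6 : ∀ i, 2 * c i t = cs t := fun i => by
      have e := hcs i
      rw [Finset.sum_eq_single t (fun x _ hx => by rw [h4 x hx, mul_zero]) (by simp)] at e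
      rcases (show cs t = 2 ∨ cs t = -2 by omega) with e' | e' <;> rw [e'] at e ⊢ <;> omega
    refine hne t ?_
    rw [uz, Finset.mul_sum, Finset.sum_congr rfl
      (g := fun i : Fin m => (-1) ^ ((i : ℕ) + 1) * cs t) fun i _ => by rw [← h6 i]; ring,
      ← Finset.sum_mul, sum_sign hm]
    ring
  rcases trichotomy hm hcc hss hcs hns with hF | hE | hT
  · obtain ⟨F⟩ := hF
    exact ⟨F, (Fintype.bijective_iff_injective_and_card _).2
      ⟨F.inj, by rw [Pos.card_eq, hk]; omega⟩⟩
  · exfalso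
    obtain ⟨a, b, x, σ, rfl, -, -, -, -, -, hc, hs⟩ := hE
    have hsub : (Finset.univ : Finset α) ⊆ {a, b, x 0, x 1, x 2} := fun t _ => by
      by_contra ht
      simp only [Finset.mem_insert, Finset.mem_singleton, not_or] at ht
      refine hne t ?_
      simp [uz, hc, hs, ind, Fin.sum_univ_three, ht, Fin.forall_fin_succ, eq_comm (b := t)]
    have := (Finset.card_le_card hsub).trans Finset.card_le_five
    rw [Finset.card_univ, hk] at this
    omega
  · exfalso
    obtain ⟨a, b, u, v, y, i₀, i₁, i₂, σ, rfl, -, hi, -, h0, h1, h2, hs⟩ := hT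
    have hall : ∀ i, i = i₀ ∨ i = i₁ ∨ i = i₂ := by
      simp only [List.nodup_cons, List.mem_cons, List.not_mem_nil, or_false, not_or] at hi
      have key : ∀ i₀ i₁ i₂ : Fin 3, i₀ ≠ i₁ → i₀ ≠ i₂ → i₁ ≠ i₂ →
          ∀ i, i = i₀ ∨ i = i₁ ∨ i = i₂ := by decide
      exact key i₀ i₁ i₂ hi.1.1 hi.1.2 hi.2.1
    have hsub : (Finset.univ : Finset α) ⊆ {a, b, u, v, y} := fun t _ => by
      by_contra ht
      simp only [Finset.mem_insert, Finset.mem_singleton, not_or] at ht
      refine hne t ?_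
      have hz : ∀ i, c i t = 0 := fun i => by
        rcases hall i with rfl | rfl | rfl <;> simp [h0, h1, h2, ind, ht]
      simp [uz, hz, hs, ind, ht]
    have := (Finset.card_le_card hsub).trans Finset.card_le_five
    rw [Finset.card_univ, hk] at this
    omega

variable {G : Type u} [Group G] [Finite G] [Fintype G] [Fintype (Cfsg.IrrCharacter G)]
  {M : Ideal Cfsg.AlgInt} {B : Set (Cfsg.IrrCharacter G)} [Fintype B] {P : Subgroup G}
  {e : Set (Cfsg.IrrCharacter (Subgroup.centralizer (P : Set G)))} {r : P} {N : ℕ}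
  [Fintype (CU ((cz r N : P) : G))] [Fintype (Cfsg.IrrCharacter (top' P ((cz r N : P) : G)))]
  (hM : Cfsg.IsPModular 2 M) (hmax : Cfsg.IsMaximalBrauerPair 2 M B P e) (h : IsDih P r N)
  (L : Loc 2 M e (cz r N))

/-- The coordinates of the members, with their frame. -/
structure Coords (ω : ℂ) where
  root : IsPrimitiveRoot ω N
  c : B → ℕ → ℤ
  eq : ∀ (t : B) k, coefC ω N (colPow L (t : Cfsg.IrrCharacter G)) k = (c t k : ℂ)
  F : Frame (fun (i : Fin (N / 2 - 1)) (t : B) => c t (i + 1)) fun t => c t (N / 2)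
  bij : Function.Bijective F.ρ
  huz : ∀ t : B, Dihedral.col L ((t : Cfsg.IrrCharacter G) : G → ℂ) (cz r N) =
    -((uz (fun (i : Fin (N / 2 - 1)) (t : B) => c t (i + 1)) (fun t => c t (N / 2)) t : ℤ) : ℂ)

include hM hmax h in
theorem exists_coordsFrame : ∃ ω : ℂ, Nonempty (Coords (B := B) L ω) := by
  classical
  have h4 := h.four_le
  obtain ⟨j₀, hj₀, hN⟩ := h.pow
  obtain ⟨i, rfl⟩ : ∃ i, j₀ = i + 2 := ⟨j₀ - 2, by omega⟩
  have hhalf : N = 2 * (N / 2) := by have := h.two_dvd; omega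
  have hNh : N / 2 = 2 * 2 ^ i := by rw [hN, pow_add]; omega
  have heven : Even (N / 2) := ⟨2 ^ i, by omega⟩
  have hodd : Odd (N / 2 - 1) := by
    have : 1 ≤ 2 ^ i := Nat.one_le_two_pow
    exact ⟨2 ^ i - 1, by omega⟩
  set ω : ℂ := Complex.exp (2 * Real.pi * Complex.I / N)
  have hω : IsPrimitiveRoot ω N := Complex.isPrimitiveRoot_exp N (by omega)
  obtain ⟨c, hc, hgram⟩ := Dihedral.exists_gram hM hmax h L (ω := ω) hω
  refine ⟨ω, ?_⟩
  have hrefl : ∀ (t : B) k, k ≤ N → coefC ω N (colPow L t) (N - k) = coefC ω N (colPow L t) k :=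
    fun t k hk => coefC_refl hω (fun j hj => Dihedral.colPow_refl hM hmax h L t hj) hk
  have hωh : ω ^ (N / 2) = -1 :=
    (hω.pow (show 0 < N by omega) (show N = N / 2 * 2 by omega)).eq_neg_one_of_two_right
  have huz : ∀ t : B, Dihedral.col L ((t : Cfsg.IrrCharacter G) : G → ℂ) (cz r N) =
      -((uz (fun (i : Fin (N / 2 - 1)) (t : B) => c t (i + 1)) (fun t => c t (N / 2)) t : ℤ) :
        ℂ) := by
    intro t
    have e1 := coefC_inverse hω (colPow L t) (i := N / 2) (by omega) (by omega)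
    simp only [mul_comm _ (N / 2), pow_mul, hωh] at e1
    have e2 := alt_sum heven (by omega) (fun k => coefC ω N (colPow L t) k)
      (Dihedral.coefC_zero _) (fun k hk => by rw [← hhalf]; exact hrefl t k (by omega))
    rw [← hhalf] at e2
    rw [e2, show N - N / 2 = N / 2 by omega] at e1
    rw [show Dihedral.col L ((t : Cfsg.IrrCharacter G) : G → ℂ) (cz r N) =
      colPow L t (N / 2) from rfl, ← neg_neg (colPow L (t : Cfsg.IrrCharacter G) (N / 2)), ← e1]
    simp only [uz, hc]
    rw [← Fin.sum_univ_eq_sum_range (fun i => (-1 : ℂ) ^ (i + 1) * (c t (i + 1) : ℂ))]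
    push_cast
    ring
  have hg : ∀ k l, 1 ≤ k → k ≤ N / 2 → 1 ≤ l → l ≤ N / 2 →
      ∑ t, c t k * c t l = 2 + ((if k + l = N then 1 else 0) + if k = l then 1 else 0) :=
    fun k l hk hk' hl hl' => by
      apply Int.cast_injective (α := ℂ)
      push_cast
      exact hgram k l hk (by omega) hl (by omega)
  obtain ⟨F, hF⟩ := exists_frame_bijective
    (c := fun (i : Fin (N / 2 - 1)) (t : B) => c t (i + 1)) (cs := fun t => c t (N / 2)) hodd
    (fun i j => by
      rw [hg ((i : ℕ) + 1) ((j : ℕ) + 1) (by omega) (by omega) (by omega) (by omega),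
        if_neg (show ¬ (i : ℕ) + 1 + ((j : ℕ) + 1) = N by omega)]
      simp [Fin.ext_iff])
    (by
      have := hg (N / 2) (N / 2) (by omega) le_rfl (by omega) le_rfl
      rw [if_pos (show N / 2 + N / 2 = N by omega), if_pos rfl] at this
      simp only [sq]
      rw [this]
      norm_num)
    (fun i => by
      rw [hg ((i : ℕ) + 1) (N / 2) (by omega) (by omega) (by omega) le_rfl,
        if_neg (show ¬ (i : ℕ) + 1 + N / 2 = N by omega),
        if_neg (show ¬ (i : ℕ) + 1 = N / 2 by omega)]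
      rfl)
    (fun t h0 => Dihedral.col_cz_ne_zero hM hmax h L t.2 (by
      rw [huz, h0, Int.cast_zero, neg_zero]))
    (by
      rw [← Nat.card_eq_fintype_card, (Dihedral.invariants hM hmax h).1]
      omega)
  exact ⟨⟨hω, c, hc, F, hF, huz⟩⟩

variable {ω : ℂ} (C : Coords (B := B) L ω)

include hM hmax h

/-- The coordinates kill the regular elements. -/
theorem Coords.ker (k : ℕ) {s : G} (hs : ¬ 2 ∣ orderOf s) :
    ∑ t : B, (C.c t k : ℂ) * ((t : Cfsg.IrrCharacter G) : G → ℂ) s = 0 := by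
  classical
  simp only [← C.eq, coefC, div_mul_eq_mul_div, ← Finset.sum_div, Finset.sum_mul, mul_assoc]
  rw [Finset.sum_comm, Finset.sum_eq_zero fun j hj => ?_, zero_div]
  rw [← Finset.mul_sum]
  rcases Nat.eq_zero_or_pos j with rfl | h1
  · simp
  · refine mul_eq_zero_of_right _ ?_
    rw [← Finset.sum_subtype (Finset.univ.filter fun χ => χ ∈ B) (fun χ => by simp)
      (fun χ : Cfsg.IrrCharacter G => colPow L χ j * (χ : G → ℂ) s)]
    exact Dihedral.col_regular hM hmax h L (Subgroup.npow_mem_zpowers r j)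
      (Dihedral.pow_ne_one' h h1 (Finset.mem_range.1 hj)) hs

/-- A member outside the third points has height zero. -/
theorem Coords.height_zero (q : Pos (N / 2 - 1) 0 0) (hq : ∀ i, q ≠ .x i) :
    Cfsg.blockHeight 2 B ((C.F.ρ q : Cfsg.IrrCharacter G) : G → ℂ) = 0 := by
  classical
  have h4 := h.four_le
  obtain ⟨j, hj, hN⟩ := h.pow
  obtain ⟨i, rfl⟩ : ∃ i, j = i + 2 := ⟨j - 2, by omega⟩
  have hodd : Odd (N / 2 - 1) := by
    have : 1 ≤ 2 ^ i := Nat.one_le_two_pow
    exact ⟨2 ^ i - 1, by rw [hN, pow_add]; omega⟩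
  rw [Dihedral.height_eq hM hmax h L
    (fun χ hχ => ⟨_, (C.huz ⟨χ, hχ⟩).trans (Int.cast_neg _).symm⟩) (C.F.ρ q).2
    ((C.huz (C.F.ρ q)).trans (Int.cast_neg _).symm), Int.natAbs_neg]
  refine Nat.factorization_eq_zero_of_not_dvd fun hd => ?_
  have e : uz (fun (i : Fin (N / 2 - 1)) (t : B) => C.c t (i + 1)) (fun t => C.c t (N / 2))
      (C.F.ρ q) = C.F.σ (C.F.ρ q) * (2 * (if q = .a ∨ q = .b then -1 else 0) + 1) := by
    have h1 : ∀ i : Fin (N / 2 - 1), C.c (C.F.ρ q) ((i : ℕ) + 1) =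
        C.F.σ (C.F.ρ q) * if q = .a ∨ q = .b then 1 else 0 := fun i => by
      rw [C.F.hc i]
      simp [ind, C.F.inj.eq_iff, hq i]
    have h2 : C.c (C.F.ρ q) (N / 2) = C.F.σ (C.F.ρ q) := by
      rw [C.F.hs]
      have : q = .a ∨ q = .b ∨ q = .u ∨ q = .v := by
        rcases q with _ | _ | _ | _ | i | i | i
        exacts [Or.inl rfl, Or.inr (Or.inl rfl), Or.inr (Or.inr (Or.inl rfl)),
          Or.inr (Or.inr (Or.inr rfl)), absurd rfl (hq i), i.elim0, i.elim0]
      simp [ind, C.F.inj.eq_iff, this]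
    simp only [uz, h1, h2, ← Finset.sum_mul, sum_sign hodd]
    split_ifs <;> ring
  rw [e, Int.natAbs_mul] at hd
  rcases C.F.unit (C.F.ρ q) with e' | e' <;> rw [e'] at hd <;> split_ifs at hd <;> norm_num at hd

end Cfsg.Agent.Blocks.Quaternion
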