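import Mathlib
import Cfsg.Agent.Lib.Blocks.Quaternion.Frames

/-!
# Integral vectors with the products of the columns

Orthogonality to a vector without zero entries fixes the two vectors `H` as `a u g` and `b u k`,
up to renaming and replacing the second one by its difference from `C`.
-/

namespace Cfsg.Agent.Blocks.Quaternion

open Cfsg.Agent.Blocks.Dihedral (ind unit_terms)

variable {α : Type*} [Fintype α] [DecidableEq α]

theorem sum_ind (σ f : α → ℤ) (K : Finset α) :
    ∑ t, σ t * ind K t * f t = ∑ t ∈ K, σ t * f t := by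
  rw [← Finset.sum_subset (Finset.subset_univ K) fun t _ ht => by simp [ind, ht]]
  exact Finset.sum_congr rfl fun t ht => by simp [ind, ht]

theorem sum_ind_real (σ : α → ℤ) (δ : α → ℝ) (K : Finset α) :
    ∑ t, ((σ t * ind K t : ℤ) : ℝ) * δ t = ∑ t ∈ K, (σ t : ℝ) * δ t := by
  rw [← Finset.sum_subset (Finset.subset_univ K) fun t _ ht => by simp [ind, ht]]
  exact Finset.sum_congr rfl fun t ht => by simp [ind, ht]

theorem sq_sign {σ : α → ℤ} (hσ : ∀ t, σ t = 1 ∨ σ t = -1) (t : α) : σ t * σ t = 1 := by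
  rcases hσ t with e | e <;> simp [e]

/-- Small vectors have entries of absolute value at most one. -/
theorem small_entry {σ h : α → ℤ} (hσ : ∀ t, σ t = 1 ∨ σ t = -1) (hh : ∑ t, h t ^ 2 ≤ 3) (t : α) :
    σ t * h t = 0 ∨ σ t * h t = 1 ∨ σ t * h t = -1 := by
  have h1 := le_trans (Finset.single_le_sum (f := fun t => h t ^ 2) (fun _ _ => sq_nonneg _)
    (Finset.mem_univ t)) hh
  have h2 : |h t| < 2 := by nlinarith [abs_nonneg (h t), sq_abs (h t)]
  rw [abs_lt] at h2
  rcases hσ t with e | e <;> rw [e] <;> omega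

variable {m : ℕ} {c : Fin m → α → ℤ} {cs : α → ℤ}

namespace Frame

variable (F : Frame c cs)

theorem c_apply (i : Fin m) (q : Pos m 0 0) :
    c i (F.ρ q) = F.σ (F.ρ q) * col (Sel.V i) q := by
  rw [F.hc]
  congr 1
  simp only [ind, col, Finset.mem_insert, Finset.mem_singleton, F.inj.eq_iff]

theorem cs_apply (q : Pos m 0 0) :
    cs (F.ρ q) = F.σ (F.ρ q) * col (Sel.C (M := m)) q := by
  rw [F.hs]
  congr 1
  simp only [ind, col, Finset.mem_insert, Finset.mem_singleton, F.inj.eq_iff]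

/-- The indices outside the frame. -/
def out : Finset α := Finset.univ \ Finset.univ.image F.ρ

theorem mem_out {t : α} : t ∈ F.out ↔ ∀ q, F.ρ q ≠ t := by
  simp [out]

theorem ne_out {t : α} (ht : t ∈ F.out) (q : Pos m 0 0) : t ≠ F.ρ q :=
  fun e => (F.mem_out.1 ht) q e.symm

theorem c_out {i : Fin m} {t : α} (ht : t ∈ F.out) : c i t = 0 := by
  rw [F.hc]
  simp [ind, F.ne_out ht]

theorem cs_out {t : α} (ht : t ∈ F.out) : cs t = 0 := by
  rw [F.hs]
  simp [ind, F.ne_out ht]

theorem sum_split {R : Type*} [AddCommMonoid R] (f : α → R) :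
    ∑ t, f t = ∑ q, f (F.ρ q) + ∑ t ∈ F.out, f t := by
  rw [out, add_comm, ← Finset.sum_image (g := F.ρ) fun a _ b _ h => F.inj h,
    Finset.sum_sdiff (Finset.subset_univ _)]

/-- Exchanging the first pair. -/
def swapAB : Frame c cs where
  ρ q := F.ρ (Equiv.swap Pos.a Pos.b q)
  inj := F.inj.comp (Equiv.injective _)
  σ := F.σ
  unit := F.unit
  hc i t := by
    rw [F.hc]
    congr 1
    simp [ind, Equiv.swap_apply_of_ne_of_ne, or_left_comm]
  hs t := by
    rw [F.hs]
    congr 1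
    simp [ind, Equiv.swap_apply_of_ne_of_ne, or_left_comm]

/-- Exchanging the second pair. -/
def swapUV : Frame c cs where
  ρ q := F.ρ (Equiv.swap Pos.u Pos.v q)
  inj := F.inj.comp (Equiv.injective _)
  σ := F.σ
  unit := F.unit
  hc i t := by
    rw [F.hc]
    congr 1 <;> simp [ind, Equiv.swap_apply_of_ne_of_ne]
  hs t := by
    rw [F.hs]
    congr 1
    simp [ind, Equiv.swap_apply_of_ne_of_ne, or_comm, or_left_comm]

end Frame

/-- A column through one of `a b`, one of `u v` and `g` further indices. -/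
structure IsH (F : Frame c cs) (h : α → ℤ) (p q : Pos m 0 0) (g : ℕ) : Prop where
  hp : p = .a ∨ p = .b
  hq : q = .u ∨ q = .v
  val : ∀ r, F.σ (F.ρ r) * h (F.ρ r) = if r = p ∨ r = q then 1 else 0
  out : ∑ t ∈ F.out, h t ^ 2 = (g : ℤ)

/-- The value of `IsH` without the sign. -/
theorem IsH.apply {F : Frame c cs} {h : α → ℤ} {p q : Pos m 0 0} {g : ℕ} (H : IsH F h p q g)
    (r : Pos m 0 0) : h (F.ρ r) = F.σ (F.ρ r) * if r = p ∨ r = q then 1 else 0 := by
  rw [← H.val r, ← mul_assoc, sq_sign F.unit, one_mul]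

theorem IsH.swapAB {F : Frame c cs} {h : α → ℤ} {p q : Pos m 0 0} {g : ℕ} (H : IsH F h p q g) :
    IsH F.swapAB h (Equiv.swap Pos.a Pos.b p) q g := by
  have hout : F.swapAB.out = F.out := by
    ext t
    simp only [Frame.mem_out, Frame.swapAB]
    exact ⟨fun hh r => by simpa using hh (Equiv.swap Pos.a Pos.b r), fun hh r => hh _⟩
  refine ⟨?_, H.hq, fun r => ?_, by rw [hout]; exact H.out⟩
  · rcases H.hp with e | e <;> simp [e]
  · show F.σ (F.ρ (Equiv.swap Pos.a Pos.b r)) * h (F.ρ (Equiv.swap Pos.a Pos.b r)) = _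
    rw [H.val]
    refine if_congr ?_ rfl rfl
    rcases H.hq with e | e <;> subst e <;>
      simp [Equiv.swap_apply_eq_iff, Equiv.swap_apply_of_ne_of_ne]

theorem IsH.swapUV {F : Frame c cs} {h : α → ℤ} {p q : Pos m 0 0} {g : ℕ} (H : IsH F h p q g) :
    IsH F.swapUV h p (Equiv.swap Pos.u Pos.v q) g := by
  have hout : F.swapUV.out = F.out := by
    ext t
    simp only [Frame.mem_out, Frame.swapUV]
    exact ⟨fun hh r => by simpa using hh (Equiv.swap Pos.u Pos.v r), fun hh r => hh _⟩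
  refine ⟨H.hp, ?_, fun r => ?_, by rw [hout]; exact H.out⟩
  · rcases H.hq with e | e <;> simp [e]
  · show F.σ (F.ρ (Equiv.swap Pos.u Pos.v r)) * h (F.ρ (Equiv.swap Pos.u Pos.v r)) = _
    rw [H.val]
    refine if_congr ?_ rfl rfl
    rcases H.hp with e | e <;> subst e <;>
      simp [Equiv.swap_apply_eq_iff, Equiv.swap_apply_of_ne_of_ne]

section Orth

variable {δ : α → ℝ} (hδ : ∀ t, δ t ≠ 0) (hdc : ∀ i, ∑ t, (c i t : ℝ) * δ t = 0)
  (hds : ∑ t, (cs t : ℝ) * δ t = 0)
include hδ hdc hds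

/-- A third vector inside a frame. -/
theorem exists_isH (F : Frame c cs) (hm : 0 < m) {h : α → ℤ} {g : ℕ} (hg : g ≤ 1)
    (hdh : ∑ t, (h t : ℝ) * δ t = 0) (hhh : ∑ t, h t ^ 2 = 2 + (g : ℤ))
    (hch : ∀ i, ∑ t, c i t * h t = 1) (hsh : ∑ t, cs t * h t = 2) :
    ∃ p q, IsH F h p q g := by
  classical
  set k : Pos m 0 0 → ℤ := fun r => F.σ (F.ρ r) * h (F.ρ r) with hk
  have hle : ∑ t, h t ^ 2 ≤ 3 := by rw [hhh]; omega
  have hbound : ∀ r, k r = 0 ∨ k r = 1 ∨ k r = -1 := fun r => small_entry F.unit hle _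
  have hV : ∀ i, k .a + k .b + k (.x i) = 1 := fun i => by
    have e := hch i
    rw [F.sum_split, Finset.sum_eq_zero (s := F.out) fun t ht => by rw [F.c_out ht, zero_mul],
      add_zero] at e
    simp only [F.c_apply, mul_assoc, mul_left_comm (F.σ _) (col _ _)] at e
    simpa [Pos.sum_eq, col, Finset.sum_ite_eq', hk] using e
  have hC : k .a + k .b + k .u + k .v = 2 := by
    have e := hsh
    rw [F.sum_split, Finset.sum_eq_zero (s := F.out) fun t ht => by rw [F.cs_out ht, zero_mul],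
      add_zero] at e
    simp only [F.cs_apply, mul_assoc, mul_left_comm (F.σ _) (col _ _)] at e
    simpa [Pos.sum_eq, col, hk] using e
  set i₀ : Fin m := ⟨0, hm⟩
  set η := k (.x i₀) with hη
  have hx : ∀ i, k (.x i) = η := fun i => by have := hV i; have := hV i₀; omega
  have hnorm : k .a ^ 2 + k .b ^ 2 + k .u ^ 2 + k .v ^ 2 + (m : ℤ) * η ^ 2 +
      ∑ t ∈ F.out, h t ^ 2 = 2 + (g : ℤ) := by
    rw [← hhh, F.sum_split (fun t => h t ^ 2)]
    congr 1
    have e : ∀ r, h (F.ρ r) ^ 2 = k r ^ 2 := fun r => by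
      simp only [hk, mul_pow]; rcases F.unit (F.ρ r) with e | e <;> simp [e]
    simp only [e, Pos.sum_eq, Finset.univ_eq_empty, Finset.sum_empty, add_zero, hx,
      Finset.sum_const, Finset.card_univ, Fintype.card_fin, nsmul_eq_mul]
  have hT0 : 0 ≤ ∑ t ∈ F.out, h t ^ 2 := Finset.sum_nonneg fun _ _ => sq_nonneg _
  -- orthogonality to `δ` on the frame
  set d : Pos m 0 0 → ℝ := fun r => (F.σ (F.ρ r) : ℝ) * δ (F.ρ r) with hd
  have hdV : ∀ i, d .a + d .b + d (.x i) = 0 := fun i => by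
    have e := hdc i
    rw [F.sum_split, Finset.sum_eq_zero (s := F.out) fun t ht => by
      rw [F.c_out ht, Int.cast_zero, zero_mul], add_zero] at e
    simp only [F.c_apply, Int.cast_mul, mul_assoc, mul_left_comm ((F.σ _ : ℤ) : ℝ)] at e
    simpa [Pos.sum_eq, col, Finset.sum_ite_eq', hd] using e
  have hdC : d .a + d .b + d .u + d .v = 0 := by
    have e := hds
    rw [F.sum_split, Finset.sum_eq_zero (s := F.out) fun t ht => by
      rw [F.cs_out ht, Int.cast_zero, zero_mul], add_zero] at e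
    simp only [F.cs_apply, Int.cast_mul, mul_assoc, mul_left_comm ((F.σ _ : ℤ) : ℝ)] at e
    simpa [Pos.sum_eq, col, hd] using e
  have hη0 : η = 0 := by
    by_contra hne
    have hη1 : η ^ 2 = 1 := by
      rcases hbound (.x i₀) with e | e | e <;> simp only [← hη] at e <;> simp [e] at hne ⊢
    rw [hη1, mul_one] at hnorm
    have hm1 : (1 : ℤ) ≤ m := by exact_mod_cast hm
    have key : (k .a = 0 ∧ k .b = 0 ∧ k .u = 1 ∧ k .v = 1 ∧ η = 1 ∨
        k .a = 1 ∧ k .b = 1 ∧ k .u = 0 ∧ k .v = 0 ∧ η = -1) ∧ m = 1 ∧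
        ∑ t ∈ F.out, h t ^ 2 = 0 := by
      have := hV i₀
      simp only [← hη] at this
      rcases hbound .a with e1 | e1 | e1 <;> rcases hbound .b with e2 | e2 | e2 <;>
        rcases hbound .u with e3 | e3 | e3 <;> rcases hbound .v with e4 | e4 | e4 <;>
        first
          | omega
          | (rw [e1, e2, e3, e4] at hnorm; norm_num at hnorm
             refine ⟨?_, by omega, by omega⟩; omega)
    obtain ⟨hcases, hm', hT⟩ := key
    subst hm'
    have hzero : ∀ t ∈ F.out, h t = 0 := fun t ht =>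
      pow_eq_zero_iff two_ne_zero |>.1
        ((Finset.sum_eq_zero_iff_of_nonneg fun _ _ => sq_nonneg _).1 hT t ht)
    have hd' : ∑ r, (k r : ℝ) * d r = 0 := by
      rw [← hdh, F.sum_split, Finset.sum_eq_zero (s := F.out) fun t ht => by
        rw [hzero t ht, Int.cast_zero, zero_mul], add_zero]
      refine Finset.sum_congr rfl fun r _ => ?_
      simp only [hk, hd]
      rcases F.unit (F.ρ r) with e | e <;> simp [e]
    have hdx : d (.x i₀) = 0 := by
      have := hdV i₀
      rw [Pos.sum_eq] at hd'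
      simp only [Finset.univ_eq_empty, Finset.sum_empty, add_zero,
        Fin.sum_univ_one, show (0 : Fin 1) = i₀ from Subsingleton.elim _ _, ← hη] at hd'
      rcases hcases with ⟨a1, a2, a3, a4, a5⟩ | ⟨a1, a2, a3, a4, a5⟩ <;>
        rw [a1, a2, a3, a4, a5] at hd' <;> push_cast at hd' <;> linarith
    simp only [hd, mul_eq_zero, Int.cast_eq_zero] at hdx
    rcases hdx with e | e
    · rcases F.unit (F.ρ (.x i₀)) with e' | e' <;> omega
    · exact hδ _ e
  rw [hη0] at hnorm
  norm_num at hnorm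
  have hV0 := hV i₀
  simp only [← hη, hη0, add_zero] at hV0
  obtain ⟨p, hp, hpv⟩ : ∃ p : Pos m 0 0, (p = .a ∨ p = .b) ∧
      k .a = (if Pos.a = p then 1 else 0) ∧ k .b = (if Pos.b = p then 1 else 0) := by
    rcases hbound .a with e | e | e <;> rcases hbound .b with e' | e' | e' <;> first
      | omega
      | (refine ⟨.a, Or.inl rfl, ?_, ?_⟩ <;> simp [e, e'] <;> done)
      | (refine ⟨.b, Or.inr rfl, ?_, ?_⟩ <;> simp [e, e'] <;> done)
  obtain ⟨q, hq, hqv⟩ : ∃ q : Pos m 0 0, (q = .u ∨ q = .v) ∧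
      k .u = (if Pos.u = q then 1 else 0) ∧ k .v = (if Pos.v = q then 1 else 0) := by
    rcases hbound .u with e | e | e <;> rcases hbound .v with e' | e' | e' <;> first
      | omega
      | (refine ⟨.u, Or.inl rfl, ?_, ?_⟩ <;> simp [e, e'] <;> done)
      | (refine ⟨.v, Or.inr rfl, ?_, ?_⟩ <;> simp [e, e'] <;> done)
  refine ⟨p, q, hp, hq, fun r => ?_, ?_⟩
  · show k r = _
    rcases r with _ | _ | _ | _ | i | i | i
    · rw [hpv.1]; rcases hq with rfl | rfl <;> simp
    · rw [hpv.2]; rcases hq with rfl | rfl <;> simp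
    · rw [hqv.1]; rcases hp with rfl | rfl <;> simp
    · rw [hqv.2]; rcases hp with rfl | rfl <;> simp
    · rw [hx i, hη0]; rcases hp with rfl | rfl <;> rcases hq with rfl | rfl <;> simp
    · exact i.elim0
    · exact i.elim0
  · rw [hpv.1, hpv.2, hqv.1, hqv.2] at hnorm
    rcases hp with rfl | rfl <;> rcases hq with rfl | rfl <;> simp at hnorm <;> linarith

/-- The exceptional shapes admit no third vector. -/
theorem no_exotic {h : α → ℤ} (hhh : ∑ t, h t ^ 2 ≤ 3) (hch : ∀ i, ∑ t, c i t * h t = 1)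
    (hsh : ∑ t, cs t * h t = 2) : ¬ Exotic c cs ∧ ¬ Tetra c cs := by
  classical
  refine ⟨?_, ?_⟩
  · rintro ⟨a, b, x, σ, rfl, hab, hxa, hxb, hinj, hσ, hc, hs⟩
    set k : α → ℤ := fun t => σ t * h t
    have hV : ∀ i, k a + k b + k (x i) = 1 := fun i => by
      have e := hch i
      simp only [hc, sum_ind] at e
      rw [Finset.sum_insert (by simp [hab, (hxa i).symm]),
        Finset.sum_insert (by simp [(hxb i).symm]), Finset.sum_singleton, ← add_assoc] at e
      exact e
    have hC : k a + (k (x 0) + k (x 1) + k (x 2)) = 2 := by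
      have e := hsh
      simp only [hs, sum_ind] at e
      rw [Finset.sum_insert (by simp [hxa]), Finset.sum_image fun i _ j _ h => hinj h,
        Fin.sum_univ_three] at e
      exact e
    have hn : k a ^ 2 + (k b ^ 2 + (k (x 0) ^ 2 + k (x 1) ^ 2 + k (x 2) ^ 2)) ≤ 3 := by
      refine le_trans (le_of_eq ?_) (le_trans (Finset.sum_le_sum_of_subset_of_nonneg
        (Finset.subset_univ (insert a (insert b (Finset.univ.image x))))
        (f := fun t => h t ^ 2) fun t _ _ => sq_nonneg _) hhh)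
      rw [Finset.sum_insert (by simp [hab, hxa]), Finset.sum_insert (by simp [hxb]),
        Finset.sum_image fun i _ j _ h => hinj h, Fin.sum_univ_three]
      simp only [k, mul_pow, sq (σ _), sq_sign hσ, one_mul]
    have := hV 0; have := hV 1; have := hV 2
    have hka : k a = 0 ∨ k a = 1 ∨ k a = -1 := small_entry hσ hhh a
    have hkb : k b = 0 ∨ k b = 1 ∨ k b = -1 := small_entry hσ hhh b
    have hkx : k (x 0) = 0 ∨ k (x 0) = 1 ∨ k (x 0) = -1 := small_entry hσ hhh (x 0)
    rcases hka with e1 | e1 | e1 <;> rcases hkb with e2 | e2 | e2 <;>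
      rcases hkx with e3 | e3 | e3 <;> first
      | omega
      | (rw [show k (x 1) = k (x 0) by omega, show k (x 2) = k (x 0) by omega] at hn
         rw [e1, e2, e3] at hn
         norm_num at hn)
  · rintro ⟨a, b, u, v, y, i₀, i₁, i₂, σ, -, hnd, -, hσ, h0, h1, h2, hs⟩
    simp only [List.nodup_cons, List.mem_cons, List.not_mem_nil, or_false, not_or,
      List.nodup_nil, and_true, not_false_eq_true] at hnd
    obtain ⟨⟨hab, hau, hav, hay⟩, ⟨hbu, hbv, hby⟩, ⟨huv, huy⟩, hvy⟩ := hnd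
    set k : α → ℤ := fun t => σ t * h t
    have e0 := hch i₀
    have e1 := hch i₁
    have e2 := hch i₂
    have e3 := hsh
    simp only [h0, sum_ind] at e0
    simp only [h1, sum_ind] at e1
    simp only [h2, sum_ind] at e2
    simp only [hs, sum_ind] at e3
    rw [Finset.sum_insert (by simp [hab, hau]), Finset.sum_pair hbu] at e0
    rw [Finset.sum_insert (by simp [hab, hav]), Finset.sum_pair hbv] at e1
    rw [Finset.sum_insert (by simp [hbu, hbv]), Finset.sum_pair huv] at e2
    rw [Finset.sum_insert (by simp [hau, hav, hay]), Finset.sum_insert (by simp [huv, huy]),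
      Finset.sum_pair hvy] at e3
    have hn : k a ^ 2 + (k b ^ 2 + (k u ^ 2 + (k v ^ 2 + k y ^ 2))) ≤ 3 := by
      refine le_trans (le_of_eq ?_) (le_trans (Finset.sum_le_sum_of_subset_of_nonneg
        (Finset.subset_univ ({a, b, u, v, y} : Finset α))
        (f := fun t => h t ^ 2) fun t _ _ => sq_nonneg _) hhh)
      rw [Finset.sum_insert (by simp [hab, hau, hav, hay]),
        Finset.sum_insert (by simp [hbu, hbv, hby]), Finset.sum_insert (by simp [huv, huy]),
        Finset.sum_pair hvy]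
      simp only [k, mul_pow, sq (σ _), sq_sign hσ, one_mul]
    rcases small_entry hσ hhh a with f1 | f1 | f1 <;> rcases small_entry hσ hhh y with f5 | f5 | f5 <;>
      first
      | omega
      | (rw [show k b = 1 - 2 * k a by simp only [k]; omega,
            show k u = k a by simp only [k]; omega, show k v = k a by simp only [k]; omega] at hn
         simp only [k, f1, f5] at hn
         norm_num at hn)

end Orth

/-- The point of a vector of squared length at most one. -/
theorem exists_points {T : Finset α} {h : α → ℤ} {g : ℕ} (hg : g ≤ 1)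
    (hT : ∑ t ∈ T, h t ^ 2 = (g : ℤ)) :
    ∃ f : Fin g → α, (∀ i, f i ∈ T ∧ (h (f i) = 1 ∨ h (f i) = -1)) ∧
      ∀ t ∈ T, h t ≠ 0 → ∃ i, f i = t := by
  classical
  have hU : ∑ t ∈ T.filter (fun t => h t ≠ 0), h t ^ 2 = (g : ℤ) := by
    rw [← hT, Finset.sum_filter]
    exact Finset.sum_congr rfl fun t _ => by by_cases e : h t = 0 <;> simp [e]
  obtain ⟨hc, hu⟩ := unit_terms (by omega) (fun t ht => (Finset.mem_filter.1 ht).2) hU
  set e := ((T.filter fun t => h t ≠ 0).equivFinOfCardEq hc).symm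
  exact ⟨fun i => e i, fun i => ⟨(Finset.mem_filter.1 (e i).2).1, hu _ (e i).2⟩, fun t ht hne =>
    ⟨e.symm ⟨t, Finset.mem_filter.2 ⟨ht, hne⟩⟩, by simp⟩⟩

/-- Vectors with the products of the columns follow the model. -/
theorem lattice {M g₁ g₂ : ℕ} (hM : Odd M) (hg₁ : g₁ ≤ 1) (hg₂ : g₂ ≤ 1) {c : Sel M → α → ℤ}
    (hgram : ∀ s t, ∑ x, c s x * c t x = ∑ q : Pos M g₁ g₂, col s q * col t q)
    {δ : α → ℝ} (hδ : ∀ t, δ t ≠ 0) (hperp : ∀ s, ∑ t, (c s t : ℝ) * δ t = 0)
    (hcover : ∀ t, ∃ s, c s t ≠ 0) :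
    ∃ (ρ : Pos M g₁ g₂ ≃ α) (σ : Pos M g₁ g₂ → ℤ), (∀ q, σ q = 1 ∨ σ q = -1) ∧
      (∀ q s, s ≠ Sel.H true → c s (ρ q) = σ q * col s q) ∧
      ((∀ q, c (Sel.H true) (ρ q) = σ q * col (Sel.H true) q) ∨
        ∀ q, c (Sel.H true) (ρ q) = σ q * (col Sel.C q - col (Sel.H true) q)) := by
  classical
  set cV : Fin M → α → ℤ := fun i => c (Sel.V i) with hcV
  set cs : α → ℤ := c Sel.C with hcsd
  have hss : ∑ t, cs t ^ 2 = 4 := by
    simp only [sq]; exact (hgram _ _).trans gram_CC
  have hns : ∀ t, cs t = 0 ∨ cs t = 1 ∨ cs t = -1 := by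
    intro t
    have h1 := Finset.single_le_sum (f := fun t => cs t ^ 2) (fun _ _ => sq_nonneg _)
      (Finset.mem_univ t)
    rw [hss] at h1
    have h2 : |cs t| ≤ 2 := abs_le_of_sq_le_sq (by norm_num; exact h1) (by norm_num)
    rw [abs_le] at h2
    by_contra hcon
    have h3 : cs t ^ 2 = 4 := by
      rcases (show cs t = 2 ∨ cs t = -2 by omega) with e | e <;> simp [e]
    have h4 : ∀ x, x ≠ t → cs x = 0 := fun x hx => by
      have h5 := Finset.sum_le_sum_of_subset_of_nonneg (Finset.subset_univ ({x, t} : Finset α))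
        (f := fun t => cs t ^ 2) fun t _ _ => sq_nonneg _
      rw [Finset.sum_pair hx, hss, h3] at h5
      exact pow_eq_zero_iff two_ne_zero |>.1 (le_antisymm (by linarith) (sq_nonneg _))
    have h6 := hperp Sel.C
    rw [Finset.sum_eq_single t (fun x _ hx => by
      rw [show c Sel.C x = 0 from h4 x hx, Int.cast_zero, zero_mul]) (by simp)] at h6
    rcases mul_eq_zero.1 h6 with e | e
    · have : cs t = 0 := Int.cast_eq_zero.1 e
      omega
    · exact hδ t e
  have hcc : ∀ i j, ∑ t, cV i t * cV j t = 2 + if i = j then 1 else 0 := fun i j =>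
    (hgram _ _).trans (gram_VV i j)
  have hcs : ∀ i, ∑ t, cV i t * cs t = 2 := fun i => (hgram _ _).trans (gram_VC i)
  have hh : ∀ b i, ∑ t, cV i t * c (Sel.H b) t = 1 := fun b i => (hgram _ _).trans (gram_VH i b)
  have hsh : ∀ b, ∑ t, cs t * c (Sel.H b) t = 2 := fun b => (hgram _ _).trans (gram_CH b)
  have hn1 : ∑ t, c (Sel.H false) t ^ 2 = 2 + (g₁ : ℤ) := by
    simp only [sq]; exact (hgram _ _).trans gram_H1
  have hn2 : ∑ t, c (Sel.H true) t ^ 2 = 2 + (g₂ : ℤ) := by
    simp only [sq]; exact (hgram _ _).trans gram_H2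
  obtain ⟨hE, hT⟩ := no_exotic hδ (fun i => hperp (Sel.V i)) (hperp Sel.C)
    (show ∑ t, c (Sel.H false) t ^ 2 ≤ 3 by rw [hn1]; omega) (hh false) (hsh false)
  obtain ⟨F⟩ := ((trichotomy hM hcc hss hcs hns).resolve_right (not_or.2 ⟨hE, hT⟩))
  have hMpos : 0 < M := by obtain ⟨k, hk⟩ := hM; omega
  obtain ⟨p₁, q₁, H₁⟩ := exists_isH hδ (fun i => hperp (Sel.V i)) (hperp Sel.C) F hMpos hg₁
    (hperp (Sel.H false)) hn1 (hh false) (hsh false)
  -- rename so that the first goes through `a` and `u`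
  obtain ⟨F, H₁⟩ : ∃ F : Frame cV cs, IsH F (c (Sel.H false)) .a .u g₁ := by
    rcases H₁.hp with rfl | rfl <;> rcases H₁.hq with rfl | rfl
    · exact ⟨F, H₁⟩
    · exact ⟨F.swapUV, by simpa using H₁.swapUV⟩
    · exact ⟨F.swapAB, by simpa using H₁.swapAB⟩
    · exact ⟨F.swapAB.swapUV, by simpa using H₁.swapAB.swapUV⟩
  obtain ⟨p₂, q₂, H₂⟩ := exists_isH hδ (fun i => hperp (Sel.V i)) (hperp Sel.C) F hMpos hg₂
    (hperp (Sel.H true)) hn2 (hh true) (hsh true)
  set h₁ := c (Sel.H false) with hh₁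
  have hout12 : ∀ (h₂ : α → ℤ) (p q : Pos M 0 0), IsH F h₂ p q g₂ →
      ∑ t, h₁ t * h₂ t = 1 → ∑ t ∈ F.out, h₁ t * h₂ t =
        1 - (if p = Pos.a then 1 else 0) - (if q = Pos.u then 1 else 0) := by
    intro h₂ p q H e
    rw [F.sum_split] at e
    have e2 : ∑ r, h₁ (F.ρ r) * h₂ (F.ρ r) =
        (if p = Pos.a then 1 else 0) + (if q = Pos.u then 1 else 0) := by
      rw [Finset.sum_congr rfl (g := fun r => (if r = Pos.a ∨ r = Pos.u then (1 : ℤ) else 0) *
        (if r = p ∨ r = q then 1 else 0)) fun r _ => by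
          rw [H₁.apply, H.apply, mul_mul_mul_comm, sq_sign F.unit, one_mul]]
      rcases H.hp with rfl | rfl <;> rcases H.hq with rfl | rfl <;> simp [Pos.sum_eq]
    omega
  have h12 : ∑ t, h₁ t * c (Sel.H true) t = 1 := (hgram _ _).trans gram_H12
  have hd1 : ∀ {h : α → ℤ} {p q : Pos M 0 0} {g : ℕ}, IsH F h p q g →
      ∑ t, (h t : ℝ) * δ t = (F.σ (F.ρ p) : ℝ) * δ (F.ρ p) + (F.σ (F.ρ q) : ℝ) * δ (F.ρ q) +
        ∑ t ∈ F.out, (h t : ℝ) * δ t := by
    intro h p q g H
    rw [F.sum_split]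
    congr 1
    simp only [H.apply]
    rcases H.hp with rfl | rfl <;> rcases H.hq with rfl | rfl <;>
      simp [Pos.sum_eq]
  -- a common outer point is impossible
  have hsame : ∀ {p q : Pos M 0 0}, IsH F (c (Sel.H true)) p q g₂ →
      (p = .a ∧ q = .u ∨ p = .b ∧ q = .v) → False := by
    intro p q H hpq
    have e := hout12 _ p q H h12
    obtain ⟨f₁, hf₁, hf₁'⟩ := exists_points hg₁ H₁.out
    obtain ⟨f₂, hf₂, hf₂'⟩ := exists_points hg₂ H.out
    have hne : ∑ t ∈ F.out, h₁ t * c (Sel.H true) t ≠ 0 := by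
      rw [e]; rcases hpq with ⟨rfl, rfl⟩ | ⟨rfl, rfl⟩ <;> simp
    obtain ⟨y, hy, hy'⟩ := Finset.exists_ne_zero_of_sum_ne_zero hne
    obtain ⟨i, hi⟩ := hf₁' y hy (left_ne_zero_of_mul hy')
    obtain ⟨j, hj⟩ := hf₂' y hy (right_ne_zero_of_mul hy')
    have honly₁ : ∀ t ∈ F.out, t ≠ y → h₁ t = 0 := fun t ht hty => by
      by_contra h0
      obtain ⟨i', hi'⟩ := hf₁' t ht h0
      have : Subsingleton (Fin g₁) := Fin.subsingleton_iff_le_one.2 hg₁
      exact hty (by rw [← hi', Subsingleton.elim i' i, hi])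
    have honly₂ : ∀ t ∈ F.out, t ≠ y → c (Sel.H true) t = 0 := fun t ht hty => by
      by_contra h0
      obtain ⟨i', hi'⟩ := hf₂' t ht h0
      have : Subsingleton (Fin g₂) := Fin.subsingleton_iff_le_one.2 hg₂
      exact hty (by rw [← hi', Subsingleton.elim i' j, hj])
    rw [Finset.sum_eq_single_of_mem y hy fun t ht hty => by rw [honly₁ t ht hty, zero_mul]] at e
    have d1 : ∑ t, (h₁ t : ℝ) * δ t = 0 := hperp (Sel.H false)
    have d2 := hperp (Sel.H true)
    rw [hd1 H₁, Finset.sum_eq_single_of_mem y hy fun t ht hty => by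
      rw [honly₁ t ht hty, Int.cast_zero, zero_mul]] at d1
    rw [hd1 H, Finset.sum_eq_single_of_mem y hy fun t ht hty => by
      rw [honly₂ t ht hty, Int.cast_zero, zero_mul]] at d2
    have dC : (F.σ (F.ρ .a) : ℝ) * δ (F.ρ .a) + (F.σ (F.ρ .b) : ℝ) * δ (F.ρ .b) +
        (F.σ (F.ρ .u) : ℝ) * δ (F.ρ .u) + (F.σ (F.ρ .v) : ℝ) * δ (F.ρ .v) = 0 := by
      have e' := hperp Sel.C
      rw [F.sum_split, Finset.sum_eq_zero (s := F.out) fun t ht => by
        rw [show c Sel.C t = 0 from F.cs_out ht, Int.cast_zero, zero_mul], add_zero] at e'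
      simpa [Pos.sum_eq, col, show ∀ r, c Sel.C (F.ρ r) = _ from F.cs_apply] using e'
    have u1 := (hf₁ i).2
    have u2 := (hf₂ j).2
    rw [hi] at u1
    rw [hj] at u2
    refine hδ y ?_
    rcases hpq with ⟨rfl, rfl⟩ | ⟨rfl, rfl⟩ <;> simp at e <;>
      rcases u1 with v1 | v1 <;> rcases u2 with v2 | v2 <;> rw [v1, v2] at e <;>
      first
        | (norm_num at e; done)
        | (rw [v1] at d1; rw [v2] at d2; push_cast at d1 d2; linarith)
  -- the second vector, possibly reflected in `C`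
  obtain ⟨h₂, hor, H₂', h12'⟩ : ∃ h₂ : α → ℤ,
      (c (Sel.H true) = h₂ ∨ c (Sel.H true) = fun t => cs t - h₂ t) ∧
      IsH F h₂ .b .u g₂ ∧ ∑ t, h₁ t * h₂ t = 1 := by
    rcases H₂.hp with rfl | rfl <;> rcases H₂.hq with rfl | rfl
    · exact (hsame H₂ (Or.inl ⟨rfl, rfl⟩)).elim
    · refine ⟨fun t => cs t - c (Sel.H true) t, Or.inr (funext fun t => by ring),
        ⟨Or.inr rfl, Or.inl rfl, fun r => ?_, ?_⟩, ?_⟩
      · rw [mul_sub, H₂.val, F.cs_apply, ← mul_assoc, sq_sign F.unit, one_mul]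
        rcases r with _ | _ | _ | _ | i | i | i <;> simp [col]
      · rw [← H₂.out]
        exact Finset.sum_congr rfl fun t ht => by rw [F.cs_out ht]; ring
      · simp only [mul_sub, Finset.sum_sub_distrib, h12]
        rw [show ∑ t, h₁ t * cs t = 2 from (hgram _ _).trans (by
          rw [← gram_CH (g₁ := g₁) (g₂ := g₂) (M := M) false]
          exact Finset.sum_congr rfl fun _ _ => mul_comm _ _)]
        norm_num
    · exact ⟨_, Or.inl rfl, H₂, h12⟩
    · exact (hsame H₂ (Or.inr ⟨rfl, rfl⟩)).elim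
  have h0out : ∑ t ∈ F.out, h₁ t * h₂ t = 0 := by
    rw [hout12 h₂ _ _ H₂' h12']; simp
  obtain ⟨f₁, hf₁, hf₁'⟩ := exists_points hg₁ H₁.out
  obtain ⟨f₂, hf₂, hf₂'⟩ := exists_points hg₂ H₂'.out
  haveI : Subsingleton (Fin g₁) := Fin.subsingleton_iff_le_one.2 hg₁
  haveI : Subsingleton (Fin g₂) := Fin.subsingleton_iff_le_one.2 hg₂
  have hdisj : ∀ i j, f₁ i ≠ f₂ j := by
    intro i j e
    rw [Finset.sum_eq_single_of_mem (f₁ i) (hf₁ i).1 fun t ht hne => by
      by_contra h0
      obtain ⟨i', hi'⟩ := hf₁' t ht (left_ne_zero_of_mul h0)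
      exact hne (by rw [← hi', Subsingleton.elim i' i])] at h0out
    rcases (hf₁ i).2 with a1 | a1 <;> rcases (hf₂ j).2 with a2 | a2 <;>
      rw [← e] at a2 <;> rw [a1, a2] at h0out <;> norm_num at h0out
  set ρ : Pos M g₁ g₂ → α := fun r => match r with
    | .a => F.ρ .a
    | .b => F.ρ .b
    | .u => F.ρ .u
    | .v => F.ρ .v
    | .x i => F.ρ (.x i)
    | .g i => f₁ i
    | .k i => f₂ i with hρ
  have hbij : Function.Bijective ρ := by
    refine ⟨?_, fun t => ?_⟩
    · have ne1 : ∀ i r, f₁ i ≠ F.ρ r := fun i r => F.ne_out (hf₁ i).1 r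
      have ne2 : ∀ i r, f₂ i ≠ F.ρ r := fun i r => F.ne_out (hf₂ i).1 r
      rintro (_ | _ | _ | _ | i | i | i) (_ | _ | _ | _ | j | j | j) e <;>
        simp only [hρ] at e <;>
        first
          | rfl
          | exact absurd e (ne1 _ _)
          | exact absurd e.symm (ne1 _ _)
          | exact absurd e (ne2 _ _)
          | exact absurd e.symm (ne2 _ _)
          | exact absurd e (hdisj _ _)
          | exact absurd e.symm (hdisj _ _)
          | exact congrArg Pos.g (Subsingleton.elim _ _)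
          | exact congrArg Pos.k (Subsingleton.elim _ _)
          | exact congrArg Pos.x (Pos.x.inj (F.inj e))
          | exact absurd (F.inj e) (by simp)
    · by_cases ht : t ∈ F.out
      · obtain ⟨s, hs⟩ := hcover t
        rcases s with i | _ | (_ | _)
        · exact absurd (F.c_out ht) hs
        · exact absurd (F.cs_out ht) hs
        · obtain ⟨i, hi⟩ := hf₁' t ht hs
          exact ⟨.g i, hi⟩
        · have : h₂ t ≠ 0 := by
            rcases hor with e | e
            · exact fun h0 => hs ((congrFun e t).trans h0)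
            · refine fun h0 => hs ((congrFun e t).trans ?_)
              simp [F.cs_out ht, h0]
          obtain ⟨i, hi⟩ := hf₂' t ht this
          exact ⟨.k i, hi⟩
      · rw [F.mem_out] at ht
        push Not at ht
        obtain ⟨r, rfl⟩ := ht
        rcases r with _ | _ | _ | _ | i | i | i
        exacts [⟨.a, rfl⟩, ⟨.b, rfl⟩, ⟨.u, rfl⟩, ⟨.v, rfl⟩, ⟨.x i, rfl⟩, i.elim0, i.elim0]
  set σ : Pos M g₁ g₂ → ℤ := fun r => match r with
    | .g i => h₁ (f₁ i)
    | .k i => h₂ (f₂ i)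
    | r => F.σ (ρ r) with hσ
  have hV : ∀ i r, c (Sel.V i) (ρ r) = σ r * col (Sel.V i) r := by
    intro i r
    rcases r with _ | _ | _ | _ | j | j | j <;> simp only [hρ, hσ]
    case g => rw [show c (Sel.V i) (f₁ j) = 0 from F.c_out (hf₁ j).1]; simp [col]
    case k => rw [show c (Sel.V i) (f₂ j) = 0 from F.c_out (hf₂ j).1]; simp [col]
    all_goals
      rw [show c (Sel.V i) = cV i from rfl, F.c_apply]
      simp [col]
  have hC : ∀ r, c Sel.C (ρ r) = σ r * col Sel.C r := by
    intro r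
    rcases r with _ | _ | _ | _ | j | j | j <;> simp only [hρ, hσ]
    case g => rw [show c Sel.C (f₁ j) = 0 from F.cs_out (hf₁ j).1]; simp [col]
    case k => rw [show c Sel.C (f₂ j) = 0 from F.cs_out (hf₂ j).1]; simp [col]
    all_goals
      rw [show c Sel.C = cs from rfl, F.cs_apply]
      simp [col]
  have hH1 : ∀ r, h₁ (ρ r) = σ r * col (Sel.H false) r := by
    intro r
    rcases r with _ | _ | _ | _ | j | j | j <;> simp only [hρ, hσ]
    case g => simp [col]
    case k =>
      have : h₁ (f₂ j) = 0 := by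
        by_contra h0
        obtain ⟨i, hi⟩ := hf₁' _ (hf₂ j).1 h0
        exact hdisj i j hi
      simp [col, this]
    all_goals
      rw [H₁.apply]
      simp [col]
  have hH2 : ∀ r, h₂ (ρ r) = σ r * col (Sel.H true) r := by
    intro r
    rcases r with _ | _ | _ | _ | j | j | j <;> simp only [hρ, hσ]
    case g =>
      have : h₂ (f₁ j) = 0 := by
        by_contra h0
        obtain ⟨i, hi⟩ := hf₂' _ (hf₁ j).1 h0
        exact hdisj j i hi.symm
      simp [col, this]
    case k => simp [col]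
    all_goals
      rw [H₂'.apply]
      simp [col]
  refine ⟨Equiv.ofBijective ρ hbij, σ, fun r => ?_, fun r s hs => ?_, ?_⟩
  · rcases r with _ | _ | _ | _ | j | j | j <;> simp only [hσ]
    case g => exact (hf₁ j).2
    case k => exact (hf₂ j).2
    all_goals exact F.unit _
  · rcases s with i | ⟨⟩ | (_ | _)
    exacts [hV i r, hC r, hH1 r, absurd rfl hs]
  · rcases hor with e | e
    · exact Or.inl fun r => by rw [e]; exact hH2 r
    · refine Or.inr fun r => ?_
      rw [e, Equiv.ofBijective_apply]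
      show c Sel.C (ρ r) - h₂ (ρ r) = _
      rw [hC, hH2, mul_sub]

end Cfsg.Agent.Blocks.Quaternion
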