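import Mathlib
import Cfsg.Agent.BlockCharsA.Contrib
import Cfsg.Agent.Lib.Blocks.Quaternion.Model

/-!
# Rows of a block over class functions on the regular elements

When the members of a block are combinations, on the regular elements, of independent class
functions with integral rows, the contributions of the regular elements are read off the rows.
-/

set_option linter.style.haveILetI false
set_option linter.unusedSectionVars false

namespace Cfsg.Agent.Blocks.Quaternion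

open Cfsg.Agent.Blocks Cfsg.Agent.Characters Cfsg.Agent.BlockCharsA
open Cfsg.Agent.BlockCharsA.RegularPart Cfsg.Agent.BlockCharsA.Contrib
open scoped ComplexConjugate

universe u

variable {G : Type u} [Group G] [Finite G] {p : ℕ} {M : Ideal Cfsg.AlgInt}
  {B : Set (Cfsg.IrrCharacter G)}

/-- The contributions expand the members of the block on the regular elements. -/
theorem sum_contrib_mul (hM : Cfsg.IsPModular p M) (hB : Cfsg.IsPBlock M B) [Fintype B]
    {χ : Cfsg.IrrCharacter G} (hχ : χ ∈ B) {s : G} (hs : ¬ p ∣ orderOf s) :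
    ∑ θ : B, contrib p B χ θ * ((θ : Cfsg.IrrCharacter G) : G → ℂ) s =
      ((p ^ Cfsg.blockDefect p B : ℕ) : ℂ) * (χ : G → ℂ) s := by
  classical
  haveI := Fintype.ofFinite G
  haveI := Fintype.ofFinite (Cfsg.IrrCharacter G)
  set D : ℂ := ((p ^ Cfsg.blockDefect p B : ℕ) : ℂ) with hD
  have e := congrFun (classFun_eq_sum
    (f := hat p D (χ : G → ℂ)) (hat_isClassFunction (irr_isClassFunction χ))) s
  rw [show hat p D (χ : G → ℂ) s = D * (χ : G → ℂ) s by simp [hat, hs], Finset.sum_apply] at e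
  rw [e, ← Finset.sum_subtype (Finset.univ.filter fun θ => θ ∈ B) (fun θ => by simp)
    (fun θ : Cfsg.IrrCharacter G => contrib p B χ θ * (θ : G → ℂ) s)]
  refine (Finset.sum_congr rfl fun θ _ => ?_).trans
    (Finset.sum_subset (Finset.subset_univ _) fun θ _ hθ => ?_)
  · rw [Pi.smul_apply, smul_eq_mul, classInner_hat_regSum, contrib]
  · rw [Pi.smul_apply, classInner_hat_regSum,
      regSum_eq_zero_of_not_sameBlock hM fun h => hθ (Finset.mem_filter.2
        ⟨Finset.mem_univ _, mem_of_sameBlock hM hB hχ h⟩), mul_zero, zero_smul]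

/-- The contributions with a character of height zero have the valuation of the height. -/
theorem padicValInt_contrib (hM : Cfsg.IsPModular p M) (hB : Cfsg.IsPBlock M B)
    {χ ψ : Cfsg.IrrCharacter G} (hχ : χ ∈ B) (hψ : ψ ∈ B)
    (h0 : Cfsg.blockHeight p B (χ : G → ℂ) = 0) {z : ℤ} (hz : contrib p B χ ψ = (z : ℂ)) :
    z ≠ 0 ∧ padicValInt p z = Cfsg.blockHeight p B (ψ : G → ℂ) := by
  haveI := fact_prime_of_pm hM
  haveI := Fintype.ofFinite G
  obtain ⟨x, hx, hx', -⟩ := exists_coeff hM χ ψ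
  have hdeg := degree_factorization_eq hM hB hψ
  have hle := blockDefect_le p B
  have hm0 := (charDegree_pos ψ).ne'
  have hx2 : (x : ℂ) / (Cfsg.charDegree (ψ : G → ℂ) : ℂ) =
      ratio p (χ : G → ℂ) (ψ : G → ℂ) := by
    rw [hx', mul_div_cancel_left₀ _ (Nat.cast_ne_zero.2 hm0)]
  obtain ⟨hxne, hxv⟩ := (unit_div_iff hM x hm0 (hx2 ▸ ratio_ring hM χ ψ)).1
    (hx2 ▸ (ratio_unit_iff hM hB hχ hψ).2 h0)
  set a := (Nat.card G).factorization p
  set d := Cfsg.blockDefect p B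
  have hxz : x = (p : ℤ) ^ (a - d) * z := by
    refine Int.cast_injective (α := ℂ) ?_
    rw [Int.cast_mul, Int.cast_pow, Int.cast_natCast, ← hz, ← hx, classInner_hat_regSum, contrib,
      ← mul_assoc, mul_div, Nat.cast_pow, Nat.cast_pow, ← pow_add, Nat.sub_add_cancel hle]
  have hz0 : z ≠ 0 := fun e => hxne (by rw [hxz, e, mul_zero])
  refine ⟨hz0, ?_⟩
  rw [hxz, padicValInt.mul (pow_ne_zero _ (Int.natCast_ne_zero.2 hM.1.ne_zero)) hz0] at hxv
  rw [show padicValInt p ((p : ℤ) ^ (a - d)) = a - d by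
    rw [← Nat.cast_pow, padicValInt.of_nat, padicValNat.prime_pow]] at hxv
  omega

/-- The height is zero exactly when the diagonal contribution is prime to `p`. -/
theorem height_zero_iff (hM : Cfsg.IsPModular p M) (hB : Cfsg.IsPBlock M B)
    {χ : Cfsg.IrrCharacter G} (hχ : χ ∈ B) {z : ℤ} (hz : contrib p B χ χ = (z : ℂ)) :
    Cfsg.blockHeight p B (χ : G → ℂ) = 0 ↔ ¬ (p : ℤ) ∣ z := by
  haveI := fact_prime_of_pm hM
  constructor
  · intro h0 hd
    obtain ⟨hne, hv⟩ := padicValInt_contrib hM hB hχ hχ h0 hz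
    rw [h0] at hv
    have h1 := (padicValInt_dvd_iff (p := p) 1 z).1 (by simpa using hd)
    rcases h1 with h1 | h1 <;> omega
  · intro hd
    by_contra h0
    obtain ⟨w, hw, -, -, h3⟩ := exists_int hM hB hχ hχ
    rw [hz, Int.cast_inj] at hw
    exact hd (hw ▸ (dvd_pow_self _ (Nat.succ_ne_zero _)).trans (h3 h0))

/-- The contributions of a block with known rows. -/
theorem contrib_eq_form (hM : Cfsg.IsPModular p M) (hB : Cfsg.IsPBlock M B) [Fintype B]
    {ι : Type*} [Fintype ι] [DecidableEq ι] (w : B → ι → ℤ) (Φ : ι → G → ℂ)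
    (hrow : ∀ χ : B, ∀ s : G, ¬ p ∣ orderOf s →
      ((χ : Cfsg.IrrCharacter G) : G → ℂ) s = ∑ i, (w χ i : ℂ) * Φ i s)
    (hind : ∀ t : ι → ℂ, (∀ s : G, ¬ p ∣ orderOf s → ∑ i, t i * Φ i s = 0) → t = 0)
    (S : ι → ι → ℤ)
    (hS : ∀ a j, ∑ i, (∑ χ : B, w χ a * w χ i) * S i j =
      if a = j then ((p ^ Cfsg.blockDefect p B : ℕ) : ℤ) else 0)
    (χ θ : B) : contrib p B χ θ = ((∑ i, ∑ j, w χ i * S i j * w θ j : ℤ) : ℂ) := by
  classical
  haveI := Fintype.ofFinite G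
  set D : ℂ := ((p ^ Cfsg.blockDefect p B : ℕ) : ℂ) with hD
  have hD0 : D ≠ 0 := Nat.cast_ne_zero.2 (pow_ne_zero _ hM.1.ne_zero)
  set X : B → B → ℂ := fun χ θ => contrib p B χ θ with hX
  set T : ι → B → ℂ := fun i θ =>
    D / (Nat.card G : ℂ) * regSum p (Φ i) ((θ : Cfsg.IrrCharacter G) : G → ℂ)
  have hXT : ∀ χ θ, X χ θ = ∑ i, (w χ i : ℂ) * T i θ := by
    intro χ θ
    simp only [X, T, contrib, regSum_eq_sum]
    simp only [Finset.mul_sum]
    rw [Finset.sum_comm]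
    refine Finset.sum_congr rfl fun x _ => ?_
    by_cases hx : p ∣ orderOf x
    · simp [hx]
    · simp only [hx, not_false_eq_true, if_true]
      rw [hrow χ x hx, Finset.sum_mul, Finset.mul_sum]
      exact Finset.sum_congr rfl fun i _ => by rw [hD]; ring
  have hsymm : ∀ χ θ, X χ θ = X θ χ := by
    intro χ θ
    obtain ⟨z, hz, -⟩ := exists_int hM hB χ.2 θ.2
    simp only [X]
    rw [contrib_comm (p := p) B (χ : Cfsg.IrrCharacter G) θ, hz, map_intCast]
  have hXW : ∀ χ i, ∑ η, X χ η * (w η i : ℂ) = D * (w χ i : ℂ) := by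
    intro χ i
    have h0 := hind (fun i => ∑ η, X χ η * (w η i : ℂ) - D * (w χ i : ℂ)) fun s hs => by
      simp only [sub_mul, Finset.sum_sub_distrib, Finset.sum_mul, mul_assoc, ← Finset.mul_sum]
      rw [Finset.sum_comm]
      simp only [← Finset.mul_sum, ← hrow _ s hs]
      rw [sub_eq_zero]
      exact sum_contrib_mul hM hB χ.2 hs
    exact sub_eq_zero.1 (congrFun h0 i)
  have hS' : ∀ a j, ∑ i, (∑ η : B, (w η a : ℂ) * (w η i : ℂ)) * (S i j : ℂ) =
      if a = j then D else 0 := fun a j => by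
    have := congrArg (fun x : ℤ => (x : ℂ)) (hS a j)
    simp only [Int.cast_sum, Int.cast_mul, Int.cast_ite, Int.cast_zero, Int.cast_natCast] at this
    exact this
  push_cast
  refine mul_left_cancel₀ hD0 ?_
  calc D * X χ θ = D * X θ χ := by rw [hsymm]
    _ = ∑ a, T a χ * (D * (w θ a : ℂ)) := by
      rw [hXT, Finset.mul_sum]
      exact Finset.sum_congr rfl fun a _ => by ring
    _ = ∑ a, T a χ * ∑ j, (∑ i, (∑ η, (w η a : ℂ) * (w η i : ℂ)) * (S i j : ℂ)) * (w θ j : ℂ) := by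
      simp only [hS', ite_mul, zero_mul, Finset.sum_ite_eq, Finset.mem_univ, if_true]
    _ = ∑ i, ∑ j, (∑ η, (∑ a, (w η a : ℂ) * T a χ) * (w η i : ℂ)) * ((S i j : ℂ) * (w θ j : ℂ)) := by
      simp only [Finset.mul_sum, Finset.sum_mul]
      rw [Finset.sum_comm, Finset.sum_congr rfl fun j _ => Finset.sum_comm, Finset.sum_comm]
      refine Finset.sum_congr rfl fun i _ => Finset.sum_congr rfl fun j _ => ?_
      rw [Finset.sum_comm]
      exact Finset.sum_congr rfl fun η _ => Finset.sum_congr rfl fun a _ => by ring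
    _ = ∑ i, ∑ j, D * ((w χ i : ℂ) * (S i j : ℂ) * (w θ j : ℂ)) := by
      refine Finset.sum_congr rfl fun i _ => Finset.sum_congr rfl fun j _ => ?_
      rw [Finset.sum_congr rfl fun η _ => by rw [← hXT η χ, hsymm η χ], hXW χ i]
      ring
    _ = D * ∑ i, ∑ j, (w χ i : ℂ) * (S i j : ℂ) * (w θ j : ℂ) := by
      simp only [Finset.mul_sum]

/-- The functions spanning the regular parts of a block are at least as many as its rank, and
independent when equally many. -/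
theorem indep_of_rank {ι : Type*} [Fintype ι] (Φ : ι → G → ℂ)
    (hrow : ∀ χ ∈ B, ∃ a : ι → ℂ, ∀ s : G, ¬ p ∣ orderOf s → (χ : G → ℂ) s = ∑ i, a i * Φ i s) :
    Cfsg.blockRank p B ≤ Fintype.card ι ∧ (Fintype.card ι = Cfsg.blockRank p B →
      ∀ t : ι → ℂ, (∀ s : G, ¬ p ∣ orderOf s → ∑ i, t i * Φ i s = 0) → t = 0) := by
  classical
  set Ψ : ι → G → ℂ := fun i => Cfsg.pRegularPart p (Φ i) with hΨ
  have hle : Cfsg.blockRank p B ≤ Module.finrank ℂ (Submodule.span ℂ (Set.range Ψ)) := by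
    refine Submodule.finrank_mono (Submodule.span_le.2 ?_)
    rintro _ ⟨χ, hχ, rfl⟩
    obtain ⟨a, ha⟩ := hrow χ hχ
    refine (Submodule.mem_span_range_iff_exists_fun ℂ).2 ⟨a, funext fun s => ?_⟩
    simp only [Finset.sum_apply, Pi.smul_apply, smul_eq_mul, hΨ, pRegularPart_eq, hat, one_mul]
    by_cases hs : p ∣ orderOf s
    · simp [hs]
    · simp only [hs, if_false]
      exact (ha s hs).symm
  refine ⟨hle.trans (finrank_range_le_card Ψ), fun hc t ht => ?_⟩
  have hli : LinearIndependent ℂ Ψ :=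
    linearIndependent_iff_card_le_finrank_span.2 (by rw [hc]; exact hle)
  refine funext fun i => Fintype.linearIndependent_iff.1 hli t (funext fun s => ?_) i
  simp only [Finset.sum_apply, Pi.smul_apply, smul_eq_mul, hΨ, pRegularPart_eq, hat, one_mul,
    Pi.zero_apply]
  by_cases hs : p ∣ orderOf s
  · simp [hs]
  · simp only [hs, if_false]
    exact ht s hs

variable (p) in
/-- The rows of a block on the regular elements follow the model. -/
structure RowModel (B : Set (Cfsg.IrrCharacter G)) (M g₁ g₂ l : ℕ) where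
  ρ : Pos M g₁ g₂ ≃ B
  σ : Pos M g₁ g₂ → ℤ
  unit : ∀ q, σ q = 1 ∨ σ q = -1
  Φ : Fin l → G → ℂ
  hrow : ∀ q, ∀ s : G, ¬ p ∣ orderOf s →
    (σ q : ℂ) * ((ρ q : Cfsg.IrrCharacter G) : G → ℂ) s = ∑ i, (row l q i : ℂ) * Φ i s
  indep : ∀ t : Fin l → ℂ, (∀ s : G, ¬ p ∣ orderOf s → ∑ i, t i * Φ i s = 0) → t = 0

namespace RowModel

variable {g₁ g₂ l m : ℕ}

theorem value {N : ℕ} (R : RowModel p B N g₁ g₂ l) (q : Pos N g₁ g₂) {s : G}
    (hs : ¬ p ∣ orderOf s) :
    ((R.ρ q : Cfsg.IrrCharacter G) : G → ℂ) s =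
      ∑ i, ((R.σ q * row l q i : ℤ) : ℂ) * R.Φ i s := by
  have h := R.hrow q s hs
  rcases R.unit q with e | e
  · simpa [e] using h
  · rw [e] at h ⊢
    push_cast at h ⊢
    simp only [neg_mul, one_mul, Finset.sum_neg_distrib] at h ⊢
    linear_combination -h

theorem blockRank_eq {N : ℕ} (R : RowModel p B N g₁ g₂ l) (hl : l = 1 ∨ l = 2 ∨ l = 3) :
    Cfsg.blockRank p B = l := by
  classical
  set Ψ : Fin l → G → ℂ := fun i => Cfsg.pRegularPart p (R.Φ i) with hΨ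
  have hli : LinearIndependent ℂ Ψ := Fintype.linearIndependent_iff.2 fun t ht i =>
    congrFun (R.indep t fun s hs => by
      have := congrFun ht s
      simpa [Finset.sum_apply, hΨ, pRegularPart_eq, hat, hs] using this) i
  have hspan : Submodule.span ℂ ((fun χ : Cfsg.IrrCharacter G =>
      Cfsg.pRegularPart p (χ : G → ℂ)) '' B) = Submodule.span ℂ (Set.range Ψ) := by
    refine le_antisymm (Submodule.span_le.2 ?_) (Submodule.span_le.2 ?_)
    · rintro _ ⟨χ, hχ, rfl⟩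
      obtain ⟨q, hq⟩ := R.ρ.surjective ⟨χ, hχ⟩
      refine (Submodule.mem_span_range_iff_exists_fun ℂ).2
        ⟨fun i => ((R.σ q * row l q i : ℤ) : ℂ), funext fun s => ?_⟩
      simp only [Finset.sum_apply, Pi.smul_apply, smul_eq_mul, hΨ, pRegularPart_eq, hat, one_mul]
      by_cases hs : p ∣ orderOf s
      · simp [hs]
      · simp only [hs, if_false]
        rw [← R.value q hs, hq]
    · rintro _ ⟨j, rfl⟩
      set q : Pos N g₁ g₂ := piv l j
      have hval : ((R.σ q : ℂ)) • Cfsg.pRegularPart p ((R.ρ q : Cfsg.IrrCharacter G) : G → ℂ) =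
          Ψ j := funext fun s => by
        simp only [Pi.smul_apply, smul_eq_mul, hΨ, pRegularPart_eq, hat, one_mul]
        by_cases hs : p ∣ orderOf s
        · simp [hs]
        · simp only [hs, if_false]
          rw [R.hrow q s hs]
          simp [q, row_piv hl]
      rw [← hval]
      exact Submodule.smul_mem _ _ (Submodule.subset_span ⟨_, (R.ρ q).2, rfl⟩)
  rw [Cfsg.blockRank, hspan, finrank_span_eq_card hli, Fintype.card_fin]

theorem card_eq {N : ℕ} (R : RowModel p B N g₁ g₂ l) : Nat.card B = 4 + N + g₁ + g₂ := by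
  rw [← Nat.card_congr R.ρ, Nat.card_eq_fintype_card, Pos.card_eq]

theorem sign_sq {N : ℕ} (R : RowModel p B N g₁ g₂ l) (q : Pos N g₁ g₂) : R.σ q * R.σ q = 1 := by
  rcases R.unit q with e | e <;> simp [e]

/-- The contributions in a block following the model. -/
theorem contrib_eq (hM : Cfsg.IsPModular p M) (hB : Cfsg.IsPBlock M B)
    (R : RowModel p B (m + (m + 1)) g₁ g₂ l) (hs : Shape l g₁ g₂)
    (hd : p ^ Cfsg.blockDefect p B = 8 * (m + 1)) (q q' : Pos (m + (m + 1)) g₁ g₂) :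
    contrib p B (R.ρ q) (R.ρ q') =
      ((R.σ q * R.σ q' * yv (m : ℤ) (row l q) (row l q') : ℤ) : ℂ) := by
  classical
  haveI := Fintype.ofFinite B
  refine (contrib_eq_form hM hB (fun χ i => R.σ (R.ρ.symm χ) * row l (R.ρ.symm χ) i) R.Φ
    (fun χ s hs' => ?_) R.indep (smat l (m : ℤ)) (fun a j => ?_) (R.ρ q) (R.ρ q')).trans ?_
  · have := R.value (R.ρ.symm χ) hs'
    rwa [R.ρ.apply_symm_apply] at this
  · have e : ∀ i, ∑ χ : B, R.σ (R.ρ.symm χ) * row l (R.ρ.symm χ) a *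
        (R.σ (R.ρ.symm χ) * row l (R.ρ.symm χ) i) = 2 * cbar l m a i := fun i => by
      rw [← cart_eq hs a i, ← R.ρ.sum_comp]
      refine Finset.sum_congr rfl fun q _ => ?_
      rw [R.ρ.symm_apply_apply]
      linear_combination (row l q a * row l q i) * R.sign_sq q
    simp only [e]
    simp only [mul_assoc, ← Finset.mul_sum]
    rw [cbar_smat hs.rank, hd]
    split_ifs
    · push_cast; ring
    · rw [mul_zero]
  · simp only [R.ρ.symm_apply_apply, yv, Finset.mul_sum]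
    push_cast
    exact Finset.sum_congr rfl fun i _ => Finset.sum_congr rfl fun j _ => by ring

end RowModel

/-- A block of rank one has rows given by the degrees over their greatest common divisor. -/
theorem exists_rows_rank_one (hM : Cfsg.IsPModular p M) (hB : Cfsg.IsPBlock M B)
    (hl : Cfsg.blockRank p B = 1) :
    ∃ (w : Cfsg.IrrCharacter G → ℤ) (Φ : G → ℂ), Φ 1 ≠ 0 ∧ (∀ χ ∈ B, 0 < w χ) ∧
      (∀ χ ∈ B, ∀ s : G, ¬ p ∣ orderOf s → (χ : G → ℂ) s = (w χ : ℂ) * Φ s) ∧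
      (∀ [Fintype B], ∑ χ : B, w χ ^ 2 = (p : ℤ) ^ Cfsg.blockDefect p B) ∧
      ∀ χ ∈ B, (Cfsg.blockHeight p B (χ : G → ℂ) = 0 ↔ ¬ (p : ℤ) ∣ w χ) := by
  classical
  haveI := fact_prime_of_pm hM
  haveI := Fintype.ofFinite G
  haveI := Fintype.ofFinite B
  obtain ⟨χ₀, hχ₀, h00⟩ := exists_height_zero hM hB
  set d : B → ℤ := fun χ => (Cfsg.charDegree ((χ : Cfsg.IrrCharacter G) : G → ℂ) : ℤ) with hd
  set g : ℤ := Finset.univ.gcd d with hg
  have hdpos : ∀ χ, 0 < d χ := fun χ => Int.natCast_pos.2 (charDegree_pos _)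
  have hgd : ∀ χ, g ∣ d χ := fun χ => Finset.gcd_dvd (Finset.mem_univ χ)
  have hg0 : g ≠ 0 := fun e => (hdpos ⟨χ₀, hχ₀⟩).ne' (zero_dvd_iff.1 (e ▸ hgd ⟨χ₀, hχ₀⟩))
  have hgpos : 0 < g := by
    have : 0 ≤ g := Int.nonneg_of_normalize_eq_self Finset.normalize_gcd
    omega
  obtain ⟨c, hc⟩ := Finset.gcd_eq_sum_mul Finset.univ d
  set w : Cfsg.IrrCharacter G → ℤ := fun χ => if h : χ ∈ B then d ⟨χ, h⟩ / g else 0 with hw
  have hwd : ∀ χ : B, d χ = g * w χ := fun χ => by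
    simp only [hw, dif_pos χ.2]
    exact (Int.mul_ediv_cancel' (hgd χ)).symm
  have hwpos : ∀ χ ∈ B, 0 < w χ := fun χ hχ => by
    have := hdpos ⟨χ, hχ⟩
    rw [hwd] at this
    exact (mul_pos_iff_of_pos_left hgpos).1 this
  set Φ : G → ℂ := fun s => (g : ℂ) / (χ₀ : G → ℂ) 1 * (χ₀ : G → ℂ) s with hΦdef
  have hΦ1 : Φ 1 ≠ 0 :=
    mul_ne_zero (div_ne_zero (Int.cast_ne_zero.2 hg0) (irr_one_ne_zero χ₀.2))
      (irr_one_ne_zero χ₀.2)
  have hrow : ∀ χ ∈ B, ∀ s : G, ¬ p ∣ orderOf s → (χ : G → ℂ) s = (w χ : ℂ) * Φ s := by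
    intro χ hχ s hs
    have hl' : Module.finrank ℂ ↥(Submodule.span ℂ
      ((fun χ : Cfsg.IrrCharacter G => Cfsg.pRegularPart p (χ : G → ℂ)) '' B)) = 1 := hl
    obtain ⟨⟨v, hvm⟩, hv0, hv⟩ := (finrank_eq_one_iff' (K := ℂ)
      (V := ↥(Submodule.span ℂ
        ((fun χ : Cfsg.IrrCharacter G => Cfsg.pRegularPart p (χ : G → ℂ)) '' B)))).1 hl'
    obtain ⟨a, ha⟩ := hv ⟨_, Submodule.subset_span ⟨χ, hχ, rfl⟩⟩
    obtain ⟨b, hb⟩ := hv ⟨_, Submodule.subset_span ⟨χ₀, hχ₀, rfl⟩⟩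
    have hval : ∀ (θ : Cfsg.IrrCharacter G) (t : ℂ),
        t • v = Cfsg.pRegularPart p (θ : G → ℂ) → ∀ x, ¬ p ∣ orderOf x →
        (θ : G → ℂ) x = t * v x := by
      intro θ t h x hx
      have := congrFun h x
      simp only [Pi.smul_apply, smul_eq_mul, pRegularPart_eq, hat, hx, if_false, one_mul] at this
      exact this.symm
    have ha' := hval χ a (congrArg Subtype.val ha)
    have hb' := hval χ₀ b (congrArg Subtype.val hb)
    have h1 : ¬ p ∣ orderOf (1 : G) := by simp [hM.1.ne_one]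
    have hb0 := hb' 1 h1
    have e : (χ : G → ℂ) 1 = (w χ : ℂ) * (g : ℂ) := by
      rw [← charDegree_cast χ, ← Int.cast_mul, mul_comm, ← hwd ⟨χ, hχ⟩]
      simp [hd]
    rw [ha' 1 h1] at e
    simp only [hΦdef, hb' s hs, ha' s hs, hb0]
    have hbv : b * v 1 ≠ 0 := hb0 ▸ irr_one_ne_zero χ₀.2
    field_simp [left_ne_zero_of_mul hbv, right_ne_zero_of_mul hbv]
    linear_combination (v s) * e
  obtain ⟨z, hz, hsy, -, -, -, hpos, -, -, -⟩ := exists_matrix hM hB
  set R : ℂ := ((p ^ Cfsg.blockDefect p B : ℕ) : ℂ) / (Nat.card G : ℂ) * regSum p Φ Φ with hR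
  have hform : ∀ χ ∈ B, ∀ θ ∈ B, (z χ θ : ℂ) = (w χ : ℂ) * (w θ : ℂ) * R := by
    intro χ hχ θ hθ
    rw [← hz χ hχ θ hθ, hR, contrib, regSum_eq_sum, regSum_eq_sum]
    simp only [Finset.mul_sum]
    refine Finset.sum_congr rfl fun x _ => ?_
    by_cases hx : p ∣ orderOf x
    · simp [hx]
    · simp only [hx, not_false_eq_true, if_true]
      rw [hrow χ hχ x hx, hrow θ hθ x hx, map_mul, map_intCast]
      ring
  have hcw : ∑ χ : B, c χ * w χ = 1 := by
    refine mul_left_cancel₀ hg0 ?_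
    rw [mul_one, Finset.mul_sum]
    conv_rhs => rw [hg, hc]
    exact Finset.sum_congr rfl fun χ _ => by rw [hwd χ]; ring
  obtain ⟨R', hR'⟩ : ∃ R' : ℤ, R = (R' : ℂ) := ⟨∑ χ : B, ∑ θ : B, c χ * c θ * z χ θ, by
    have e : ((∑ χ : B, c χ * w χ : ℤ) : ℂ) * ((∑ θ : B, c θ * w θ : ℤ) : ℂ) * R = R := by
      rw [hcw, Int.cast_one, one_mul, one_mul]
    rw [← e]
    push_cast
    rw [Finset.sum_mul_sum, Finset.sum_mul]
    refine Finset.sum_congr rfl fun χ _ => ?_
    rw [Finset.sum_mul]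
    exact Finset.sum_congr rfl fun θ _ => by rw [hform χ χ.2 θ θ.2]; ring⟩
  have hzw : ∀ χ ∈ B, ∀ θ ∈ B, z χ θ = w χ * w θ * R' := fun χ hχ θ hθ => by
    refine Int.cast_injective (α := ℂ) ?_
    rw [hform χ hχ θ hθ, hR']
    push_cast
    ring
  have h1 : ¬ p ∣ orderOf (1 : G) := by simp [hM.1.ne_one]
  have hsum : R' * ∑ χ : B, w χ ^ 2 = (p : ℤ) ^ Cfsg.blockDefect p B := by
    have e := sum_contrib_mul hM hB hχ₀ h1
    have e' : ((R' * ∑ χ : B, w χ ^ 2 : ℤ) : ℂ) * ((w χ₀ : ℂ) * Φ 1) =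
        ((p ^ Cfsg.blockDefect p B : ℕ) : ℂ) * ((w χ₀ : ℂ) * Φ 1) := by
      rw [← hrow χ₀ hχ₀ 1 h1, ← e]
      push_cast
      rw [Finset.mul_sum, Finset.sum_mul]
      refine Finset.sum_congr rfl fun θ _ => ?_
      rw [hz χ₀ hχ₀ θ θ.2, hzw χ₀ hχ₀ θ θ.2, hrow θ θ.2 1 h1, hrow χ₀ hχ₀ 1 h1]
      push_cast
      ring
    have := mul_right_cancel₀ (mul_ne_zero (Int.cast_ne_zero.2 (hwpos χ₀ hχ₀).ne') hΦ1) e'
    apply Int.cast_injective (α := ℂ)
    rw [this]
    push_cast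
    ring
  have hRpos : 0 < R' := by
    have := hpos χ₀ hχ₀
    rw [hzw χ₀ hχ₀ χ₀ hχ₀] at this
    exact (mul_pos_iff_of_pos_left (mul_pos (hwpos _ hχ₀) (hwpos _ hχ₀))).1 this
  have hR1 : R' = 1 := by
    have hn : ¬ (p : ℤ) ∣ R' := fun h => (height_zero_iff hM hB hχ₀ (hz χ₀ hχ₀ χ₀ hχ₀)).1 h00
      (hzw χ₀ hχ₀ χ₀ hχ₀ ▸ dvd_mul_of_dvd_right h _)
    obtain ⟨r, rfl⟩ := Int.eq_ofNat_of_zero_le hRpos.le
    have hr : r ∣ p ^ Cfsg.blockDefect p B := by
      rw [← Int.natCast_dvd_natCast, Nat.cast_pow]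
      exact ⟨_, hsum.symm⟩
    obtain ⟨i, -, rfl⟩ := (Nat.dvd_prime_pow hM.1).1 hr
    rcases i with _ | i
    · simp
    · exact absurd (Int.natCast_dvd_natCast.2 (dvd_pow_self p i.succ_ne_zero)) hn
  refine ⟨w, Φ, hΦ1, hwpos, hrow, fun {_} => ?_, fun χ hχ => ?_⟩
  · rw [← hsum, hR1, one_mul]
    congr!
  · rw [height_zero_iff hM hB hχ (hz χ hχ χ hχ), hzw χ hχ χ hχ, hR1, mul_one, not_iff_not,
      (Nat.prime_iff_prime_int.1 hM.1).dvd_mul, or_self]

end Cfsg.Agent.Blocks.Quaternion
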