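import Mathlib
import Cfsg.Agent.Lib.Blocks.Quaternion.BarFrame
import Cfsg.Agent.Lib.Blocks.Quaternion.Rows
import Cfsg.Agent.Lib.Blocks.Quaternion.Lattice

/-!
# The values on the regular elements through the frame
-/

set_option linter.style.haveILetI false
set_option linter.unusedSectionVars false

namespace Cfsg.Agent.Blocks.Quaternion

open Cfsg.Agent.Blocks Cfsg.Agent.Characters Cfsg.Agent.Blocks.Star
open Cfsg.Agent.Blocks.CentralStep
open Cfsg.Agent.BlockCharsA.BrauerPairs Cfsg.Agent.BlockCharsA.PairConj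
open Cfsg.Agent.Blocks.Dihedral (IsDih cz coefC colPow coefC_inverse coefC_refl)

universe u

variable {G : Type u} [Group G] [Finite G] [Fintype G] [Fintype (Cfsg.IrrCharacter G)]
  {M : Ideal Cfsg.AlgInt} {B : Set (Cfsg.IrrCharacter G)} [Fintype B] {P : Subgroup G}
  {e : Set (Cfsg.IrrCharacter (Subgroup.centralizer (P : Set G)))} {r : P} {N : ℕ}
  [Fintype (CU ((cz r N : P) : G))] [Fintype (Cfsg.IrrCharacter (top' P ((cz r N : P) : G)))]
  {L : Loc 2 M e (cz r N)} {ω : ℂ} (C : Coords (B := B) L ω)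

/-- The positions as members. -/
noncomputable def Coords.equiv : Pos (N / 2 - 1) 0 0 ≃ B := Equiv.ofBijective C.F.ρ C.bij

/-- The signed value of a position. -/
noncomputable def Coords.val (q : Pos (N / 2 - 1) 0 0) (s : G) : ℂ :=
  (C.F.σ (C.F.ρ q) : ℂ) * ((C.F.ρ q : Cfsg.IrrCharacter G) : G → ℂ) s

variable (hM : Cfsg.IsPModular 2 M) (hmax : Cfsg.IsMaximalBrauerPair 2 M B P e) (h : IsDih P r N)
include hM hmax h

theorem Coords.relV (i : Fin (N / 2 - 1)) {s : G} (hs : ¬ 2 ∣ orderOf s) :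
    C.val .a s + C.val .b s + C.val (.x i) s = 0 := by
  have e := C.ker hM hmax h L ((i : ℕ) + 1) hs
  rw [← C.equiv.sum_comp] at e
  have hc : ∀ q, (C.c (C.F.ρ q) ((i : ℕ) + 1) : ℂ) =
      (C.F.σ (C.F.ρ q) : ℂ) * (col (Sel.V i) q : ℂ) := fun q => by
    rw [← Int.cast_mul, ← C.F.c_apply i q]
  simp only [Coords.equiv, Equiv.ofBijective_apply, hc,
    mul_assoc, mul_left_comm ((C.F.σ _ : ℤ) : ℂ)] at e
  simpa [Pos.sum_eq, col, Finset.sum_ite_eq', Coords.val] using e

theorem Coords.relC {s : G} (hs : ¬ 2 ∣ orderOf s) :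
    C.val .a s + C.val .b s + C.val .u s + C.val .v s = 0 := by
  have e := C.ker hM hmax h L (N / 2) hs
  rw [← C.equiv.sum_comp] at e
  have hc : ∀ q, (C.c (C.F.ρ q) (N / 2) : ℂ) =
      (C.F.σ (C.F.ρ q) : ℂ) * (col (Sel.C (M := N / 2 - 1)) q : ℂ) := fun q => by
    rw [← Int.cast_mul, ← C.F.cs_apply q]
  simp only [Coords.equiv, Equiv.ofBijective_apply, hc,
    mul_assoc, mul_left_comm ((C.F.σ _ : ℤ) : ℂ)] at e
  simpa [Pos.sum_eq, col, Coords.val] using e

/-- The rows of rank three. -/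
theorem Coords.row_three (q : Pos (N / 2 - 1) 0 0) {s : G} (hs : ¬ 2 ∣ orderOf s) :
    C.val q s = ∑ i, (row 3 q i : ℂ) * C.val (piv 3 i) s := by
  rcases q with _ | _ | _ | _ | i | i | i
  · simp [row, red, piv, Fin.sum_univ_three]
  · simp [row, red, piv, Fin.sum_univ_three]
  · simp [row, red, piv, Fin.sum_univ_three]
  · simp [row, red, piv, Fin.sum_univ_three]
    linear_combination C.relC hM hmax h hs
  · simp [row, red, piv, Fin.sum_univ_three]
    linear_combination C.relV hM hmax h i hs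
  all_goals exact i.elim0

/-- Independent values give the model of rank three. -/
theorem Coords.rowModel_three
    (hind : ∀ t : Fin 3 → ℂ, (∀ s : G, ¬ 2 ∣ orderOf s → ∑ i, t i * C.val (piv 3 i) s = 0) → t = 0) :
    Nonempty (RowModel 2 B (N / 2 - 1) 0 0 3) :=
  ⟨⟨C.equiv, fun q => C.F.σ (C.F.ρ q), fun q => C.F.unit _, fun i s => C.val (piv 3 i) s,
    fun q s hs => C.row_three hM hmax h q hs, hind⟩⟩

/-- The model of rank two, from one more relation. -/
theorem Coords.rowModel_two (hl : Cfsg.blockRank 2 B = 2) (ρ' : Pos (N / 2 - 1) 0 0 ≃ Pos (N / 2 - 1) 0 0)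
    (hV : ∀ i, ∀ s : G, ¬ 2 ∣ orderOf s →
      C.val (ρ' .a) s + C.val (ρ' .b) s + C.val (ρ' (.x i)) s = 0)
    (hC : ∀ s : G, ¬ 2 ∣ orderOf s →
      C.val (ρ' .a) s + C.val (ρ' .b) s + C.val (ρ' .u) s + C.val (ρ' .v) s = 0)
    (hA : ∀ s : G, ¬ 2 ∣ orderOf s → C.val (ρ' .a) s + C.val (ρ' .u) s = 0) :
    Nonempty (RowModel 2 B (N / 2 - 1) 0 0 2) := by
  classical
  have hrow : ∀ q, ∀ s : G, ¬ 2 ∣ orderOf s →
      C.val (ρ' q) s = ∑ i, (row 2 q i : ℂ) * C.val (ρ' (piv 2 i)) s := by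
    intro q s hs
    rcases q with _ | _ | _ | _ | i | i | i
    · simp [row, red, piv, Fin.sum_univ_two]
    · simp [row, red, piv, Fin.sum_univ_two]
    · simp [row, red, piv, Fin.sum_univ_two]
      linear_combination hA s hs
    · simp [row, red, piv, Fin.sum_univ_two]
      linear_combination hC s hs - hA s hs
    · simp [row, red, piv, Fin.sum_univ_two]
      linear_combination hV i s hs
    all_goals exact i.elim0
  refine ⟨⟨ρ'.trans C.equiv, fun q => C.F.σ (C.F.ρ (ρ' q)), fun q => C.F.unit _,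
    fun i s => C.val (ρ' (piv 2 i)) s, fun q s hs => hrow q s hs, ?_⟩⟩
  refine (indep_of_rank (p := 2) (B := B) _ fun χ hχ => ?_).2 (by rw [Fintype.card_fin, hl])
  obtain ⟨q, hq⟩ := (ρ'.trans C.equiv).surjective ⟨χ, hχ⟩
  have hq' : C.F.ρ (ρ' q) = ⟨χ, hχ⟩ := hq
  refine ⟨fun i => (C.F.σ (C.F.ρ (ρ' q)) : ℂ) * (row 2 q i : ℂ), fun s hs => ?_⟩
  simp only [mul_assoc]
  rw [← Finset.mul_sum, ← hrow q s hs, Coords.val, hq']
  rcases C.F.unit (⟨χ, hχ⟩ : B) with e' | e' <;> simp [e']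

omit hmax h in
/-- A value of a position at one is not zero. -/
theorem Coords.val_one_ne_zero (q : Pos (N / 2 - 1) 0 0) : C.val q 1 ≠ 0 := by
  refine mul_ne_zero ?_ (irr_one_ne_zero (C.F.ρ q : Cfsg.IrrCharacter G).2)
  rcases C.F.unit (C.F.ρ q) with e' | e' <;> simp [e']

/-- A dependence gives a reflection not fused to the involution. -/
theorem Coords.exists_unfused {t : Fin 3 → ℂ} (ht : t ≠ 0)
    (hdep : ∀ s : G, ¬ 2 ∣ orderOf s → ∑ i, t i * C.val (piv 3 i) s = 0) :
    ∃ w : P, w ∉ Subgroup.zpowers r ∧ ¬ Fused 2 M e w (cz r N) := by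
  classical
  have h4 := h.four_le
  set mm := N / 2 - 1
  set X : Fin 3 → ℂ := fun i => ∑ j, (smat 3 (mm : ℤ) i j : ℂ) * t j with hXdef
  have hX : ∀ i, ∑ j, (cbar 3 mm i j : ℂ) * X j = 4 * ((mm : ℂ) + 1) * t i := by
    intro i
    simp only [hXdef, Finset.mul_sum, ← mul_assoc]
    rw [Finset.sum_comm]
    simp only [← Finset.sum_mul]
    rw [Finset.sum_eq_single i]
    · have := congrArg (fun z : ℤ => (z : ℂ)) (cbar_smat (m := mm) (l := 3) (by simp) i i)
      push_cast at this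
      rw [this]
      simp
    · intro j _ hj
      have := congrArg (fun z : ℤ => (z : ℂ)) (cbar_smat (m := mm) (l := 3) (by simp) i j)
      push_cast at this
      rw [this, if_neg hj.symm, zero_mul]
    · simp
  set ev : B → ℂ := fun χ =>
    (C.F.σ χ : ℂ) * ∑ i, (row 3 (C.equiv.symm χ) i : ℂ) * X i with hev
  have hevρ : ∀ q, ev (C.F.ρ q) = (C.F.σ (C.F.ρ q) : ℂ) * ∑ i, (row 3 q i : ℂ) * X i := fun q => by
    simp only [hev]
    rw [show C.equiv.symm (C.F.ρ q) = q from C.equiv.symm_apply_apply q]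
  have hker : IsKer 2 B ev := fun s hs => by
    rw [← C.equiv.sum_comp]
    have e1 : ∀ q, ev (C.equiv q) * ((C.equiv q : Cfsg.IrrCharacter G) : G → ℂ) s =
        (∑ i, (row 3 q i : ℂ) * X i) * ∑ j, (row 3 q j : ℂ) * C.val (piv 3 j) s := fun q => by
      rw [← C.row_three hM hmax h q hs, Coords.equiv, Equiv.ofBijective_apply, hevρ, Coords.val]
      ring
    rw [Finset.sum_congr rfl fun q _ => e1 q]
    simp only [Finset.sum_mul, Finset.mul_sum]
    rw [Finset.sum_comm, Finset.sum_congr rfl fun i _ => Finset.sum_comm, Finset.sum_comm]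
    have e2 : ∀ j i : Fin 3, ∑ q : Pos mm 0 0, (row 3 q i : ℂ) * X i *
        ((row 3 q j : ℂ) * C.val (piv 3 j) s) =
        ((cbar 3 mm j i : ℂ) * X i) * C.val (piv 3 j) s := fun j i => by
      simp only [cbar, Int.cast_sum, Int.cast_mul, Finset.sum_mul]
      exact Finset.sum_congr rfl fun q _ => by ring
    rw [Finset.sum_congr rfl fun i _ => Finset.sum_congr rfl fun j _ => e2 j i, Finset.sum_comm]
    simp only [← Finset.sum_mul, hX]
    simp only [mul_assoc]
    rw [← Finset.mul_sum, ← Finset.mul_sum, hdep s hs]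
    simp
  have hev0 : ev ≠ 0 := by
    intro h0
    refine ht (funext fun i => ?_)
    have hz : ∀ j, X j = 0 := fun j => by
      have e1 := congrFun h0 (C.F.ρ (piv 3 j))
      rw [hevρ, Pi.zero_apply, mul_eq_zero] at e1
      rcases e1 with e1 | e1
      · rcases C.F.unit (C.F.ρ (piv 3 j)) with e' | e' <;> simp [e'] at e1
      · simpa [row_piv (l := 3) (by simp)] using e1
    have e1 := hX i
    simp only [hz, mul_zero, Finset.sum_const_zero] at e1
    have h2 : (4 : ℂ) * ((mm : ℂ) + 1) ≠ 0 :=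
      mul_ne_zero (by norm_num) (by exact_mod_cast Nat.succ_ne_zero mm)
    exact (mul_eq_zero.1 e1.symm).resolve_left h2
  -- orthogonal to the coordinates
  have hV : ∀ i : Fin mm, ∑ χ : B, ev χ * (C.c χ ((i : ℕ) + 1) : ℂ) = 0 := fun i => by
    rw [← C.equiv.sum_comp]
    simp only [Coords.equiv, Equiv.ofBijective_apply, hevρ, C.F.c_apply i]
    have : ∀ q, (C.F.σ (C.F.ρ q) : ℂ) * (∑ j, (row 3 q j : ℂ) * X j) *
        ((C.F.σ (C.F.ρ q) * col (Sel.V i) q : ℤ) : ℂ) =
        (col (Sel.V i) q : ℂ) * ∑ j, (row 3 q j : ℂ) * X j := fun q => by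
      rcases C.F.unit (C.F.ρ q) with e' | e' <;> rw [e'] <;> push_cast <;> ring
    simp only [this]
    simp [Pos.sum_eq, col, Finset.sum_ite_eq', row, red, Fin.sum_univ_three]
    ring
  have hC : ∑ χ : B, ev χ * (C.c χ (N / 2) : ℂ) = 0 := by
    rw [← C.equiv.sum_comp]
    simp only [Coords.equiv, Equiv.ofBijective_apply, hevρ, C.F.cs_apply]
    have : ∀ q, (C.F.σ (C.F.ρ q) : ℂ) * (∑ j, (row 3 q j : ℂ) * X j) *
        ((C.F.σ (C.F.ρ q) * col (Sel.C (M := mm)) q : ℤ) : ℂ) =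
        (col (Sel.C (M := mm)) q : ℂ) * ∑ j, (row 3 q j : ℂ) * X j := fun q => by
      rcases C.F.unit (C.F.ρ q) with e' | e' <;> rw [e'] <;> push_cast <;> ring
    simp only [this]
    simp [Pos.sum_eq, col, row, red, Fin.sum_univ_three]
    ring
  have hk : ∀ k < N, ∑ χ : B, ev χ * (C.c χ k : ℂ) = 0 := by
    intro k hk
    have hhalf : ∀ k, k ≤ N / 2 → ∑ χ : B, ev χ * (C.c χ k : ℂ) = 0 := by
      intro k hk
      rcases Nat.eq_zero_or_pos k with rfl | hk0
      · refine Finset.sum_eq_zero fun χ _ => ?_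
        rw [← C.eq, Dihedral.coefC_zero, mul_zero]
      rcases Nat.lt_or_ge k (N / 2) with hlt | hge
      · have := hV ⟨k - 1, by omega⟩
        rwa [show ((⟨k - 1, by omega⟩ : Fin mm) : ℕ) + 1 = k by simp only; omega] at this
      · rw [show k = N / 2 by omega]; exact hC
    rcases Nat.lt_or_ge (N / 2) k with hlt | hge
    · rw [← hhalf (N - k) (by omega)]
      refine Finset.sum_congr rfl fun χ _ => ?_
      rw [← C.eq, ← C.eq, coefC_refl C.root
        (fun j hj => Dihedral.colPow_refl hM hmax h L (χ : Cfsg.IrrCharacter G) hj) (by omega)]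
    · exact hhalf k hge
  have hcol : ∀ v : P, v ∈ Subgroup.zpowers r → v ≠ 1 →
      ∑ χ : B, ev χ * Dihedral.col L ((χ : Cfsg.IrrCharacter G) : G → ℂ) v = 0 := by
    intro v hv hv1
    obtain ⟨j, hj, rfl⟩ : ∃ j, j < N ∧ r ^ j = v := by
      obtain ⟨j, hj⟩ := mem_powers_iff_mem_zpowers.2 hv
      exact ⟨j % N, Nat.mod_lt _ (by omega), by rw [← h.ord, pow_mod_orderOf]; exact hj⟩
    have hj0 : j ≠ 0 := fun e' => hv1 (by rw [e', pow_zero])
    have key : ∀ χ : B, Dihedral.col L ((χ : Cfsg.IrrCharacter G) : G → ℂ) (r ^ j) =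
        -∑ k ∈ Finset.range N, ω ^ (k * (N - j)) * (C.c χ k : ℂ) := fun χ => by
      simp only [← C.eq]
      rw [coefC_inverse C.root _ (i := N - j) (by omega) (by omega), neg_neg,
        show N - (N - j) = j by omega]
      rfl
    simp only [key, mul_neg, Finset.sum_neg_distrib, Finset.mul_sum, mul_left_comm (ev _)]
    rw [Finset.sum_comm, neg_eq_zero]
    refine Finset.sum_eq_zero fun k hk' => ?_
    rw [← Finset.mul_sum, hk k (Finset.mem_range.1 hk'), mul_zero]
  obtain ⟨g, hg⟩ : ∃ g, expand B ev g ≠ 0 := by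
    by_contra hcon
    push Not at hcon
    refine hev0 (funext fun χ => ?_)
    have := coeff_expand ev χ
    rw [show expand B ev = 0 from funext hcon, classInner_def] at this
    simpa using this.symm
  have hg2 : 2 ∣ orderOf g := by
    by_contra hn
    exact hg (hker g hn)
  obtain ⟨w, x, s, hw1, -, hs, hth⟩ := exists_part hM hmax ev hg2 hg
  have hrot : ∀ v : P, v ∈ Subgroup.zpowers r → v ≠ 1 → ∀ s ∈ regAt 2 (v : G),
      th (expand B ev) (v : G) (eps 2 M e v) s = 0 := by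
    intro v hv hv1 s hs
    have hgood := Dihedral.good_rot h hv hv1
    have hsC : s ∈ CU ((cz r N : P) : G) := hgood.1 (mem_CU_of_commute (mem_regAt.1 hs).1)
    unfold expand
    rw [th_linear, show s = ((⟨s, hsC⟩ : CU ((cz r N : P) : G)) : G) from rfl]
    simp only [L.th_eq hM hmax (irr_isClassFunction _) hgood (s := ⟨s, hsC⟩) hs, ← mul_assoc,
      ← Finset.sum_mul]
    exact mul_eq_zero_of_left (hcol v hv hv1) _
  refine ⟨w, fun hwR => hth (hrot w hwR hw1 s hs), fun hf => hth ?_⟩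
  obtain ⟨y, hy, hyε⟩ := hf
  rw [← BlockCharsA.CyclicDefect.th_conj (isClassFunction_expand ev) y, ← hy, hyε]
  refine hrot _ (Subgroup.npow_mem_zpowers r _) h.z_facts.1 _ ?_
  obtain ⟨h1, h2⟩ := mem_regAt.1 hs
  rw [hy]
  exact mem_regAt.2 ⟨h1.map (MulAut.conj y).toMonoidHom, by
    rwa [show y * s * y⁻¹ = MulAut.conj y s from rfl, MulEquiv.orderOf_eq]⟩

end Cfsg.Agent.Blocks.Quaternion
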