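import Mathlib
import Cfsg.Agent.Lib.Blocks.Quaternion.Rows
import Cfsg.Agent.Lib.Blocks.KleinFourBlock

/-!
# Rows of the quotient block: rank one, and Klein four defect groups
-/

set_option linter.style.haveILetI false
set_option linter.unusedSectionVars false

namespace Cfsg.Agent.Blocks.Quaternion

open Cfsg.Agent.Blocks Cfsg.Agent.Characters Cfsg.Agent.BlockCharsA
open Cfsg.Agent.BlockCharsA.RegularPart Cfsg.Agent.BlockCharsA.Contrib
open scoped ComplexConjugate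

universe u

variable {G : Type u} [Group G] [Finite G] {M : Ideal Cfsg.AlgInt}
  {B : Set (Cfsg.IrrCharacter G)}

/-- The rows of a quotient block follow the model. -/
def BarOut (B : Set (Cfsg.IrrCharacter G)) (m : ℕ) : Prop :=
  ∃ l, (l = 1 ∨ l = 2 ∨ l = 3) ∧ (l = 2 → Odd m) ∧ Nonempty (RowModel 2 B m 0 0 l)

/-- A block of rank one with four characters of height zero. -/
theorem bar_rank_one (hM : Cfsg.IsPModular 2 M) (hB : Cfsg.IsPBlock M B) [Fintype B] {m : ℕ}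
    (hd : 2 ^ Cfsg.blockDefect 2 B = 4 * (m + 1)) (hl : Cfsg.blockRank 2 B = 1)
    (hk : Fintype.card B = m + 4)
    (h4 : Nat.card {χ : Cfsg.IrrCharacter G //
      χ ∈ B ∧ Cfsg.blockHeight 2 B (χ : G → ℂ) = 0} = 4) : BarOut B m := by
  classical
  obtain ⟨w, Φ, hΦ, hpos, hrow, hsum, hh0⟩ := exists_rows_rank_one hM hB hl
  set A : Finset B := Finset.univ.filter fun χ => ¬ (2 : ℤ) ∣ w χ with hA
  have hAc : A.card = 4 := by
    rw [← h4, hA, ← Fintype.card_subtype, ← Nat.card_eq_fintype_card]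
    exact Nat.card_congr ((Equiv.subtypeEquivRight fun χ : B =>
      (hh0 (χ : Cfsg.IrrCharacter G) χ.2).symm).trans
      (Equiv.subtypeSubtypeEquivSubtypeInter (· ∈ B)
        (fun χ => Cfsg.blockHeight 2 B (χ : G → ℂ) = 0)))
  have hAc' : Aᶜ.card = m := by rw [Finset.card_compl, hAc, hk]; omega
  have hsq : ∀ χ : B, (if χ ∈ A then (1 : ℤ) else 4) ≤ w χ ^ 2 := fun χ => by
    have h1 := hpos (χ : Cfsg.IrrCharacter G) χ.2
    split_ifs with hχ
    · nlinarith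
    · have h2 : (2 : ℤ) ≤ w χ := by
        simp only [hA, Finset.mem_filter, Finset.mem_univ, true_and, not_not] at hχ
        omega
      nlinarith
  have heq : ∀ χ : B, w χ ^ 2 = if χ ∈ A then (1 : ℤ) else 4 := by
    intro χ
    have e : ∑ χ : B, (if χ ∈ A then (1 : ℤ) else 4) = ∑ χ : B, w χ ^ 2 := by
      rw [hsum, Finset.sum_ite, Finset.sum_const, Finset.sum_const,
        show Finset.univ.filter (fun χ => χ ∈ A) = A by ext; simp,
        show Finset.univ.filter (fun χ => χ ∉ A) = Aᶜ by ext; simp, hAc, hAc']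
      have hd' := congrArg (fun t : ℕ => (t : ℤ)) hd
      simp only [Nat.cast_pow, Nat.cast_mul, Nat.cast_add, Nat.cast_one, Nat.cast_ofNat] at hd'
      simp only [Nat.cast_ofNat, nsmul_eq_mul]
      rw [hd']
      ring
    exact ((Finset.sum_eq_sum_iff_of_le fun χ _ => hsq χ).1 e χ (Finset.mem_univ _)).symm
  have hw : ∀ χ : B, w χ = if χ ∈ A then 1 else 2 := fun χ => by
    have h1 := hpos (χ : Cfsg.IrrCharacter G) χ.2
    have h2 := heq χ
    split_ifs at h2 ⊢ <;> nlinarith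
  set e₁ := (A.equivFinOfCardEq hAc).symm
  set e₂ := (Aᶜ.equivFinOfCardEq hAc').symm
  set ρ : Pos m 0 0 → B := fun q => match q with
    | .a => e₁ 0
    | .b => e₁ 1
    | .u => e₁ 2
    | .v => e₁ 3
    | .x i => e₂ i
    | .g i => i.elim0
    | .k i => i.elim0 with hρ
  have hsurj : Function.Surjective ρ := by
    intro χ
    by_cases hχ : χ ∈ A
    · obtain ⟨i, hi⟩ := e₁.surjective ⟨χ, hχ⟩
      have hi' : (e₁ i : B) = χ := congrArg Subtype.val hi
      fin_cases i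
      exacts [⟨.a, hi'⟩, ⟨.b, hi'⟩, ⟨.u, hi'⟩, ⟨.v, hi'⟩]
    · obtain ⟨i, hi⟩ := e₂.surjective ⟨χ, Finset.mem_compl.2 hχ⟩
      exact ⟨.x i, congrArg Subtype.val hi⟩
  have hbij : Function.Bijective ρ :=
    (Fintype.bijective_iff_surjective_and_card ρ).2 ⟨hsurj, by rw [Pos.card_eq, hk]; omega⟩
  refine ⟨1, Or.inl rfl, fun h => by omega, ⟨⟨Equiv.ofBijective ρ hbij,
    fun q => if q = .a ∨ q = .b then 1 else -1, fun q => by split_ifs <;> simp,
    fun _ => Φ, fun q s hs => ?_, fun t ht => ?_⟩⟩⟩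
  · rw [hrow _ (Equiv.ofBijective ρ hbij q).2 s hs, Fin.sum_univ_one, Equiv.ofBijective_apply, hw]
    have hmem : ∀ i, (e₁ i : B) ∈ A := fun i => (e₁ i).2
    have hnot : ∀ i, (e₂ i : B) ∉ A := fun i => Finset.mem_compl.1 (e₂ i).2
    rcases q with _ | _ | _ | _ | i | i | i
    · simp [hρ, hmem, row, red]
    · simp [hρ, hmem, row, red]
    · simp [hρ, hmem, row, red]
    · simp [hρ, hmem, row, red]
    · simp [hρ, hnot, row, red]
    · exact i.elim0
    · exact i.elim0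
  · have h := ht 1 (by simp)
    rw [Fin.sum_univ_one] at h
    funext i
    rw [Subsingleton.elim i 0]
    exact (mul_eq_zero.1 h).resolve_right hΦ

/-- A block with Klein four defect group. -/
theorem bar_klein (hM : Cfsg.IsPModular 2 M) {P : Subgroup G}
    {c : Set (Cfsg.IrrCharacter (Subgroup.centralizer (P : Set G)))}
    (hmax : Cfsg.IsMaximalBrauerPair 2 M B P c) (hV : IsKleinFour P) [Fintype B] :
    BarOut B 0 := by
  classical
  haveI := Fintype.ofFinite (Cfsg.IrrCharacter G)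
  obtain ⟨he, hk4, hl⟩ := KleinFourBlock.invariants hM hmax hV _ rfl
  have hB := hmax.1.2.1
  have hd : 2 ^ Cfsg.blockDefect 2 B = 4 := by
    rw [← card_defectGroup hM hB (PairMax.isDefectGroup_of_maximal hM hmax), hV.card_four]
  have hk : Fintype.card B = 4 := by rw [← Nat.card_eq_fintype_card, hk4]
  rw [← hl] at he
  rcases he with hl1 | hl3
  · refine bar_rank_one hM hB (by rw [hd]) hl1 hk ?_
    obtain ⟨w, Φ, -, hpos, -, hsum, hh0⟩ := exists_rows_rank_one hM hB hl1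
    have h1 : ∀ χ : B, (1 : ℤ) ≤ w χ ^ 2 := fun χ => by
      have := hpos (χ : Cfsg.IrrCharacter G) χ.2
      nlinarith
    have e : ∑ _χ : B, (1 : ℤ) = ∑ χ : B, w χ ^ 2 := by
      rw [hsum, Finset.sum_const, Finset.card_univ, hk, ← Nat.cast_pow, hd]
      simp
    rw [← hk4]
    refine Nat.card_congr (Equiv.subtypeEquivRight fun χ => ⟨fun h => h.1, fun hχ => ⟨hχ, ?_⟩⟩)
    rw [hh0 χ hχ]
    intro hdvd
    have h2 : w χ ^ 2 = 1 :=
      ((Finset.sum_eq_sum_iff_of_le fun χ _ => h1 χ).1 e ⟨χ, hχ⟩ (Finset.mem_univ _)).symm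
    have h3 : ((2 : ℕ) : ℤ) ∣ w χ ^ 2 := dvd_pow hdvd two_ne_zero
    rw [h2] at h3
    norm_num at h3
  -- rank three
  obtain ⟨z, hz, hs, -, h2, -, -, -, hprod, htr⟩ := exists_matrix hM hB
  have hd' : ((2 : ℕ) : ℤ) ^ Cfsg.blockDefect 2 B = 4 := by rw [← Nat.cast_pow, hd]; rfl
  have hfs : ∀ f : Cfsg.IrrCharacter G → ℤ, ∑ᶠ θ ∈ B, f θ = ∑ θ : B, f θ := fun f => by
    rw [ZStar.Principal.finsum_mem_eq_sum_filter]
    exact Finset.sum_subtype _ (fun θ => by simp) f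
  set U : B → B → ℤ := fun χ θ => (if χ = θ then 4 else 0) - z χ θ with hU
  have hUs : ∀ χ θ : B, U θ χ = U χ θ := fun χ θ => by
    simp only [hU, hs χ χ.2 θ θ.2, eq_comm (a := θ)]
  have hUU : ∀ χ ψ : B, ∑ θ : B, U χ θ * U θ ψ = 4 * U χ ψ := fun χ ψ => by
    have e := hprod χ χ.2 ψ ψ.2
    rw [hfs, hd'] at e
    simp only [hU, sub_mul, mul_sub, Finset.sum_sub_distrib, ite_mul, mul_ite, zero_mul, mul_zero,
      Finset.sum_ite_eq, Finset.sum_ite_eq', Finset.mem_univ, if_true, e]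
    ring
  have hUtr : ∑ χ : B, U χ χ = 4 := by
    rw [hfs, hd', hl3] at htr
    simp only [hU, if_true, Finset.sum_sub_distrib, Finset.sum_const, Finset.card_univ, hk, htr]
    norm_num
  have hUsq : ∀ χ : B, ∑ θ : B, U χ θ ^ 2 = 4 * U χ χ := fun χ => by
    rw [← hUU χ χ]
    exact Finset.sum_congr rfl fun θ _ => by rw [hUs χ θ, sq]
  obtain ⟨θ₀, hθ₀, hθ0⟩ := exists_height_zero hM hB
  have hUpos : ∀ χ : B, 1 ≤ U χ χ := fun χ => by
    have h0 : 0 ≤ U χ χ := by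
      have := Finset.sum_nonneg (s := Finset.univ) fun θ (_ : θ ∈ Finset.univ) => sq_nonneg (U χ θ)
      rw [hUsq] at this
      omega
    by_contra hcon
    have hz0 : U χ χ = 0 := by omega
    have hrow0 : ∀ θ, U χ θ = 0 := fun θ =>
      pow_eq_zero_iff two_ne_zero |>.1 ((Finset.sum_eq_zero_iff_of_nonneg fun θ _ => sq_nonneg _).1
        (by rw [hUsq, hz0, mul_zero]) θ (Finset.mem_univ _))
    have hoff : ∀ θ : B, χ ≠ θ → z χ θ = 0 := fun θ hne => by
      have := hrow0 θ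
      simp only [hU, if_neg hne] at this
      omega
    by_cases hχ0 : Cfsg.blockHeight 2 B ((χ : Cfsg.IrrCharacter G) : G → ℂ) = 0
    · obtain ⟨θ, hθ⟩ := Fintype.exists_ne_of_one_lt_card (α := B) (by omega) χ
      exact h2 χ χ.2 θ θ.2 hχ0 (hoff θ hθ.symm)
    · have hne : χ ≠ ⟨θ₀, hθ₀⟩ := fun e => hχ0 (by rw [e]; exact hθ0)
      refine h2 θ₀ hθ₀ χ χ.2 hθ0 ?_
      rw [hs χ χ.2 θ₀ hθ₀]
      exact hoff _ hne
  have hU1 : ∀ χ : B, U χ χ = 1 := fun χ => by
    have e : ∑ _χ : B, (1 : ℤ) = ∑ χ : B, U χ χ := by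
      rw [hUtr, Finset.sum_const, Finset.card_univ, hk]; rfl
    exact ((Finset.sum_eq_sum_iff_of_le fun χ _ => hUpos χ).1 e χ (Finset.mem_univ _)).symm
  have hUone : ∀ χ θ : B, U χ θ ^ 2 = 1 := fun χ θ => by
    have hle : ∀ χ θ : B, U χ θ ^ 2 ≤ 1 := fun χ θ => by
      have := Finset.sum_mul_sq_le_sq_mul_sq Finset.univ (U χ) (U θ)
      rw [hUsq, hUsq, hU1, hU1, Finset.sum_congr rfl fun η _ => by rw [hUs η θ], hUU χ θ] at this
      nlinarith
    have e : ∑ θ : B, U χ θ ^ 2 = ∑ _θ : B, (1 : ℤ) := by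
      rw [hUsq, hU1, Finset.sum_const, Finset.card_univ, hk]; rfl
    exact (Finset.sum_eq_sum_iff_of_le fun θ _ => hle χ θ).1 e θ (Finset.mem_univ _)
  set χ₀ : B := ⟨θ₀, hθ₀⟩
  set e := U χ₀
  have hunit : ∀ θ, e θ = 1 ∨ e θ = -1 := fun θ => by
    have h := hUone χ₀ θ
    rwa [sq, mul_self_eq_one_iff] at h
  have hker : ∀ s : G, ¬ 2 ∣ orderOf s →
      ∑ θ : B, (e θ : ℂ) * ((θ : Cfsg.IrrCharacter G) : G → ℂ) s = 0 := fun s hs' => by
    have h := sum_contrib_mul hM hB χ₀.2 hs'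
    rw [Finset.sum_congr rfl fun θ _ => by rw [hz χ₀ χ₀.2 θ θ.2], hd] at h
    simp only [e, hU, Int.cast_sub, sub_mul, Finset.sum_sub_distrib, h, Int.cast_ite, ite_mul,
      Int.cast_zero, zero_mul, Finset.sum_ite_eq, Finset.mem_univ, if_true]
    norm_num
  obtain ⟨ρ⟩ : Nonempty (Pos 0 0 0 ≃ B) :=
    ⟨Fintype.equivOfCardEq (by rw [Pos.card_eq, hk])⟩
  set Φ : Fin 3 → G → ℂ := fun j s => (e (ρ (piv 3 j)) : ℂ) *
    ((ρ (piv 3 j) : Cfsg.IrrCharacter G) : G → ℂ) s with hΦ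
  have hrow : ∀ q, ∀ s : G, ¬ 2 ∣ orderOf s → (e (ρ q) : ℂ) *
      ((ρ q : Cfsg.IrrCharacter G) : G → ℂ) s = ∑ i, (row 3 q i : ℂ) * Φ i s := by
    intro q s hs'
    have h := hker s hs'
    rw [← ρ.sum_comp] at h
    simp [Pos.sum_eq] at h
    rcases q with _ | _ | _ | _ | i | i | i
    · simp [row, red, Fin.sum_univ_three, hΦ, piv]
    · simp [row, red, Fin.sum_univ_three, hΦ, piv]
    · simp [row, red, Fin.sum_univ_three, hΦ, piv]
    · simp [row, red, Fin.sum_univ_three, hΦ, piv]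
      linear_combination h
    all_goals exact i.elim0
  refine ⟨3, Or.inr (Or.inr rfl), fun h => by omega,
    ⟨⟨ρ, fun q => e (ρ q), fun q => hunit _, Φ, hrow, ?_⟩⟩⟩
  refine (indep_of_rank (p := 2) (B := B) Φ fun χ hχ => ?_).2 (by rw [Fintype.card_fin, hl3])
  obtain ⟨q, hq⟩ := ρ.surjective ⟨χ, hχ⟩
  refine ⟨fun i => (e (ρ q) : ℂ) * (row 3 q i : ℂ), fun s hs' => ?_⟩
  simp only [mul_assoc, ← Finset.mul_sum, ← hrow q s hs']
  rw [hq, ← mul_assoc]
  rcases hunit (⟨χ, hχ⟩ : B) with e' | e' <;> simp [e']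

end Cfsg.Agent.Blocks.Quaternion
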