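import Mathlib
import Cfsg.Agent.Lib.Blocks.Quaternion.BarRows
import Cfsg.Agent.Lib.Blocks.Quaternion.BarSmall
import Cfsg.Agent.Lib.Blocks.Dihedral.Main

/-!
# Rows of a block with dihedral defect group
-/

set_option linter.style.haveILetI false
set_option linter.unusedSectionVars false

namespace Cfsg.Agent.Blocks.Quaternion

open Cfsg.Agent.Blocks Cfsg.Agent.Characters Cfsg.Agent.Blocks.Star
open Cfsg.Agent.Blocks.CentralStep
open Cfsg.Agent.BlockCharsA
open Cfsg.Agent.BlockCharsA.BrauerPairs Cfsg.Agent.BlockCharsA.PairConj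
open Cfsg.Agent.Blocks.Dihedral (IsDih cz coefC colPow)

universe u

/-- The sign of a subgroup of index two. -/
theorem exists_sign_hom {Q : Type*} [Group Q] {K : Subgroup Q} (hK : K.index = 2) :
    ∃ lam : Q →* ℂ, ∀ v, (v ∈ K → lam v = 1) ∧ (v ∉ K → lam v = -1) := by
  classical
  refine ⟨{ toFun := fun v => if v ∈ K then 1 else -1
            map_one' := by simp [K.one_mem]
            map_mul' := fun a b => ?_ }, fun v => ⟨fun hv => by simp [hv], fun hv => by simp [hv]⟩⟩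
  by_cases ha : a ∈ K <;> by_cases hb : b ∈ K <;>
    simp [ha, hb, Subgroup.mul_mem_iff_of_index_two hK]

variable {G : Type u} [Group G] [Finite G] {P : Subgroup G} {r : P} {N : ℕ}

namespace Turn

variable (h : IsDih P r N)
include h

/-- A reflection turned by rotations. -/
theorem conj_out {s : P} (hs : s ∉ Subgroup.zpowers r) (j : ℤ) :
    s * r ^ j = r ^ (-j) * s := by
  have := h.inv_mem hs (Subgroup.zpow_mem _ (Subgroup.mem_zpowers r) j)
  rw [zpow_neg, ← this, inv_mul_cancel_right]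

theorem cases_out {s : P} (hs : s ∉ Subgroup.zpowers r) (v : P) :
    (∃ k : ℤ, v = r ^ k) ∨ ∃ k : ℤ, v = r ^ k * s := by
  by_cases hv : v ∈ Subgroup.zpowers r
  · obtain ⟨k, hk⟩ := Subgroup.mem_zpowers_iff.1 hv
    exact Or.inl ⟨k, hk.symm⟩
  · obtain ⟨k, hk⟩ := Subgroup.mem_zpowers_iff.1 (h.mul_mem_R hv hs)
    exact Or.inr ⟨k, by rw [hk, mul_assoc, h.sq s hs, mul_one]⟩

theorem parity {k l : ℤ} (e : r ^ k = r ^ l) : Even k ↔ Even l := by
  obtain ⟨j, hj, hN⟩ := h.pow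
  have h1 : r ^ (k - l) = 1 := by rw [zpow_sub, e, mul_inv_cancel]
  have h2 : (orderOf r : ℤ) ∣ k - l := orderOf_dvd_iff_zpow_eq_one.2 h1
  rw [h.ord, hN] at h2
  have h3 : (2 : ℤ) ∣ k - l := by
    refine dvd_trans ?_ h2
    exact_mod_cast dvd_pow_self 2 (show j ≠ 0 by omega)
  exact Int.even_sub.1 (even_iff_two_dvd.2 h3)

/-- The other subgroup of index two through the turn of a reflection. -/
def turned {s : P} (hs : s ∉ Subgroup.zpowers r) : Subgroup P where
  carrier := {v | ∃ k : ℤ, Even k ∧ v = r ^ k ∨ Odd k ∧ v = r ^ k * s}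
  one_mem' := ⟨0, Or.inl ⟨⟨0, rfl⟩, (zpow_zero r).symm⟩⟩
  mul_mem' := by
    rintro _ _ ⟨a, ⟨ha, rfl⟩ | ⟨ha, rfl⟩⟩ ⟨b, ⟨hb, rfl⟩ | ⟨hb, rfl⟩⟩
    · exact ⟨a + b, Or.inl ⟨ha.add hb, (zpow_add r a b).symm⟩⟩
    · exact ⟨a + b, Or.inr ⟨ha.add_odd hb, by rw [zpow_add, mul_assoc]⟩⟩
    · refine ⟨a - b, Or.inr ⟨ha.sub_even hb, ?_⟩⟩
      rw [sub_eq_add_neg, zpow_add, mul_assoc, mul_assoc, conj_out h hs]
    · refine ⟨a - b, Or.inl ⟨ha.sub_odd hb, ?_⟩⟩
      rw [sub_eq_add_neg, zpow_add, mul_assoc (r ^ a) s, ← mul_assoc s, conj_out h hs,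
        mul_assoc (r ^ (-b)), h.sq s hs, mul_one]
  inv_mem' := by
    rintro _ ⟨a, ⟨ha, rfl⟩ | ⟨ha, rfl⟩⟩
    · exact ⟨-a, Or.inl ⟨ha.neg, (zpow_neg r a).symm⟩⟩
    · refine ⟨a, Or.inr ⟨ha, inv_eq_of_mul_eq_one_left ?_⟩⟩
      rw [mul_assoc (r ^ a) s, ← mul_assoc s, conj_out h hs, mul_assoc (r ^ (-a)), h.sq s hs,
        mul_one, ← zpow_add, add_neg_cancel, zpow_zero]

theorem mem_turned_rot {s : P} (hs : s ∉ Subgroup.zpowers r) (k : ℤ) :
    r ^ k ∈ turned h hs ↔ Even k := by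
  refine ⟨fun ⟨l, hl⟩ => ?_, fun hk => ⟨k, Or.inl ⟨hk, rfl⟩⟩⟩
  rcases hl with ⟨hl, e⟩ | ⟨-, e⟩
  · exact (parity h e).2 hl
  · refine absurd ?_ hs
    rw [show s = r ^ (-l) * (r ^ l * s) by rw [← mul_assoc, ← zpow_add, neg_add_cancel, zpow_zero,
      one_mul], ← e]
    exact mul_mem (Subgroup.zpow_mem _ (Subgroup.mem_zpowers r) _)
      (Subgroup.zpow_mem _ (Subgroup.mem_zpowers r) _)

theorem mem_turned_refl {s : P} (hs : s ∉ Subgroup.zpowers r) (k : ℤ) :
    r ^ k * s ∈ turned h hs ↔ Odd k := by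
  refine ⟨fun ⟨l, hl⟩ => ?_, fun hk => ⟨k, Or.inr ⟨hk, rfl⟩⟩⟩
  rcases hl with ⟨-, e⟩ | ⟨hl, e⟩
  · refine absurd ?_ hs
    rw [show s = r ^ (-k) * (r ^ k * s) by rw [← mul_assoc, ← zpow_add, neg_add_cancel, zpow_zero,
      one_mul], e]
    exact mul_mem (Subgroup.zpow_mem _ (Subgroup.mem_zpowers r) _)
      (Subgroup.zpow_mem _ (Subgroup.mem_zpowers r) _)
  · rw [← Int.not_even_iff_odd, parity h (mul_right_cancel e)]
    exact Int.not_even_iff_odd.2 hl

theorem index_turned {s : P} (hs : s ∉ Subgroup.zpowers r) : (turned h hs).index = 2 := by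
  refine Subgroup.index_eq_two_iff.2 ⟨r, fun v => ?_⟩
  rcases cases_out h hs v with ⟨k, rfl⟩ | ⟨k, rfl⟩
  · rw [← zpow_add_one, mem_turned_rot h hs, mem_turned_rot h hs, Int.even_add_one, xor_iff_not_iff]
    tauto
  · rw [mul_assoc, show s * r = r ^ (-1 : ℤ) * s by simpa using conj_out h hs 1, ← mul_assoc,
      ← zpow_add, mem_turned_refl h hs, mem_turned_refl h hs, ← sub_eq_add_neg,
      Int.odd_sub' (n := (1 : ℤ)), xor_iff_not_iff]
    simp only [odd_one, true_iff, ← Int.not_even_iff_odd]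
    tauto

theorem index_rot : (Subgroup.zpowers r).index = 2 := by
  have h1 := (Subgroup.zpowers r).card_mul_index
  rw [h.card_R, h.card, mul_comm 2 N] at h1
  exact Nat.eq_of_mul_eq_mul_left (by have := h.four_le; omega) h1

theorem cz_turned {s : P} (hs : s ∉ Subgroup.zpowers r) : cz r N ∈ turned h hs := by
  obtain ⟨j, hj, hN⟩ := h.pow
  obtain ⟨i, rfl⟩ : ∃ i, j = i + 2 := ⟨j - 2, by omega⟩
  rw [cz, ← zpow_natCast, mem_turned_rot h hs, Int.even_coe_nat, hN, pow_add]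
  exact ⟨2 ^ i, by omega⟩

end Turn

variable {M : Ideal Cfsg.AlgInt} {B : Set (Cfsg.IrrCharacter G)}
  {e : Set (Cfsg.IrrCharacter (Subgroup.centralizer (P : Set G)))}

/-- A reflection is fused to the first one or to its turn. -/
theorem fused_refl_pair (hM : Cfsg.IsPModular 2 M) (hmax : Cfsg.IsMaximalBrauerPair 2 M B P e)
    (h : IsDih P r N) {s : P} (hs : s ∉ Subgroup.zpowers r) (k : ℤ) :
    (Even k → Fused 2 M e s (r ^ k * s)) ∧ (Odd k → Fused 2 M e (r * s) (r ^ k * s)) := by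
  have key : ∀ x y : P, Fused 2 M e y (x * y * x⁻¹) := fun x y =>
    ⟨(x : G), rfl, eps_conj_top hM hmax y x⟩
  have hc : ∀ j : ℤ, r ^ j * s * (r ^ j)⁻¹ = r ^ (j + j) * s := fun j => by
    rw [mul_assoc, ← zpow_neg, Turn.conj_out h hs, neg_neg, ← mul_assoc, ← zpow_add]
  constructor
  · rintro ⟨j, rfl⟩
    rw [← hc j]
    exact key _ _
  · rintro ⟨j, rfl⟩
    have := key (r ^ j) (r * s)
    rwa [show r ^ j * (r * s) * (r ^ j)⁻¹ = r * (r ^ j * s * (r ^ j)⁻¹) by group,
      hc, ← mul_assoc, ← zpow_one_add, show 1 + (j + j) = 2 * j + 1 by ring] at this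

variable [Fintype G] [Fintype (Cfsg.IrrCharacter G)] [Fintype B]
  [Fintype (CU ((cz r N : P) : G))] [Fintype (Cfsg.IrrCharacter (top' P ((cz r N : P) : G)))]
  (hM : Cfsg.IsPModular 2 M) (hmax : Cfsg.IsMaximalBrauerPair 2 M B P e) (h : IsDih P r N)
include hM hmax h

/-- The parts of a twist. -/
theorem exists_twisted (lam : P →* ℂ) (hlam : Stable 2 M e fun v => lam v)
    (L : Loc 2 M e (cz r N)) (χ : B) :
    ∃ ψ : B, (∀ s : G, ¬ 2 ∣ orderOf s →
        ((ψ : Cfsg.IrrCharacter G) : G → ℂ) s = ((χ : Cfsg.IrrCharacter G) : G → ℂ) s) ∧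
      (∀ v : P, ∀ s ∈ regAt 2 (v : G),
        th ((ψ : Cfsg.IrrCharacter G) : G → ℂ) (v : G) (eps 2 M e v) s =
          lam v * th ((χ : Cfsg.IrrCharacter G) : G → ℂ) (v : G) (eps 2 M e v) s) ∧
      ∀ v : P, v ∈ Subgroup.zpowers r → v ≠ 1 →
        Dihedral.col L ((ψ : Cfsg.IrrCharacter G) : G → ℂ) v =
          lam v * Dihedral.col L ((χ : Cfsg.IrrCharacter G) : G → ℂ) v := by
  obtain ⟨ψ, hψB, hψ, -⟩ := exists_twist hM hmax lam hlam χ.2
  have hth : ∀ v : P, ∀ s ∈ regAt 2 (v : G),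
      th (ψ : G → ℂ) (v : G) (eps 2 M e v) s =
        lam v * th ((χ : Cfsg.IrrCharacter G) : G → ℂ) (v : G) (eps 2 M e v) s := fun v s hs => by
    rw [hψ, th_star hM (irr_isClassFunction _) (hψ ▸ irr_isClassFunction ψ)
      (orderOf_top hM hmax v) (eps_mem_BI hM hmax v) hs, hat_self hM hmax hlam]
  refine ⟨⟨ψ, hψB⟩, fun s hs => ?_, hth, fun v hv hv1 => ?_⟩
  · show (ψ : G → ℂ) s = _
    rw [hψ, star_regular hM hmax hlam χ.2 hs, map_one, one_mul]
  · obtain ⟨χ₁, hχ₁, h0⟩ := exists_height_zero hM hmax.1.2.1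
    obtain ⟨g, hg, hgB, he⟩ := eps_spec hM hmax v
    obtain ⟨s, hs, hne⟩ := exists_th_ne_zero hM (orderOf_top hM hmax v)
      ((block_of_subpairLE hM hg).2 hmax.1) hχ₁ h0
    have hgood := Dihedral.good_rot h hv hv1
    have hsC : s ∈ CU ((cz r N : P) : G) := hgood.1 (mem_CU_of_commute (mem_regAt.1 hs).1)
    have hcol : ∀ f : G → ℂ, Cfsg.IsClassFunction G f → th f (v : G) (eps 2 M e v) s =
        Dihedral.col L f v * L.base v ⟨s, hsC⟩ := fun f hf =>
      L.th_eq hM hmax hf hgood (s := ⟨s, hsC⟩) hs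
    have hb : L.base v ⟨s, hsC⟩ ≠ 0 := fun hb => hne (by
      rw [← he, hcol _ (irr_isClassFunction χ₁), hb, mul_zero])
    have e1 := hth v s hs
    rw [hcol _ (irr_isClassFunction ψ), hcol _ (irr_isClassFunction _), ← mul_assoc] at e1
    exact mul_right_cancel₀ hb e1

variable {L : Loc 2 M e (cz r N)} {ω : ℂ} (C : Coords (B := B) L ω)
include C

/-- The signs fixed on the rotations exchange `u` and `v`. -/
theorem Coords.model_of_sgn (hl : Cfsg.blockRank 2 B = 2) {s₀ : P} (hs₀ : s₀ ∉ Subgroup.zpowers r)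
    (h0 : ¬ Fused 2 M e s₀ (cz r N)) (h1 : ¬ Fused 2 M e (r * s₀) (cz r N)) :
    Nonempty (RowModel 2 B (N / 2 - 1) 0 0 2) := by
  classical
  have h4 := h.four_le
  obtain ⟨lam, hlam⟩ := exists_sign_hom (Turn.index_rot h)
  have hno : ∀ v : P, v ∉ Subgroup.zpowers r → ¬ Fused 2 M e v (cz r N) := by
    intro v hv hf
    rcases Turn.cases_out h hs₀ v with ⟨k, rfl⟩ | ⟨k, rfl⟩
    · exact hv (Subgroup.zpow_mem _ (Subgroup.mem_zpowers r) k)
    · rcases Int.even_or_odd k with hk | hk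
      · exact h0 (((fused_refl_pair hM hmax h hs₀ k).1 hk).trans hf)
      · exact h1 (((fused_refl_pair hM hmax h hs₀ k).2 hk).trans hf)
  have hR : ∀ u v : P, Fused 2 M e u v → u ∈ Subgroup.zpowers r → v ∈ Subgroup.zpowers r := by
    intro u v hf hu
    by_contra hv
    have hu1 : u ≠ 1 := (hf.symm).ne_one fun e' => hv (e' ▸ Subgroup.one_mem _)
    have hu2 : u * u = 1 := by
      obtain ⟨x, hx, -⟩ := hf
      have e' : (v : G) * v = 1 := congrArg Subtype.val (h.sq v hv)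
      rw [hx, show x * (u : G) * x⁻¹ * (x * (u : G) * x⁻¹) = x * ((u : G) * u) * x⁻¹ by group] at e'
      exact Subtype.ext (by simpa using e')
    rcases h.sq_eq_one hu hu2 with e' | e'
    · exact hu1 e'
    · exact hno v hv (by rw [show cz r N = u from e'.symm]; exact hf.symm)
  have hst : Stable 2 M e fun v => lam v := by
    intro u v x hx hε
    have hf : Fused 2 M e u v := ⟨x, hx, hε⟩
    show lam u = lam v
    by_cases hu : u ∈ Subgroup.zpowers r
    · rw [(hlam u).1 hu, (hlam v).1 (hR u v hf hu)]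
    · rw [(hlam u).2 hu, (hlam v).2 fun hv => hu (hR v u hf.symm hv)]
  -- the twist keeps the coordinates and moves every member of height zero
  have step : ∀ q, (∀ i, q ≠ .x i) → ∃ q', q' ≠ q ∧
      (∀ k, C.c (C.F.ρ q') k = C.c (C.F.ρ q) k) ∧
      ∀ s : G, ¬ 2 ∣ orderOf s → ((C.F.ρ q' : Cfsg.IrrCharacter G) : G → ℂ) s =
        ((C.F.ρ q : Cfsg.IrrCharacter G) : G → ℂ) s := by
    intro q hq
    obtain ⟨ψ, hreg, hth, hcol⟩ := exists_twisted hM hmax h lam hst L (C.F.ρ q)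
    obtain ⟨q', hq'⟩ := C.bij.2 ψ
    subst hq'
    refine ⟨q', fun e' => ?_, fun k => ?_, hreg⟩
    · subst e'
      obtain ⟨g, hg, hgB, he⟩ := eps_spec hM hmax s₀
      obtain ⟨s, hs, hne⟩ := exists_th_ne_zero hM (orderOf_top hM hmax s₀)
        ((block_of_subpairLE hM hg).2 hmax.1) (C.F.ρ q').2 (C.height_zero hM hmax h L q' hq)
      rw [← he] at hne
      have e1 := hth s₀ s hs
      rw [(hlam s₀).2 hs₀] at e1
      exact hne (by linear_combination e1 / 2)
    · apply Int.cast_injective (α := ℂ)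
      rw [← C.eq, ← C.eq, coefC, coefC]
      congr 1
      refine Finset.sum_congr rfl fun j hj => ?_
      rcases Nat.eq_zero_or_pos j with rfl | hj0
      · simp
      · congr 1
        simp only [colPow]
        rw [hcol _ (Subgroup.npow_mem_zpowers r j)
          (Dihedral.pow_ne_one' h hj0 (Finset.mem_range.1 hj)),
          (hlam _).1 (Subgroup.npow_mem_zpowers r j), one_mul]
  set i₀ : Fin (N / 2 - 1) := ⟨0, by omega⟩
  obtain ⟨qa, hqa, hca, hva⟩ := step .a (by simp)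
  obtain ⟨qu, hqu, hcu, hvu⟩ := step .u (by simp)
  have ea := hca (N / 2)
  have ea' := hca ((i₀ : ℕ) + 1)
  have eu := hcu (N / 2)
  have eu' := hcu ((i₀ : ℕ) + 1)
  rw [C.F.cs_apply, C.F.cs_apply] at ea eu
  rw [C.F.c_apply, C.F.c_apply] at ea' eu'
  have hva' : ∀ s : G, ¬ 2 ∣ orderOf s → C.val .b s = C.val .a s := fun s hs => by
    rcases C.F.unit (C.F.ρ qa) with e1 | e1 <;> rcases C.F.unit (C.F.ρ .a) with e2 | e2 <;>
      rcases qa with _ | _ | _ | _ | i | i | i <;>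
      first
      | exact i.elim0
      | exact absurd rfl hqa
      | (simp [col, e1, e2] at ea ea'; done)
      | simp [Coords.val, e1, e2, hva s hs]
  have hvu' : ∀ s : G, ¬ 2 ∣ orderOf s → C.val .v s = C.val .u s := fun s hs => by
    rcases C.F.unit (C.F.ρ qu) with e1 | e1 <;> rcases C.F.unit (C.F.ρ .u) with e2 | e2 <;>
      rcases qu with _ | _ | _ | _ | i | i | i <;>
      first
      | exact i.elim0
      | exact absurd rfl hqu
      | (simp [col, e1, e2] at eu eu'; done)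
      | simp [Coords.val, e1, e2, hvu s hs]
  refine C.rowModel_two hM hmax h hl (Equiv.refl _) (fun i s hs => C.relV hM hmax h i hs)
    (fun s hs => C.relC hM hmax h hs) fun s hs => ?_
  have hC := C.relC hM hmax h hs
  rw [hva' s hs, hvu' s hs] at hC
  show C.val .a s + C.val .u s = 0
  linear_combination hC / 2

/-- The turned sign exchanges `a` with a member of the other pair. -/
theorem Coords.model_of_turn (hl : Cfsg.blockRank 2 B = 2) {s₀ : P} (hs₀ : s₀ ∉ Subgroup.zpowers r)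
    (h0 : ¬ Fused 2 M e s₀ (cz r N)) (h1 : Fused 2 M e (r * s₀) (cz r N)) :
    Nonempty (RowModel 2 B (N / 2 - 1) 0 0 2) := by
  classical
  have h4 := h.four_le
  set K := Turn.turned h hs₀
  obtain ⟨lam, hlam⟩ := exists_sign_hom (Turn.index_turned h hs₀)
  have hcases : ∀ v : P, v * v = 1 → v ≠ 1 → (v ∈ K ↔ Fused 2 M e v (cz r N)) := by
    intro v hv hv1
    rcases Turn.cases_out h hs₀ v with ⟨k, rfl⟩ | ⟨k, rfl⟩
    · rcases h.sq_eq_one (Subgroup.zpow_mem _ (Subgroup.mem_zpowers r) k) hv with e' | e'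
      · exact absurd e' hv1
      · rw [e']
        exact iff_of_true (Turn.cz_turned h hs₀) (fused_refl _)
    · rw [Turn.mem_turned_refl h hs₀]
      rcases Int.even_or_odd k with hk | hk
      · exact iff_of_false (Int.not_odd_iff_even.2 hk)
          fun hf => h0 (((fused_refl_pair hM hmax h hs₀ k).1 hk).trans hf)
      · exact iff_of_true hk (((fused_refl_pair hM hmax h hs₀ k).2 hk).symm.trans h1)
  have hst : Stable 2 M e fun v => lam v := by
    intro u v x hx hε
    have hf : Fused 2 M e u v := ⟨x, hx, hε⟩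
    show lam u = lam v
    have hiff : u ∈ K ↔ v ∈ K := by
      by_cases hu1 : u = 1
      · have : v = 1 := by
          by_contra hv1
          exact (hf.symm.ne_one hv1) hu1
        rw [hu1, this]
      have hv1 : v ≠ 1 := hf.ne_one hu1
      have hsq : u * u = 1 ↔ v * v = 1 := by
        rw [Subtype.ext_iff, Subtype.ext_iff, Subgroup.coe_mul, Subgroup.coe_mul, Subgroup.coe_one,
          hx, show x * (u : G) * x⁻¹ * (x * (u : G) * x⁻¹) = x * ((u : G) * u) * x⁻¹ by group,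
          conj_eq_one_iff]
      by_cases hu : u * u = 1
      · rw [hcases u hu hu1, hcases v (hsq.1 hu) hv1]
        exact ⟨fun h' => hf.symm.trans h', fun h' => hf.trans h'⟩
      · have huR := h.mem_R_of_sq hu
        have hvR := h.mem_R_of_sq fun e' => hu (hsq.2 e')
        rcases Dihedral.fused_rot hM hmax h L huR hu1 hvR hf with rfl | rfl
        · rfl
        · exact (Subgroup.inv_mem_iff _).symm
    by_cases hu : u ∈ K
    · rw [(hlam u).1 hu, (hlam v).1 (hiff.1 hu)]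
    · rw [(hlam u).2 hu, (hlam v).2 fun hv => hu (hiff.2 hv)]
  obtain ⟨ψ, hreg, -, hcol⟩ := exists_twisted hM hmax h lam hst L (C.F.ρ .a)
  obtain ⟨q', hq'⟩ := C.bij.2 ψ
  subst hq'
  have hωh : ω ^ (N / 2) = -1 :=
    (C.root.pow (show 0 < N by omega)
      (show N = N / 2 * 2 by have := h.two_dvd; omega)).eq_neg_one_of_two_right
  have hneg : C.c (C.F.ρ q') (N / 2) = -C.c (C.F.ρ .a) (N / 2) := by
    apply Int.cast_injective (α := ℂ)
    push_cast
    rw [← C.eq, ← C.eq, coefC, coefC, ← neg_div, ← Finset.sum_neg_distrib]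
    congr 1
    refine Finset.sum_congr rfl fun j hj => ?_
    rcases Nat.eq_zero_or_pos j with rfl | hj0
    · simp
    simp only [colPow]
    rw [hcol _ (Subgroup.npow_mem_zpowers r j)
      (Dihedral.pow_ne_one' h hj0 (Finset.mem_range.1 hj)), mul_comm j, pow_mul, hωh]
    have hm : r ^ j ∈ K ↔ Even j := by
      rw [← zpow_natCast, Turn.mem_turned_rot h hs₀, Int.even_coe_nat]
    rcases Nat.even_or_odd j with hj' | hj'
    · rw [(hlam _).1 (hm.2 hj'), hj'.neg_one_pow]; ring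
    · rw [(hlam _).2 fun hK => Nat.not_even_iff_odd.2 hj' (hm.1 hK), hj'.neg_one_pow]; ring
  rw [C.F.cs_apply, C.F.cs_apply] at hneg
  have hval : ∀ s : G, ¬ 2 ∣ orderOf s → C.val q' s = -C.val .a s := fun s hs => by
    rw [Coords.val, Coords.val, hreg s hs, ← neg_mul]
    congr 1
    rcases q' with _ | _ | _ | _ | i | i | i <;>
      first
      | exact i.elim0
      | (rcases C.F.unit (C.F.ρ .a) with e2 | e2 <;> simp [col, e2] at hneg <;> done)
      | (simp [col] at hneg; rw [hneg]; push_cast; ring)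
  rcases q' with _ | _ | _ | _ | i | i | i
  · rcases C.F.unit (C.F.ρ .a) with e2 | e2 <;> simp [col, e2] at hneg
  · exfalso
    have h1' := C.relV hM hmax h ⟨0, by omega⟩ (s := 1) (by simp)
    rw [hval 1 (by simp)] at h1'
    exact C.val_one_ne_zero hM (.x ⟨0, by omega⟩) (by linear_combination h1')
  · exact C.rowModel_two hM hmax h hl (Equiv.refl _) (fun i s hs => C.relV hM hmax h i hs)
      (fun s hs => C.relC hM hmax h hs) fun s hs => by
        show C.val .a s + C.val .u s = 0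
        rw [hval s hs, add_neg_cancel]
  · have hsw : ∀ q : Pos (N / 2 - 1) 0 0, q ≠ .u → q ≠ .v → Equiv.swap .u .v q = q :=
      fun q a b => Equiv.swap_apply_of_ne_of_ne a b
    refine C.rowModel_two hM hmax h hl (Equiv.swap .u .v) (fun i s hs => ?_) (fun s hs => ?_)
      fun s hs => ?_
    · rw [hsw .a (by simp) (by simp), hsw .b (by simp) (by simp), hsw (.x i) (by simp) (by simp)]
      exact C.relV hM hmax h i hs
    · rw [hsw .a (by simp) (by simp), hsw .b (by simp) (by simp), Equiv.swap_apply_left,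
        Equiv.swap_apply_right]
      linear_combination C.relC hM hmax h hs
    · rw [hsw .a (by simp) (by simp), Equiv.swap_apply_left, hval s hs, add_neg_cancel]
  · simp [col] at hneg
    rcases C.F.unit (C.F.ρ .a) with e2 | e2 <;> simp [e2] at hneg
  all_goals exact i.elim0

omit C [Fintype G] [Fintype (Cfsg.IrrCharacter G)] [Fintype (CU ((cz r N : P) : G))]
  [Fintype (Cfsg.IrrCharacter (top' P ((cz r N : P) : G)))] in
/-- The rows of a block with dihedral defect group. -/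
theorem bar_dihedral : BarOut B (N / 2 - 1) := by
  classical
  haveI := Fintype.ofFinite G
  haveI := Fintype.ofFinite (Cfsg.IrrCharacter G)
  haveI := Fintype.ofFinite (CU ((cz r N : P) : G))
  haveI := Fintype.ofFinite (Cfsg.IrrCharacter (top' P ((cz r N : P) : G)))
  have h4 := h.four_le
  have h2 := h.two_dvd
  obtain ⟨hk, hl1, hl3, hz, -⟩ := Dihedral.invariants hM hmax h
  by_cases hl : Cfsg.blockRank 2 B = 1
  · refine bar_rank_one hM hmax.1.2.1 ?_ hl (by rw [← Nat.card_eq_fintype_card, hk]; omega) hz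
    rw [← card_defectGroup hM hmax.1.2.1 (PairMax.isDefectGroup_of_maximal hM hmax), h.card]
    omega
  obtain ⟨L⟩ := exists_loc hM hmax (Dihedral.mem_centralizer_cz h)
    (Dihedral.isNilpotent_central hM hmax h)
  obtain ⟨ω, ⟨C⟩⟩ := exists_coordsFrame (B := B) hM hmax h L
  by_cases hind : ∀ t : Fin 3 → ℂ,
      (∀ s : G, ¬ 2 ∣ orderOf s → ∑ i, t i * C.val (piv 3 i) s = 0) → t = 0
  · obtain ⟨R⟩ := C.rowModel_three hM hmax h hind
    exact ⟨3, Or.inr (Or.inr rfl), fun e => by omega, ⟨R⟩⟩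
  push Not at hind
  obtain ⟨t, hdep, ht⟩ := hind
  have hl2 : Cfsg.blockRank 2 B = 2 := by
    by_contra hne
    refine ht ((indep_of_rank (p := 2) (B := B) _ fun χ hχ => ?_).2
      (by rw [Fintype.card_fin]; omega) t hdep)
    obtain ⟨q, hq⟩ := C.bij.2 ⟨χ, hχ⟩
    refine ⟨fun i => (C.F.σ (C.F.ρ q) : ℂ) * (row 3 q i : ℂ), fun s hs => ?_⟩
    simp only [mul_assoc]
    rw [← Finset.mul_sum, ← C.row_three hM hmax h q hs, Coords.val, hq]
    rcases C.F.unit (⟨χ, hχ⟩ : B) with e' | e' <;> simp [e']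
  obtain ⟨s₀, hs₀, h0⟩ := C.exists_unfused hM hmax h ht hdep
  have hodd : Odd (N / 2 - 1) := by
    obtain ⟨j, hj, hN⟩ := h.pow
    obtain ⟨i, rfl⟩ : ∃ i, j = i + 2 := ⟨j - 2, by omega⟩
    exact ⟨2 ^ i - 1, by have := Nat.one_le_two_pow (n := i); rw [hN, pow_add]; omega⟩
  refine ⟨2, Or.inr (Or.inl rfl), fun _ => hodd, ?_⟩
  by_cases h1 : Fused 2 M e (r * s₀) (cz r N)
  · exact C.model_of_turn hM hmax h hl2 hs₀ h0 h1
  · exact C.model_of_sgn hM hmax h hl2 hs₀ h0 h1

end Cfsg.Agent.Blocks.Quaternion
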