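import Mathlib
import Cfsg.Agent.Lib.Blocks.Quaternion.Model

/-!
# The rows of the faithful characters

Integral rows with even norms and the Cartan matrix of the quotient as their matrix of products,
at least `m + l` of them, are determined up to signs.
-/

namespace Cfsg.Agent.Blocks.Quaternion

/-- The positions of the faithful characters. -/
def facePos (m g₁ g₂ : ℕ) : Fin (m + 1) ⊕ Fin g₁ ⊕ Fin g₂ → Pos (m + (m + 1)) g₁ g₂
  | Sum.inl i => .x (Fin.natAdd m i)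
  | Sum.inr (Sum.inl i) => .g i
  | Sum.inr (Sum.inr i) => .k i

/-- A vector is a given one up to sign. -/
def UpTo {l : ℕ} (w v : Fin l → ℤ) : Prop := ∃ σ : ℤ, (σ = 1 ∨ σ = -1) ∧ ∀ i, σ * w i = v i

/-- The bound on the squares forces the number and size of the positive ones. -/
theorem squeeze {α : Type*} (O : Finset α) {f : α → ℤ} {m : ℕ} (hle : m + 1 ≤ O.card)
    (h4 : ∀ t ∈ O, 4 ≤ f t) (hsum : ∑ t ∈ O, f t ≤ 4 * ((m : ℤ) + 1)) :
    O.card = m + 1 ∧ (∀ t ∈ O, f t = 4) ∧ ∑ t ∈ O, f t = 4 * ((m : ℤ) + 1) := by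
  have h1 : ∑ _t ∈ O, (4 : ℤ) ≤ ∑ t ∈ O, f t := Finset.sum_le_sum h4
  rw [Finset.sum_const, nsmul_eq_mul] at h1
  have h2 : (m : ℤ) + 1 ≤ (O.card : ℤ) := by exact_mod_cast hle
  have hc : O.card = m + 1 := by
    have : (O.card : ℤ) = (m : ℤ) + 1 := by linarith
    exact_mod_cast this
  have hs : ∑ t ∈ O, f t = 4 * ((m : ℤ) + 1) := by
    rw [hc] at h1
    push_cast at h1
    linarith
  refine ⟨hc, fun t ht => ?_, hs⟩
  have e : ∑ _t ∈ O, (4 : ℤ) = ∑ t ∈ O, f t := by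
    rw [hs, Finset.sum_const, nsmul_eq_mul, hc]
    push_cast
    ring
  exact ((Finset.sum_eq_sum_iff_of_le h4).1 e t ht).symm

variable {F : Type*} [Fintype F] [DecidableEq F] {m : ℕ}

/-- An arrangement from a set of the commonest row and two lists. -/
theorem exists_arrangement {g₁ g₂ : ℕ} (O : Finset F) (hO : O.card = m + 1) (fg : Fin g₁ → F)
    (fk : Fin g₂ → F) (hcover : ∀ t, t ∈ O ∨ (∃ i, fg i = t) ∨ ∃ i, fk i = t)
    (hcard : Fintype.card F = m + 1 + g₁ + g₂) :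
    ∃ τ : Fin (m + 1) ⊕ Fin g₁ ⊕ Fin g₂ ≃ F, (∀ i, τ (Sum.inl i) ∈ O) ∧
      (∀ i, τ (Sum.inr (Sum.inl i)) = fg i) ∧ ∀ i, τ (Sum.inr (Sum.inr i)) = fk i := by
  set e := (O.equivFinOfCardEq hO).symm
  set f : Fin (m + 1) ⊕ Fin g₁ ⊕ Fin g₂ → F := Sum.elim (fun i => (e i : F)) (Sum.elim fg fk)
  have hs : Function.Surjective f := fun t => by
    rcases hcover t with ht | ⟨i, hi⟩ | ⟨i, hi⟩
    · obtain ⟨i, hi⟩ := e.surjective ⟨t, ht⟩
      exact ⟨Sum.inl i, congrArg Subtype.val hi⟩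
    · exact ⟨Sum.inr (Sum.inl i), hi⟩
    · exact ⟨Sum.inr (Sum.inr i), hi⟩
  have hb : Function.Bijective f := (Fintype.bijective_iff_surjective_and_card f).2
    ⟨hs, by simp [hcard, add_assoc]⟩
  exact ⟨Equiv.ofBijective f hb, fun i => (e i).2, fun _ => rfl, fun _ => rfl⟩

/-- The integers with squares adding to two. -/
theorem two_units {d : F → ℤ} (hd : ∑ t, d t ^ 2 = 2) :
    ∃ t₁ t₂, t₁ ≠ t₂ ∧ (d t₁ = 1 ∨ d t₁ = -1) ∧ (d t₂ = 1 ∨ d t₂ = -1) ∧
      ∀ t, t ≠ t₁ → t ≠ t₂ → d t = 0 := by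
  have hv : ∀ t, d t = 0 ∨ d t = 1 ∨ d t = -1 := fun t => by
    have h1 := Finset.single_le_sum (f := fun t => d t ^ 2) (fun _ _ => sq_nonneg _)
      (Finset.mem_univ t)
    rw [hd] at h1

    have h2 : -1 ≤ d t ∧ d t ≤ 1 := ⟨by nlinarith, by nlinarith⟩
    omega
  have hsq : ∀ t, d t ^ 2 = if d t = 0 then 0 else 1 := fun t => by
    rcases hv t with e | e | e <;> simp [e]
  simp only [hsq, Finset.sum_ite, Finset.sum_const_zero, zero_add, Finset.sum_const,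
    nsmul_eq_mul, mul_one] at hd
  obtain ⟨t₁, t₂, hne, he⟩ := Finset.card_eq_two.1 (by exact_mod_cast hd :
    (Finset.univ.filter fun t => ¬ d t = 0).card = 2)
  have hm : ∀ t, d t ≠ 0 ↔ t = t₁ ∨ t = t₂ := fun t => by
    have := Finset.ext_iff.1 he t
    simpa using this
  refine ⟨t₁, t₂, hne, ?_, ?_, fun t a b => ?_⟩
  · rcases hv t₁ with e | e
    exacts [absurd e ((hm t₁).2 (Or.inl rfl)), e]
  · rcases hv t₂ with e | e
    exacts [absurd e ((hm t₂).2 (Or.inr rfl)), e]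
  · by_contra hn
    rcases (hm t).1 hn with e | e
    exacts [a e, b e]

theorem classify_one (w : F → Fin 1 → ℤ) (hcard : m + 1 ≤ Fintype.card F)
    (hgram : ∀ i j, ∑ t, w t i * w t j = cbar 1 m i j)
    (heven : ∀ t, 2 ∣ yv (m : ℤ) (w t) (w t)) (hne : ∀ t, w t ≠ 0) :
    ∃ τ : Fin (m + 1) ⊕ Fin 0 ⊕ Fin 0 ≃ F,
      ∀ p, UpTo (w (τ p)) (row 1 (facePos m 0 0 p)) := by
  have hS : ∑ t, w t 0 ^ 2 = 4 * ((m : ℤ) + 1) := by
    have := hgram 0 0
    simp [cbar, Pos.sum_eq, row, red] at this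
    simp only [sq]
    rw [this]; ring
  have h4 : ∀ t ∈ (Finset.univ : Finset F), 4 ≤ w t 0 ^ 2 := by
    intro t _
    have h2 : (2 : ℤ) ∣ w t 0 := by
      have := heven t
      simp [yv, smat] at this
      exact (Int.prime_two.dvd_mul.1 this).elim id id
    obtain ⟨c, hc⟩ := h2
    have hc0 : c ≠ 0 := fun e => hne t (funext fun i => by
      rw [Subsingleton.elim i 0, hc, e]; rfl)
    have : 1 ≤ c ^ 2 := by
      have := mul_self_pos.2 hc0
      rw [sq]; omega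
    rw [hc]
    linarith [this, show ((2 : ℤ) * c) ^ 2 = 4 * c ^ 2 by ring]
  obtain ⟨hc, hv, -⟩ := squeeze (m := m) Finset.univ (by simpa using hcard) h4 hS.le
  obtain ⟨τ, -, -, -⟩ := exists_arrangement (g₁ := 0) (g₂ := 0) Finset.univ hc Fin.elim0 Fin.elim0
    (fun t => Or.inl (Finset.mem_univ t)) (by rw [← Finset.card_univ, hc])
  refine ⟨τ, fun p => ?_⟩
  rcases p with i | i | i
  rotate_left
  · exact i.elim0
  · exact i.elim0
  have e := hv (τ (Sum.inl i)) (Finset.mem_univ _)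
  have e' : w (τ (Sum.inl i)) 0 = 2 ∨ w (τ (Sum.inl i)) 0 = -2 := by
    have := (sq_eq_sq_iff_eq_or_eq_neg (a := w (τ (Sum.inl i)) 0) (b := (2 : ℤ))).1 (by rw [e]; rfl)
    exact this
  rcases e' with e' | e'
  · exact ⟨-1, Or.inr rfl, fun j => by
      rw [Subsingleton.elim j 0, e']; simp [facePos, row, red]⟩
  · exact ⟨1, Or.inl rfl, fun j => by
      rw [Subsingleton.elim j 0, e']; simp [facePos, row, red]⟩

theorem classify_two (w : F → Fin 2 → ℤ) (hcard : m + 2 ≤ Fintype.card F) (hm : Odd m)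
    (hgram : ∀ i j, ∑ t, w t i * w t j = cbar 2 m i j)
    (heven : ∀ t, 2 ∣ yv (m : ℤ) (w t) (w t)) (hne : ∀ t, w t ≠ 0) :
    ∃ τ : Fin (m + 1) ⊕ Fin 0 ⊕ Fin 1 ≃ F,
      ∀ p, UpTo (w (τ p)) (row 2 (facePos m 0 1 p)) := by
  obtain ⟨k, hk⟩ := hm
  set s : F → ℤ := fun t => w t 0 + w t 1 with hs
  set d : F → ℤ := fun t => w t 0 - w t 1 with hd
  have hd2 : ∀ t, 2 ∣ d t := by
    intro t
    obtain ⟨c, hc⟩ := heven t
    have h1 : 2 ∣ (m : ℤ) * d t ^ 2 := by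
      refine ⟨c - w t 0 ^ 2 - w t 1 ^ 2, ?_⟩
      simp [yv, smat, Fin.sum_univ_two] at hc
      simp only [d]
      linear_combination hc
    rcases Int.prime_two.dvd_mul.1 h1 with h2 | h2
    · omega
    · exact Int.prime_two.dvd_of_dvd_pow h2
  have hS : ∑ t, s t ^ 2 = 4 * ((m : ℤ) + 1) := by
    have a00 := hgram 0 0
    have a01 := hgram 0 1
    have a11 := hgram 1 1
    simp [cbar, Pos.sum_eq, row, red] at a00 a01 a11
    have e : ∑ t, s t ^ 2 = ∑ t, w t 0 * w t 0 + 2 * ∑ t, w t 0 * w t 1 + ∑ t, w t 1 * w t 1 := by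
      simp only [s, Finset.mul_sum, ← Finset.sum_add_distrib]
      exact Finset.sum_congr rfl fun t _ => by ring
    rw [e, a00, a01, a11]; ring
  have hD : ∑ t, d t ^ 2 = 4 := by
    have a00 := hgram 0 0
    have a01 := hgram 0 1
    have a11 := hgram 1 1
    simp [cbar, Pos.sum_eq, row, red] at a00 a01 a11
    have e : ∑ t, d t ^ 2 = ∑ t, w t 0 * w t 0 - 2 * ∑ t, w t 0 * w t 1 + ∑ t, w t 1 * w t 1 := by
      simp only [d, Finset.mul_sum, ← Finset.sum_add_distrib, ← Finset.sum_sub_distrib]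
      exact Finset.sum_congr rfl fun t _ => by ring
    rw [e, a00, a01, a11]; ring
  choose c hc using hd2
  have hC : ∑ t, c t ^ 2 = 1 := by
    have e : ∑ t, d t ^ 2 = 4 * ∑ t, c t ^ 2 := by
      rw [Finset.mul_sum]
      exact Finset.sum_congr rfl fun t _ => by rw [hc t]; ring
    omega
  obtain ⟨t₀, ht₀⟩ : ∃ t, c t ≠ 0 := by
    by_contra hcon
    push Not at hcon
    simp [hcon] at hC
  have hsplit := Finset.add_sum_erase Finset.univ (fun t => c t ^ 2) (Finset.mem_univ t₀)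
  rw [hC] at hsplit
  have hc0 : 1 ≤ c t₀ ^ 2 := by
    have := mul_self_pos.2 ht₀
    rw [sq]; omega
  have hnn := Finset.sum_nonneg (s := Finset.univ.erase t₀) fun t _ => sq_nonneg (c t)

  have hrest : ∀ t ∈ Finset.univ.erase t₀, d t = 0 := fun t ht => by
    have := (Finset.sum_eq_zero_iff_of_nonneg fun t _ => sq_nonneg (c t)).1
      (show ∑ t ∈ Finset.univ.erase t₀, c t ^ 2 = 0 by omega) t ht
    rw [hc t, pow_eq_zero_iff two_ne_zero |>.1 this, mul_zero]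
  have hct : c t₀ = 1 ∨ c t₀ = -1 := sq_eq_one_iff.1 (by omega)
  set O := Finset.univ.erase t₀ with hO
  have hxy : ∀ t ∈ O, w t 0 = w t 1 := fun t ht => sub_eq_zero.1 (hrest t ht)
  have h4 : ∀ t ∈ O, 4 ≤ s t ^ 2 := fun t ht => by
    have h0 : w t 0 ≠ 0 := fun e => hne t (funext fun i => by
      fin_cases i
      · exact e
      · show w t 1 = 0
        rw [← hxy t ht]; exact e)
    have := mul_self_pos.2 h0
    simp only [s, ← hxy t ht]
    rw [show (w t 0 + w t 0) ^ 2 = 4 * (w t 0 * w t 0) by ring]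
    omega
  have hspl := Finset.add_sum_erase Finset.univ (fun t => s t ^ 2) (Finset.mem_univ t₀)
  rw [hS] at hspl

  obtain ⟨hOc, hv, hOs⟩ := squeeze (m := m) O
    (by rw [hO, Finset.card_erase_of_mem (Finset.mem_univ _), Finset.card_univ]; omega) h4
    (by have := sq_nonneg (s t₀); linarith)
  have hs0 : s t₀ = 0 := pow_eq_zero_iff two_ne_zero |>.1 (by linarith)
  obtain ⟨τ, hτO, -, hτk⟩ := exists_arrangement (g₁ := 0) (g₂ := 1) O hOc Fin.elim0 (fun _ => t₀)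
    (fun t => by
      by_cases ht : t = t₀
      · exact Or.inr (Or.inr ⟨0, ht.symm⟩)
      · exact Or.inl (Finset.mem_erase.2 ⟨ht, Finset.mem_univ t⟩))
    (by
      have := Finset.card_erase_add_one (Finset.mem_univ t₀)
      rw [← hO, hOc, Finset.card_univ] at this
      omega)
  refine ⟨τ, fun p => ?_⟩
  rcases p with i | i | i
  · have ht := hτO i
    have e := hv _ ht
    have e2 := hxy _ ht
    have e' : w (τ (Sum.inl i)) 0 = 1 ∨ w (τ (Sum.inl i)) 0 = -1 := by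
      refine sq_eq_one_iff.1 ?_
      simp only [s, ← e2] at e
      linarith [show (w (τ (Sum.inl i)) 0 + w (τ (Sum.inl i)) 0) ^ 2 =
        4 * w (τ (Sum.inl i)) 0 ^ 2 by ring]
    rcases e' with e' | e'
    · exact ⟨-1, Or.inr rfl, fun j => by
        fin_cases j <;> simp [facePos, row, red, ← e2, e']⟩
    · exact ⟨1, Or.inl rfl, fun j => by
        fin_cases j <;> simp [facePos, row, red, ← e2, e']⟩
  · exact i.elim0
  · rw [hτk i]
    have e1 : w t₀ 0 + w t₀ 1 = 0 := hs0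
    have e2 : w t₀ 0 - w t₀ 1 = 2 * c t₀ := hc t₀
    refine ⟨c t₀, hct, fun j => ?_⟩
    have ex : w t₀ 0 = c t₀ := by linarith
    have ey : w t₀ 1 = -c t₀ := by linarith
    rcases hct with e | e <;> fin_cases j <;> simp [facePos, row, red, ex, ey, e]

theorem classify_three (w : F → Fin 3 → ℤ) (hcard : m + 3 ≤ Fintype.card F)
    (hgram : ∀ i j, ∑ t, w t i * w t j = cbar 3 m i j)
    (heven : ∀ t, 2 ∣ yv (m : ℤ) (w t) (w t)) (hne : ∀ t, w t ≠ 0) :
    ∃ τ : Fin (m + 1) ⊕ Fin 1 ⊕ Fin 1 ≃ F,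
      ∀ p, UpTo (w (τ p)) (row 3 (facePos m 1 1 p)) := by
  set d : F → ℤ := fun t => w t 0 - w t 1 with hd
  set z : F → ℤ := fun t => w t 2 with hz
  set s : F → ℤ := fun t => w t 0 + w t 1 - w t 2 with hs
  have hpar : ∀ t, 2 ∣ w t 0 + w t 1 + w t 2 := by
    intro t
    obtain ⟨c, hc⟩ := heven t
    refine Int.prime_two.dvd_of_dvd_pow (n := 2) ⟨c - (m : ℤ) * (w t 0 * w t 0 + w t 1 * w t 1 +
      w t 2 * w t 2) - w t 0 * w t 0 - w t 1 * w t 1 - w t 2 * w t 2 +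
      2 * ((m : ℤ) + 1) * (w t 0 * w t 1) + 2 * (w t 0 * w t 2) + 2 * (w t 1 * w t 2), ?_⟩
    simp [yv, smat, Fin.sum_univ_three] at hc
    linear_combination hc
  have a00 := hgram 0 0
  have a01 := hgram 0 1
  have a02 := hgram 0 2
  have a11 := hgram 1 1
  have a12 := hgram 1 2
  have a22 := hgram 2 2
  simp [cbar, Pos.sum_eq, row, red] at a00 a01 a02 a11 a12 a22
  have hD : ∑ t, d t ^ 2 = 2 := by
    have e : ∑ t, d t ^ 2 = ∑ t, w t 0 * w t 0 - 2 * ∑ t, w t 0 * w t 1 + ∑ t, w t 1 * w t 1 := by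
      simp only [d, Finset.mul_sum, ← Finset.sum_add_distrib, ← Finset.sum_sub_distrib]
      exact Finset.sum_congr rfl fun t _ => by ring
    rw [e, a00, a01, a11]; ring
  have hZ : ∑ t, z t ^ 2 = 2 := by simp only [z, sq]; rw [a22]
  have hDZ : ∑ t, d t * z t = 0 := by
    simp only [d, z, sub_mul, Finset.sum_sub_distrib, a02, a12, sub_self]
  have hS : ∑ t, s t ^ 2 = 4 * ((m : ℤ) + 1) := by
    have e : ∑ t, s t ^ 2 = ∑ t, w t 0 * w t 0 + ∑ t, w t 1 * w t 1 + ∑ t, w t 2 * w t 2 +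
        2 * ∑ t, w t 0 * w t 1 - 2 * ∑ t, w t 0 * w t 2 - 2 * ∑ t, w t 1 * w t 2 := by
      simp only [s, Finset.mul_sum, ← Finset.sum_add_distrib, ← Finset.sum_sub_distrib]
      exact Finset.sum_congr rfl fun t _ => by ring
    rw [e, a00, a01, a02, a11, a12, a22]; ring
  obtain ⟨t₁, t₂, hne12, hd1, hd2, hd0⟩ := two_units hD
  have hzd : ∀ t, 2 ∣ d t + z t := fun t => by
    have := hpar t
    simp only [d, z]
    omega
  obtain ⟨u₁, u₂, huv, hz1, hz2, hz0⟩ := two_units hZ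
  have hmem : ∀ t, d t ≠ 0 → t = u₁ ∨ t = u₂ := fun t ht => by
    by_contra hcon
    push Not at hcon
    have h1 := hz0 t hcon.1 hcon.2
    have h2 := hzd t
    have h3 : d t = 1 ∨ d t = -1 := by
      by_cases e1 : t = t₁
      · exact e1 ▸ hd1
      by_cases e2 : t = t₂
      · exact e2 ▸ hd2
      exact absurd (hd0 t e1 e2) ht
    omega
  have hzt : (z t₁ = 1 ∨ z t₁ = -1) ∧ (z t₂ = 1 ∨ z t₂ = -1) ∧
      ∀ t, t ≠ t₁ → t ≠ t₂ → z t = 0 := by
    rcases hmem t₁ (by omega) with e1 | e1 <;> rcases hmem t₂ (by omega) with e2 | e2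
    · exact absurd (e1.trans e2.symm) hne12
    · exact ⟨e1 ▸ hz1, e2 ▸ hz2, fun t a b => hz0 t (e1 ▸ a) (e2 ▸ b)⟩
    · exact ⟨e1 ▸ hz2, e2 ▸ hz1, fun t a b => hz0 t (e2 ▸ b) (e1 ▸ a)⟩
    · exact absurd (e1.trans e2.symm) hne12
  obtain ⟨hzt1, hzt2, hzt0⟩ := hzt
  rw [Fintype.sum_eq_add t₁ t₂ hne12 (fun t ht => by rw [hd0 t ht.1 ht.2, zero_mul])] at hDZ
  -- name the two by the product
  obtain ⟨tg, tk, hgk, hg, hk, hrest⟩ : ∃ tg tk, tg ≠ tk ∧
      ((d tg = 1 ∨ d tg = -1) ∧ z tg = d tg) ∧ ((d tk = 1 ∨ d tk = -1) ∧ z tk = -d tk) ∧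
      ∀ t, t ≠ tg → t ≠ tk → d t = 0 ∧ z t = 0 := by
    by_cases e : z t₁ = d t₁
    · refine ⟨t₁, t₂, hne12, ⟨hd1, e⟩, ⟨hd2, ?_⟩, fun t a b => ⟨hd0 t a b, hzt0 t a b⟩⟩
      rw [e] at hDZ
      rcases hd1 with e1 | e1 <;> rcases hd2 with e2 | e2 <;> rw [e1, e2] at hDZ <;> omega
    · refine ⟨t₂, t₁, hne12.symm, ⟨hd2, ?_⟩, ⟨hd1, ?_⟩, fun t a b => ⟨hd0 t b a, hzt0 t b a⟩⟩
      · rcases hd1 with e1 | e1 <;> rcases hd2 with e2 | e2 <;> rcases hzt1 with e3 | e3 <;>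
          rcases hzt2 with e4 | e4 <;> rw [e1, e2, e3, e4] at hDZ <;> omega
      · rcases hd1 with e1 | e1 <;> rcases hzt1 with e3 | e3 <;> omega
  set O := (Finset.univ.erase tg).erase tk with hO
  have hmemO : ∀ t ∈ O, d t = 0 ∧ z t = 0 := fun t ht => by
    simp only [hO, Finset.mem_erase, Finset.mem_univ, and_true] at ht
    exact hrest t ht.2 ht.1
  have hcO : O.card + 2 = Fintype.card F := by
    have h1 := Finset.card_erase_add_one (Finset.mem_univ tg)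
    have h2 := Finset.card_erase_add_one
      (Finset.mem_erase.2 ⟨hgk.symm, Finset.mem_univ tk⟩ : tk ∈ Finset.univ.erase tg)
    rw [Finset.card_univ] at h1
    rw [hO]
    omega
  have h4 : ∀ t ∈ O, 4 ≤ s t ^ 2 := fun t ht => by
    obtain ⟨e1, e2⟩ := hmemO t ht
    simp only [d, z] at e1 e2
    have h0 : w t 0 ≠ 0 := fun e => hne t (funext fun i => by
      fin_cases i
      · exact e
      · show w t 1 = 0
        omega
      · exact e2)
    have := mul_self_pos.2 h0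
    simp only [s, e2, show w t 1 = w t 0 by omega, sub_zero]
    rw [show (w t 0 + w t 0) ^ 2 = 4 * (w t 0 * w t 0) by ring]
    omega
  have hspl : s tg ^ 2 + (s tk ^ 2 + ∑ t ∈ O, s t ^ 2) = 4 * ((m : ℤ) + 1) := by
    rw [← hS, hO, Finset.add_sum_erase (Finset.univ.erase tg) (fun t => s t ^ 2)
      (Finset.mem_erase.2 ⟨hgk.symm, Finset.mem_univ tk⟩),
      Finset.add_sum_erase Finset.univ (fun t => s t ^ 2) (Finset.mem_univ tg)]
  obtain ⟨hOc, hv, hOs⟩ := squeeze (m := m) O (by omega) h4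
    (by have := sq_nonneg (s tg); have := sq_nonneg (s tk); linarith)
  have hsg : s tg = 0 := pow_eq_zero_iff two_ne_zero |>.1
    (by have := sq_nonneg (s tg); have := sq_nonneg (s tk); linarith)
  have hsk : s tk = 0 := pow_eq_zero_iff two_ne_zero |>.1
    (by have := sq_nonneg (s tg); have := sq_nonneg (s tk); linarith)
  obtain ⟨τ, hτO, hτg, hτk⟩ := exists_arrangement (g₁ := 1) (g₂ := 1) O hOc (fun _ => tg)
    (fun _ => tk) (fun t => by
      by_cases a : t = tg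
      · exact Or.inr (Or.inl ⟨0, a.symm⟩)
      by_cases b : t = tk
      · exact Or.inr (Or.inr ⟨0, b.symm⟩)
      exact Or.inl (by simp [hO, a, b]))
    (by omega)
  refine ⟨τ, fun p => ?_⟩
  simp only [d, z, s] at hg hk hsg hsk
  rcases p with i | i | i
  · have ht := hτO i
    obtain ⟨e1, e2⟩ := hmemO _ ht
    simp only [d, z] at e1 e2
    have e := hv _ ht
    have e3 : w (τ (Sum.inl i)) 1 = w (τ (Sum.inl i)) 0 := by omega
    simp only [s, e2, e3, sub_zero] at e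
    have e' : w (τ (Sum.inl i)) 0 = 1 ∨ w (τ (Sum.inl i)) 0 = -1 := sq_eq_one_iff.1 (by
      linarith [show (w (τ (Sum.inl i)) 0 + w (τ (Sum.inl i)) 0) ^ 2 =
        4 * w (τ (Sum.inl i)) 0 ^ 2 by ring])
    rcases e' with e' | e'
    · exact ⟨-1, Or.inr rfl, fun j => by fin_cases j <;> simp [facePos, row, red, e2, e3, e']⟩
    · exact ⟨1, Or.inl rfl, fun j => by fin_cases j <;> simp [facePos, row, red, e2, e3, e']⟩
  · rw [hτg i]
    have ex : w tg 0 = w tg 2 := by omega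
    have ey : w tg 1 = 0 := by omega
    rcases (show w tg 2 = 1 ∨ w tg 2 = -1 by omega) with e | e
    · exact ⟨-1, Or.inr rfl, fun j => by fin_cases j <;> simp [facePos, row, red, ex, ey, e]⟩
    · exact ⟨1, Or.inl rfl, fun j => by fin_cases j <;> simp [facePos, row, red, ex, ey, e]⟩
  · rw [hτk i]
    have ex : w tk 0 = 0 := by omega
    have ey : w tk 1 = w tk 2 := by omega
    rcases (show w tk 2 = 1 ∨ w tk 2 = -1 by omega) with e | e
    · exact ⟨-1, Or.inr rfl, fun j => by fin_cases j <;> simp [facePos, row, red, ex, ey, e]⟩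
    · exact ⟨1, Or.inl rfl, fun j => by fin_cases j <;> simp [facePos, row, red, ex, ey, e]⟩

/-- The rows of the faithful characters. -/
theorem classify {l : ℕ} (hl : l = 1 ∨ l = 2 ∨ l = 3) (h2 : l = 2 → Odd m) (w : F → Fin l → ℤ)
    (hcard : m + l ≤ Fintype.card F) (hgram : ∀ i j, ∑ t, w t i * w t j = cbar l m i j)
    (heven : ∀ t, 2 ∣ yv (m : ℤ) (w t) (w t)) (hne : ∀ t, w t ≠ 0) :
    ∃ g₁ g₂, Shape l g₁ g₂ ∧ ∃ τ : Fin (m + 1) ⊕ Fin g₁ ⊕ Fin g₂ ≃ F,
      ∀ p, UpTo (w (τ p)) (row l (facePos m g₁ g₂ p)) := by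
  rcases hl with rfl | rfl | rfl
  · exact ⟨0, 0, Or.inl ⟨rfl, rfl, rfl⟩, classify_one w hcard hgram heven hne⟩
  · exact ⟨0, 1, Or.inr (Or.inl ⟨rfl, rfl, rfl⟩), classify_two w hcard (h2 rfl) hgram heven hne⟩
  · exact ⟨1, 1, Or.inr (Or.inr ⟨rfl, rfl, rfl⟩), classify_three w hcard hgram heven hne⟩

end Cfsg.Agent.Blocks.Quaternion
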