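import Mathlib
import Cfsg.Agent.Lib.Blocks.Quaternion.Descent
import Cfsg.Agent.Lib.Blocks.Quaternion.Rows
import Cfsg.Agent.Lib.Blocks.Star.Major
import Cfsg.Agent.Lib.Blocks.NilpotentAbelian

/-!
# A block with quaternion defect group over a central involution: signs and parts
-/

set_option linter.style.haveILetI false
set_option linter.unusedSectionVars false

namespace Cfsg.Agent.Blocks.Quaternion

open Cfsg.Agent.Blocks Cfsg.Agent.Characters Cfsg.Agent.Blocks.Star
open Cfsg.Agent.Blocks.CentralStep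
open Cfsg.Agent.BlockCharsA Cfsg.Agent.BlockCharsA.BrauerPairs Cfsg.Agent.BlockCharsA.PairConj
open Cfsg.Agent.BlockCharsA.PairMax
open MonoidAlgebra
open scoped ComplexConjugate

universe u

variable {K : Type u} [Group K] [Finite K]

theorem isCentralEl_single_center {Z : K} (hZ : Z ∈ Subgroup.center K) :
    IsCentralEl (single Z (1 : ℂ) : MonoidAlgebra ℂ K) := fun g a => by
  classical
  have : a * g * a⁻¹ = Z ↔ g = Z := by
    constructor
    · intro e
      have e2 : a⁻¹ * Z * a = g := by rw [← e]; group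
      rw [← e2, mul_assoc, ← Subgroup.mem_center_iff.1 hZ a, inv_mul_cancel_left]
    · rintro rfl
      rw [Subgroup.mem_center_iff.1 hZ a, mul_inv_cancel_right]
  simp [MonoidAlgebra.coeff_single, Finsupp.single_apply, eq_comm (a := Z), this]

/-- The scalar by which a central element acts. -/
noncomputable def sgn (Z : K) (ψ : Cfsg.IrrCharacter K) : ℂ :=
  omega (ψ : K → ℂ) (single Z 1)

theorem val_mul {Z : K} (hZ : Z ∈ Subgroup.center K) (ψ : Cfsg.IrrCharacter K) (c : K) :
    (ψ : K → ℂ) (Z * c) = sgn Z ψ * (ψ : K → ℂ) c := by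
  have := evalChar_central_mul ψ (isCentralEl_single_center hZ) (single c 1)
  rwa [single_mul_single, one_mul, evalChar_single, evalChar_single, one_mul, one_mul] at this

theorem sgn_cases {Z : K} (hZ : Z ∈ Subgroup.center K) (h2 : Z * Z = 1)
    (ψ : Cfsg.IrrCharacter K) : sgn Z ψ = 1 ∨ sgn Z ψ = -1 := by
  have h1 := val_mul hZ ψ Z
  have h3 := val_mul hZ ψ 1
  rw [mul_one] at h3
  rw [h2, h3, ← mul_assoc] at h1
  exact mul_self_eq_one_iff.1 ((mul_eq_right₀ (irr_one_ne_zero ψ.2)).1 h1.symm)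

theorem conj_sgn {Z : K} (hZ : Z ∈ Subgroup.center K) (h2 : Z * Z = 1)
    (ψ : Cfsg.IrrCharacter K) : conj (sgn Z ψ) = sgn Z ψ := by
  rcases sgn_cases hZ h2 ψ with e | e <;> simp [e]

theorem th_shift {Z : K} (hZ : Z ∈ Subgroup.center K) (ψ : Cfsg.IrrCharacter K) (u : K)
    (ε : MonoidAlgebra ℂ K) (s : K) :
    th (ψ : K → ℂ) (u * Z) ε s = sgn Z ψ * th (ψ : K → ℂ) u ε s := by
  rw [th, th, show u * Z * s = Z * (u * s) by rw [Subgroup.mem_center_iff.1 hZ u, mul_assoc],
    show (single (Z * (u * s)) (1 : ℂ) : MonoidAlgebra ℂ K) = single Z 1 * single (u * s) 1 by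
      rw [single_mul_single, one_mul], mul_assoc]
  exact evalChar_central_mul ψ (isCentralEl_single_center hZ) _

theorem regAt_shift {p : ℕ} {Z : K} (hZ : Z ∈ Subgroup.center K) (u : K) :
    regAt p (u * Z) = regAt p u := by
  ext s
  simp only [mem_regAt]
  refine and_congr_left fun _ => ?_
  have hc : Commute Z s := (Subgroup.mem_center_iff.1 hZ s).symm
  refine ⟨fun h => ?_, fun h => h.mul_left hc⟩
  have := h.mul_left hc.inv_left
  rwa [mul_inv_cancel_right] at this

/-- Groups mapping injectively into a cyclic subgroup are cyclic. -/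
theorem isCyclic_of_maps {L : Type*} [Group L] {C : Subgroup K} (hC : IsCyclic C) (f : L →* K)
    (hf : Function.Injective f) (hm : ∀ l, f l ∈ C) : IsCyclic L :=
  isCyclic_of_injective (f.codRestrict C hm) fun _ _ e => hf (congrArg Subtype.val e)

variable {M : Ideal Cfsg.AlgInt}

/-- A block with cyclic defect group at two is nilpotent. -/
theorem isNilpotent_of_cyclic_two (hM : Cfsg.IsPModular 2 M)
    {g : Set (Cfsg.IrrCharacter K)} (hg : Cfsg.IsPBlock M g) {E : Subgroup K}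
    (hE : Cfsg.IsDefectGroup 2 M g E) (hcyc : IsCyclic E) : Cfsg.IsNilpotentBlock 2 M g := by
  classical
  haveI := fact_prime_of_pm hM
  obtain ⟨c, hc⟩ := PairCorr.exists_maximal_on hM hg hE
  refine ⟨hg, fun R f hR x hxN _ hreg => ?_⟩
  obtain ⟨y, hy⟩ := exists_conj_le hM hc hR
  have hle : cj R y ≤ E := (subpairLE_facts hM hy).1
  haveI : IsCyclic R := isCyclic_of_maps hcyc ((MulAut.conj y).toMonoidHom.comp R.subtype)
    ((MulAut.conj y).injective.comp R.subtype_injective) fun t => hle (conj_mem_cj.2 t.2)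
  obtain ⟨k, hk⟩ := IsPGroup.iff_card.1 (hR.1.1)
  obtain ⟨j, hj⟩ : ∃ j, Nat.card (MulAut R) = 2 ^ j := by
    rw [IsCyclic.card_mulAut, hk]
    rcases k with _ | k
    · exact ⟨0, rfl⟩
    · exact ⟨k, by rw [Nat.totient_prime_pow_succ Nat.prime_two]; simp⟩
  set t : Subgroup.normalizer (R : Set K) := ⟨x, hxN⟩
  have h1 : orderOf (R.normalizerMonoidHom t) ∣ orderOf x :=
    (orderOf_map_dvd _ t).trans (Subgroup.orderOf_mk x hxN).dvd
  have h2 : orderOf (R.normalizerMonoidHom t) ∣ 2 ^ j := hj ▸ orderOf_dvd_natCard _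
  have h3 : R.normalizerMonoidHom t = 1 := orderOf_eq_one_iff.1
    (Nat.eq_one_of_dvd_coprimes
      ((Nat.prime_two.coprime_iff_not_dvd.2 hreg).symm.pow_right j) h1 h2)
  refine Subgroup.mem_centralizer_iff.2 fun w hw => ?_
  have h4 := congrArg Subtype.val (DFunLike.congr_fun h3 ⟨w, hw⟩)
  have h5 : x * w * x⁻¹ = w := h4
  exact (mul_inv_eq_iff_eq_mul.1 h5).symm

variable {b : Set (Cfsg.IrrCharacter K)} {Q : Subgroup K}
  {a : Set (Cfsg.IrrCharacter (Subgroup.centralizer (Q : Set K)))} {q : Q} {N : ℕ}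
  (hM : Cfsg.IsPModular 2 M) (hmax : Cfsg.IsMaximalBrauerPair 2 M b Q a) (h : IsQuat Q q N)

include h in
/-- Shifting by the involution does not change the generated subgroup. -/
theorem zpowers_shift {v : Q} (h1 : v ≠ 1) (hz : v ≠ q ^ (N / 2)) :
    Subgroup.zpowers ((v * q ^ (N / 2) : Q) : K) = Subgroup.zpowers (v : K) := by
  have hne : v * q ^ (N / 2) ≠ 1 := fun e =>
    hz (by rw [eq_inv_of_mul_eq_one_left e, h.z_inv])
  have h2 : Subgroup.zpowers (v * q ^ (N / 2)) = Subgroup.zpowers v := by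
    refine le_antisymm (Subgroup.zpowers_le.2 (mul_mem (Subgroup.mem_zpowers v)
      (h.z_mem_zpowers h1))) (Subgroup.zpowers_le.2 ?_)
    have := mul_mem (Subgroup.mem_zpowers (v * q ^ (N / 2))) (h.z_mem_zpowers hne)
    rwa [mul_assoc, h.z_facts.2, mul_one] at this
  have := congrArg (Subgroup.map Q.subtype) h2
  rwa [MonoidHom.map_zpowers, MonoidHom.map_zpowers] at this

include hM hmax in
/-- The named idempotent depends on the generated subgroup alone. -/
theorem eps_congr {v w : Q} (e : Subgroup.zpowers (v : K) = Subgroup.zpowers (w : K)) :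
    eps 2 M a v = eps 2 M a w := by
  obtain ⟨g, hg, -, he⟩ := eps_spec hM hmax w
  rw [he, eps_of_le hM hmax v e.symm hg]

variable (hc : ((q ^ (N / 2) : Q) : K) ∈ Subgroup.center K)
include hM hmax h hc

/-- The weights at a shifted element. -/
theorem wgt_shift {v : Q} (h1 : v ≠ 1) (hz : v ≠ q ^ (N / 2)) (χ ψ : Cfsg.IrrCharacter K) :
    wgt 2 M a (χ : K → ℂ) (ψ : K → ℂ) (v * q ^ (N / 2)) =
      sgn ((q ^ (N / 2) : Q) : K) χ * sgn ((q ^ (N / 2) : Q) : K) ψ *
        wgt 2 M a (χ : K → ℂ) (ψ : K → ℂ) v := by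
  have e := zpowers_shift h h1 hz
  have hcard : Nat.card (CU ((v * q ^ (N / 2) : Q) : K)) = Nat.card (CU (v : K)) :=
    Nat.card_congr (MulEquiv.subgroupCongr (congrArg
      (fun S : Subgroup K => Subgroup.centralizer (S : Set K)) e)).toEquiv
  rw [wgt, wgt, hcard, eps_congr hM hmax e, pairing, pairing, Subgroup.coe_mul, regAt_shift hc,
    ← mul_div_assoc, Finset.mul_sum]
  congr 1
  refine Finset.sum_congr rfl fun s _ => ?_
  rw [th_shift hc, th_shift hc, map_mul,
    conj_sgn hc (congrArg Subtype.val h.z_facts.2) ψ]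
  ring

omit hc in
/-- The weights at an inverse rotation. -/
theorem wgt_inv {v : Q} (hv : v ∈ Subgroup.zpowers q) (χ ψ : Cfsg.IrrCharacter K) :
    wgt 2 M a (χ : K → ℂ) (ψ : K → ℂ) v⁻¹ = wgt 2 M a (χ : K → ℂ) (ψ : K → ℂ) v := by
  obtain ⟨w, hw⟩ := h.exists_out
  have e : (w : K) * (v : K) * (w : K)⁻¹ = ((v⁻¹ : Q) : K) := congrArg Subtype.val (h.inv_mem hw hv)
  have hz : Subgroup.zpowers ((v⁻¹ : Q) : K) = Subgroup.zpowers (v : K) := by
    rw [Subgroup.coe_inv, Subgroup.zpowers_inv]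
  have hcard : Nat.card (CU ((v⁻¹ : Q) : K)) = Nat.card (CU (v : K)) :=
    Nat.card_congr (MulEquiv.subgroupCongr (congrArg
      (fun S : Subgroup K => Subgroup.centralizer (S : Set K)) hz)).toEquiv
  haveI := Fintype.ofFinite K
  rw [wgt, wgt, hcard, ← pairing_conj (irr_isClassFunction χ) (irr_isClassFunction ψ) (w : K)
    (v : K) (eps 2 M a v), eps_conj_top hM hmax v w, e, h.inv_mem hw hv]

/-- A character on which the involution acts by minus one has positive height. -/
theorem height_ne_zero {ψ : Cfsg.IrrCharacter K} (hψ : ψ ∈ b)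
    (hs : sgn ((q ^ (N / 2) : Q) : K) ψ = -1) :
    Cfsg.blockHeight 2 b (ψ : K → ℂ) ≠ 0 := by
  classical
  haveI := fact_prime_of_pm hM
  haveI := Fintype.ofFinite K
  intro h0
  obtain ⟨hvv, w, hw⟩ := h.exists_i4
  set z : Q := q ^ (N / 2)
  set v : Q := q ^ (N / 4)
  have hv1 : v ≠ 1 := fun e => h.z_facts.1 (by show z = 1; rw [← hvv, e, one_mul])
  have hvz : v ≠ z := fun e => h.z_facts.1 (by
    have := hvv
    rw [e, h.z_facts.2] at this
    exact this.symm)
  have hez : eps 2 M a (v * z) = eps 2 M a v := eps_congr hM hmax (zpowers_shift h hv1 hvz)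
  obtain ⟨g, hle, hg, he⟩ := eps_spec hM hmax v
  have hbr := (block_of_subpairLE hM (B := b) hle).2 hmax.1
  obtain ⟨s₁, hs₁, hne⟩ := exists_th_ne_zero hM (orderOf_top hM hmax v) hbr hψ h0
  rw [← he] at hne
  -- the local block has rank one
  obtain ⟨x, D, hD, hDP, hsx⟩ := PairLocal.exists_conj_card_eq hM le_rfl
    PairLocal.centralizer_le_stab hg PairLocal.coeff_self hmax hbr
  have hu : x * (v : K) * x⁻¹ ∈ Q :=
    (subpairLE_facts hM hsx).1 (conj_mem_cj.2 (Subgroup.mem_zpowers _))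
  obtain ⟨c, hcc⟩ := h.exists_cent (t := ⟨_, hu⟩) fun e => h.z_facts.1 (by
    show z = 1
    rw [← hvv]
    refine Subtype.ext ?_
    have e' : x * (v : K) * x⁻¹ * (x * (v : K) * x⁻¹) = 1 := congrArg Subtype.val e
    rw [show x * (v : K) * x⁻¹ * (x * (v : K) * x⁻¹) = x * ((v : K) * v) * x⁻¹ by group,
      conj_eq_one_iff] at e'
    exact e')
  have hDcyc : IsCyclic D := by
    refine isCyclic_of_maps (C := (Subgroup.zpowers c).map Q.subtype)
      (isCyclic_of_surjective _ (Q.subtype.subgroupMap_surjective _))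
      ((MulAut.conj x).toMonoidHom.comp ((CU (v : K)).subtype.comp D.subtype))
      ((MulAut.conj x).injective.comp ((CU (v : K)).subtype_injective.comp D.subtype_injective))
      fun d => ?_
    have hd := hDP (conj_mem_cj.2 ⟨_, d.2, rfl⟩)
    refine ⟨⟨_, hd.1⟩, hcc _ (Subtype.ext ?_), rfl⟩
    show x * ((d : CU (v : K)) : K) * x⁻¹ * (x * (v : K) * x⁻¹) =
      x * (v : K) * x⁻¹ * (x * ((d : CU (v : K)) : K) * x⁻¹)
    rw [show x * ((d : CU (v : K)) : K) * x⁻¹ * (x * (v : K) * x⁻¹) =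
      x * (((d : CU (v : K)) : K) * v) * x⁻¹ by group,
      ← (commute_of_mem_CU (d : CU (v : K)).2).eq]
    group
  have hnil := isNilpotent_of_cyclic_two hM hg hD hDcyc
  obtain ⟨hl, -⟩ := NilpotentAbelian.blockRank_eq_one hM hD (fun y hy y' hy' => by
    letI := hDcyc.commGroup
    exact congrArg Subtype.val (mul_comm (⟨y, hy⟩ : D) ⟨y', hy'⟩)) hnil
  haveI := Fintype.ofFinite (CU (v : K))
  haveI := Fintype.ofFinite (Cfsg.IrrCharacter (CU (v : K)))
  obtain ⟨f, Φ, hΦ, -, hrow, -⟩ := exists_rows_rank_one hM hg hl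
  obtain ⟨c₀, hc₀⟩ : ∃ c₀ : ℂ, ∀ s : CU (v : K), ¬ 2 ∣ orderOf s →
      th (ψ : K → ℂ) (v : K) (eps 2 M a v) (s : K) = c₀ * Φ s := by
    refine ⟨∑ η ∈ Finset.univ.filter (fun η => η ∈ g),
      Cfsg.classInner (shiftCU (ψ : K → ℂ) (v : K)) (η : CU (v : K) → ℂ) * (f η : ℂ), fun s hs' => ?_⟩
    rw [he, th_eq (irr_isClassFunction ψ), blockPart_eq_expand, Finset.sum_mul]
    refine Finset.sum_congr (by congr!) fun η hη => ?_
    rw [hrow η (Finset.mem_filter.1 hη).2 s hs', ← mul_assoc]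
  -- conjugation reverses the part
  have hflip : ∀ s : K, th (ψ : K → ℂ) (v : K) (eps 2 M a v) ((w : K) * s * (w : K)⁻¹) =
      -th (ψ : K → ℂ) (v : K) (eps 2 M a v) s := by
    intro s
    have e1 := CyclicDefect.th_conj (irr_isClassFunction ψ) (w : K) (v : K) (eps 2 M a v) s
    rw [eps_conj_top hM hmax v w, show (w : K) * (v : K) * (w : K)⁻¹ = (v : K) * (z : K) from
      congrArg Subtype.val hw, hw, hez, th_shift hc, hs] at e1
    linear_combination -e1
  have h1 : th (ψ : K → ℂ) (v : K) (eps 2 M a v) ((1 : CU (v : K)) : K) = 0 := by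
    have := hflip 1
    simp only [mul_one, mul_inv_cancel] at this
    simp only [OneMemClass.coe_one]
    linear_combination this / 2
  rw [hc₀ 1 (by simp)] at h1
  have hc0 := (mul_eq_zero.1 h1).resolve_right hΦ
  refine hne ?_
  obtain ⟨hcm, hrs⟩ := mem_regAt.1 hs₁
  rw [show s₁ = ((⟨s₁, mem_CU_of_commute hcm⟩ : CU (v : K)) : K) from rfl,
    hc₀ _ (by rwa [Subgroup.orderOf_mk]), hc0, zero_mul]

end Cfsg.Agent.Blocks.Quaternion
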