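import Mathlib
import Cfsg.Agent.Lib.Blocks.Quaternion.Local
import Cfsg.Agent.Lib.Blocks.Quaternion.Classify
import Cfsg.Agent.Lib.Blocks.Quaternion.BarDihedral
import Cfsg.Agent.Lib.Blocks.QuotientDefect
import Cfsg.Agent.Lib.Blocks.PQuotient
import Cfsg.Agent.Lib.CharTheory.CyclicCofactor.QuotientTable

/-!
# The rows of a block with quaternion defect group over a central involution
-/

set_option linter.style.haveILetI false
set_option linter.unusedSectionVars false

namespace Cfsg.Agent.Blocks.Quaternion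

open Cfsg.Agent.Blocks Cfsg.Agent.Characters Cfsg.Agent.Blocks.Star
open Cfsg.Agent.Blocks.CentralStep
open Cfsg.Agent.BlockCharsA Cfsg.Agent.BlockCharsA.BrauerPairs Cfsg.Agent.BlockCharsA.PairConj
open Cfsg.Agent.BlockCharsA.PairMax Cfsg.Agent.BlockCharsA.Contrib
open scoped ComplexConjugate

universe u

variable {K : Type u} [Group K] [Finite K] {M : Ideal Cfsg.AlgInt}

/-- A sum over the members splits by the sign. -/
theorem sum_sign_split {Z : K} (hZ : Z ∈ Subgroup.center K) (h2 : Z * Z = 1)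
    {b : Set (Cfsg.IrrCharacter K)} [Fintype b]
    [Fintype {ψ : b // sgn Z (ψ : Cfsg.IrrCharacter K) = 1}]
    [Fintype {ψ : b // sgn Z (ψ : Cfsg.IrrCharacter K) = -1}]
    {R : Type*} [AddCommMonoid R] (f : b → R) :
    ∑ ψ, f ψ = (∑ ψ : {ψ : b // sgn Z (ψ : Cfsg.IrrCharacter K) = 1}, f ψ) +
      ∑ ψ : {ψ : b // sgn Z (ψ : Cfsg.IrrCharacter K) = -1}, f ψ := by
  classical
  rw [← Finset.sum_subtype (Finset.univ.filter fun ψ : b => sgn Z (ψ : Cfsg.IrrCharacter K) = 1)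
      (fun ψ => by simp) f,
    ← Finset.sum_subtype (Finset.univ.filter fun ψ : b => sgn Z (ψ : Cfsg.IrrCharacter K) = -1)
      (fun ψ => by simp) f,
    ← Finset.sum_filter_add_sum_filter_not Finset.univ
      (fun ψ : b => sgn Z (ψ : Cfsg.IrrCharacter K) = 1) f]
  congr 1
  refine Finset.sum_congr (Finset.filter_congr fun ψ _ => ?_) fun _ _ => rfl
  rcases sgn_cases hZ h2 (ψ : Cfsg.IrrCharacter K) with e | e <;> simp [e] <;> norm_num

/-- Vanishing functions on the quotient from vanishing on the regular elements. -/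
theorem eq_zero_of_lift {l m : ℕ} {N0 : Subgroup K} [N0.Normal]
    {Bbar : Set (Cfsg.IrrCharacter (K ⧸ N0))} (R : RowModel 2 Bbar m 0 0 l) {t : Fin l → ℂ}
    (ht : ∀ s : K, ¬ 2 ∣ orderOf s → ∑ i, t i * R.Φ i (s : K ⧸ N0) = 0) : t = 0 :=
  R.indep t fun k hk => by
    obtain ⟨s, hs, rfl⟩ := exists_regular_lift (P := N0) Nat.prime_two hk
    exact ht s hs

variable {b : Set (Cfsg.IrrCharacter K)} {Q : Subgroup K}
  {a : Set (Cfsg.IrrCharacter (Subgroup.centralizer (Q : Set K)))} {q : Q} {N : ℕ}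
  (hM : Cfsg.IsPModular 2 M) (hmax : Cfsg.IsMaximalBrauerPair 2 M b Q a) (h : IsQuat Q q N)
  (hc : ((q ^ (N / 2) : Q) : K) ∈ Subgroup.center K)

include h in
theorem IsQuat.pow_facts {k : ℕ} (hk : 0 < k) (hk' : k < N / 2) :
    q ^ k ≠ 1 ∧ q ^ k ≠ q ^ (N / 2) ∧ (q ^ k)⁻¹ ≠ 1 ∧ (q ^ k)⁻¹ ≠ q ^ (N / 2) ∧
      (q ^ k)⁻¹ * q ^ (N / 2) = q ^ (N / 2 - k) := by
  have h4 := h.four_le
  have h1 : q ^ k ≠ 1 := fun e => by
    have := (h.pow_inj (a := k) (b := 0) (by omega) (by omega)).1 (by rw [e, pow_zero])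
    omega
  have h2 : q ^ k ≠ q ^ (N / 2) := fun e => by
    have := (h.pow_inj (a := k) (b := N / 2) (by omega) (by omega)).1 e
    omega
  refine ⟨h1, h2, fun e => h1 (inv_eq_one.1 e), fun e => h2 ?_, ?_⟩
  · rw [← inv_inv (q ^ k), e, h.z_inv]
  · rw [inv_mul_eq_iff_eq_mul, ← pow_add]
    congr 1
    omega

include hM hmax h hc

/-- Columns supported on the characters reversed by the involution. -/
theorem exists_orth_cols [Fintype b] {m : ℕ} (hN : N = 4 * (m + 1)) :
    ∃ (u : Fin m → b → ℂ) (c : Fin m → ℂ), (∀ i, c i ≠ 0) ∧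
      (∀ i (ψ : b), sgn ((q ^ (N / 2) : Q) : K) (ψ : Cfsg.IrrCharacter K) = 1 → u i ψ = 0) ∧
      (∀ i, ∀ s : K, ¬ 2 ∣ orderOf s →
        ∑ ψ : b, u i ψ * ((ψ : Cfsg.IrrCharacter K) : K → ℂ) s = 0) ∧
      ∀ i j, ∑ ψ : b, u i ψ * conj (u j ψ) = if i = j then c i else 0 := by
  classical
  haveI := Fintype.ofFinite K
  haveI := Fintype.ofFinite (Cfsg.IrrCharacter K)
  have hb := hmax.1.2.1
  obtain ⟨χ₀, hχ₀, h00⟩ := exists_height_zero hM hb
  set Z : K := ((q ^ (N / 2) : Q) : K) with hZdef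
  have hZ2 : Z * Z = 1 := congrArg Subtype.val h.z_facts.2
  have hs0 : sgn Z χ₀ = 1 := (sgn_cases hc hZ2 χ₀).resolve_right fun e =>
    height_ne_zero hM hmax h hc hχ₀ e h00
  set V : Q → b → ℂ := fun v ψ =>
    wgt 2 M a (χ₀ : K → ℂ) ((ψ : Cfsg.IrrCharacter K) : K → ℂ) v with hV
  set v : Fin m → Q := fun i => q ^ ((i : ℕ) + 1) with hv
  set v' : Fin m → Q := fun i => (q ^ ((i : ℕ) + 1))⁻¹ * q ^ (N / 2) with hv'
  have hP := fun i : Fin m => h.pow_facts (k := (i : ℕ) + 1) (by omega) (by omega)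
  have hshift : ∀ i (χ : Cfsg.IrrCharacter K),
      wgt 2 M a (χ₀ : K → ℂ) (χ : K → ℂ) (v' i) =
        sgn Z χ * wgt 2 M a (χ₀ : K → ℂ) (χ : K → ℂ) (v i) := fun i χ => by
    rw [hv', wgt_shift hM hmax h hc (hP i).2.2.1 (hP i).2.2.2.1,
      wgt_inv hM hmax h (Subgroup.npow_mem_zpowers q _), ← hZdef, hs0, one_mul]
  have hV' : ∀ i ψ, V (v' i) ψ = sgn Z (ψ : Cfsg.IrrCharacter K) * V (v i) ψ := fun i ψ =>
    hshift i _
  set u : Fin m → b → ℂ := fun i ψ => V (v i) ψ - V (v' i) ψ with hu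
  have hfus : ∀ {k k' : ℕ}, 0 < k → k < N / 2 → 0 < k' → k' < N / 2 →
      Fused 2 M a (q ^ k) (q ^ k') → k = k' := by
    intro k k' hk hk1 hk' hk1' hf
    have hfr := h.fused_rot hM hmax (Subgroup.npow_mem_zpowers q k)
      (Subgroup.npow_mem_zpowers q k') hf
    rcases hfr with e | e
    · exact ((h.pow_inj (by omega) (by omega)).1 e).symm
    · have e2 : q ^ (k' + k) = 1 := by rw [pow_add, e, inv_mul_cancel]
      have := Nat.le_of_dvd (by omega) (h.pow_eq_one.1 e2)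
      omega
  have horth : ∀ x y : Q, ∑ ψ : b, V x ψ * conj (V y ψ) =
      if Fused 2 M a x y then wgt 2 M a (χ₀ : K → ℂ) (χ₀ : K → ℂ) x else 0 := fun x y => by
    rw [← Finset.sum_subtype (Finset.univ.filter fun χ : Cfsg.IrrCharacter K => χ ∈ b)
      (fun χ => by simp) (fun χ : Cfsg.IrrCharacter K =>
        wgt 2 M a (χ₀ : K → ℂ) (χ : K → ℂ) x * conj (wgt 2 M a (χ₀ : K → ℂ) (χ : K → ℂ) y))]
    exact column_orth hM hmax (irr_isClassFunction χ₀) (irr_isClassFunction χ₀) x y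
  refine ⟨u, fun i => 2 * wgt 2 M a (χ₀ : K → ℂ) (χ₀ : K → ℂ) (v i),
    fun i => mul_ne_zero two_ne_zero (wgt_self_ne_zero hM hmax hχ₀ h00 _), fun i ψ hψ => ?_,
    fun i s hs => ?_, fun i j => ?_⟩
  · simp only [hu, hV', hψ, one_mul, sub_self]
  · have hr : ∀ x : Q, x ≠ 1 →
        ∑ ψ : b, V x ψ * ((ψ : Cfsg.IrrCharacter K) : K → ℂ) s = 0 := fun x hx => by
      rw [← Finset.sum_subtype (Finset.univ.filter fun χ : Cfsg.IrrCharacter K => χ ∈ b)
        (fun χ => by simp) (fun χ : Cfsg.IrrCharacter K =>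
          wgt 2 M a (χ₀ : K → ℂ) (χ : K → ℂ) x * (χ : K → ℂ) s)]
      exact column_regular hM hmax hχ₀ hx hs
    have hv'1 : v' i ≠ 1 := fun e => (hP i).2.2.2.1 (by
      rw [eq_inv_of_mul_eq_one_left e, h.z_inv])
    simp only [hu, sub_mul, Finset.sum_sub_distrib, hr (v i) (hP i).1, hr _ hv'1, sub_zero]
  · have e1 : ∑ ψ : b, u i ψ * conj (u j ψ) =
        ((∑ ψ : b, V (v i) ψ * conj (V (v j) ψ)) - ∑ ψ : b, V (v i) ψ * conj (V (v' j) ψ)) -
        ((∑ ψ : b, V (v' i) ψ * conj (V (v j) ψ)) - ∑ ψ : b, V (v' i) ψ * conj (V (v' j) ψ)) := by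
      simp only [hu, map_sub, sub_mul, mul_sub, Finset.sum_sub_distrib]
      ring
    have hA : Fused 2 M a (v i) (v j) ↔ i = j := by
      refine ⟨fun hf => Fin.ext ?_, fun e => e ▸ fused_refl _⟩
      have := hfus (Nat.succ_pos _) (by omega) (Nat.succ_pos _) (by omega) hf
      omega
    have hB : ∀ i j, ¬ Fused 2 M a (v i) (v' j) := fun i j hf => by
      simp only [hv', (hP j).2.2.2.2] at hf
      have := hfus (Nat.succ_pos _) (by omega) (by omega) (by omega) hf
      omega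
    have hC : Fused 2 M a (v' i) (v' j) ↔ i = j := by
      refine ⟨fun hf => Fin.ext ?_, fun e => e ▸ fused_refl _⟩
      simp only [hv', (hP i).2.2.2.2, (hP j).2.2.2.2] at hf
      have := hfus (by omega) (by omega) (by omega) (by omega) hf
      omega
    have hc' : wgt 2 M a (χ₀ : K → ℂ) (χ₀ : K → ℂ) (v' i) =
        wgt 2 M a (χ₀ : K → ℂ) (χ₀ : K → ℂ) (v i) := by rw [hshift, hs0, one_mul]
    rw [e1, horth, horth, horth, horth, if_neg (hB i j),
      if_neg (show ¬ Fused 2 M a (v' i) (v j) from fun hf => hB j i hf.symm), hc']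
    by_cases e : i = j
    · rw [if_pos (hA.2 e), if_pos (hC.2 e), if_pos e]; ring
    · rw [if_neg (fun hf => e (hA.1 hf)), if_neg (fun hf => e (hC.1 hf)), if_neg e]; ring

/-- The rows of a block over a central involution with quaternion defect group. -/
theorem local_model :
    ∃ l g₁ g₂, Shape l g₁ g₂ ∧ (l = 2 → Odd (N / 4 - 1)) ∧
      Nonempty (RowModel 2 b ((N / 4 - 1) + ((N / 4 - 1) + 1)) g₁ g₂ l) := by
  classical
  haveI := fact_prime_of_pm hM
  haveI := Fintype.ofFinite K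
  haveI := Fintype.ofFinite b
  haveI := Fintype.ofFinite (Cfsg.IrrCharacter K)
  have hb := hmax.1.2.1
  set Z : K := ((q ^ (N / 2) : Q) : K) with hZdef
  have hZ2 : Z * Z = 1 := congrArg Subtype.val h.z_facts.2
  have hZ1 : Z ≠ 1 := fun e => h.z_facts.1 (Subtype.ext e)
  have hordZ : orderOf Z = 2 := orderOf_eq_prime (by rw [pow_two, hZ2]) hZ1
  set m := N / 4 - 1 with hm
  have h4 := h.four_le
  have hN4 : N = 4 * (m + 1) := by have := h.four_dvd; omega
  set N0 := Subgroup.zpowers Z with hN0def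
  have hcen : N0 ≤ Subgroup.center K := Subgroup.zpowers_le.2 hc
  haveI hnorm : N0.Normal := ⟨fun x hx g => by
    rw [Subgroup.mem_center_iff.1 (hcen hx) g, mul_inv_cancel_right]; exact hx⟩
  have hN0 : IsPGroup 2 N0 := IsPGroup.of_card (n := 1) (by rw [Nat.card_zpowers, hordZ, pow_one])
  have hmem : ∀ x : K, x ∈ N0 ↔ x = 1 ∨ x = Z := by
    intro x
    constructor
    · intro hx
      obtain ⟨k, rfl⟩ := mem_powers_iff_mem_zpowers.2 hx
      show Z ^ k = 1 ∨ Z ^ k = Z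
      rw [← pow_mod_orderOf, hordZ]
      rcases Nat.mod_two_eq_zero_or_one k with e | e <;> simp [e]
    · rintro (rfl | rfl)
      exacts [one_mem _, Subgroup.mem_zpowers _]
  obtain ⟨Bbar, hBbar, hsub, hdef⟩ := exists_block_quotient (N := N0) hM hN0 hb
  haveI := Fintype.ofFinite Bbar
  haveI := Fintype.ofFinite (Cfsg.IrrCharacter (K ⧸ N0))
  have hD : Cfsg.IsDefectGroup 2 M b Q := isDefectGroup_of_maximal hM hmax
  obtain ⟨ab, hmaxb⟩ := PairCorr.exists_maximal_on hM hBbar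
    ((hdef (Q.map (QuotientGroup.mk' N0))).2 ⟨Q, hD, rfl⟩)
  have hf : ∀ d : Q, QuotientGroup.mk' N0 d = 1 ↔ d = 1 ∨ d = q ^ (N / 2) := fun d => by
    rw [QuotientGroup.mk'_apply, QuotientGroup.eq_one_iff, hmem, hZdef]
    simp only [Subtype.ext_iff, OneMemClass.coe_one]
  obtain ⟨l, hl, hl2, ⟨R⟩⟩ : BarOut Bbar m := by
    by_cases hN : N = 4
    · rw [show m = 0 by omega]
      exact bar_klein hM hmaxb (h.map_klein _ hf hN)
    · have h8 : 8 ≤ N := by omega
      have := bar_dihedral hM hmaxb (h.map_isDih _ hf h8)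
      rwa [show m = N / 2 / 2 - 1 by omega]
  -- the rows
  set Φ : Fin l → K → ℂ := fun i s => R.Φ i (s : K ⧸ N0) with hΦ
  have hind : ∀ t : Fin l → ℂ, (∀ s : K, ¬ 2 ∣ orderOf s → ∑ i, t i * Φ i s = 0) → t = 0 :=
    fun t ht => eq_zero_of_lift R ht
  have huniq : ∀ x y : Fin l → ℤ, (∀ s : K, ¬ 2 ∣ orderOf s →
      ∑ i, (x i : ℂ) * Φ i s = ∑ i, (y i : ℂ) * Φ i s) → x = y := fun x y e => by
    funext i
    have := congrFun (hind (fun i => (x i : ℂ) - (y i : ℂ)) fun s hs => by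
      simp only [sub_mul, Finset.sum_sub_distrib, e s hs, sub_self]) i
    simpa [sub_eq_zero] using this
  have hex : ∀ ψ : b, ∃ W : Fin l → ℤ, ∀ s : K, ¬ 2 ∣ orderOf s →
      ((ψ : Cfsg.IrrCharacter K) : K → ℂ) s = ∑ i, (W i : ℂ) * Φ i s := by
    intro ψ
    obtain ⟨co, hco⟩ := CharTheory.CyclicCofactor.exists_expansion hM hN0 hcen hb hBbar hsub ψ.2
    refine ⟨fun i => ∑ p, co (R.ρ p) * (R.σ p * row l p i), fun s hs => ?_⟩
    have hsq : ¬ 2 ∣ orderOf (s : K ⧸ N0) := fun hd =>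
      hs (hd.trans (orderOf_map_dvd (QuotientGroup.mk' N0) s))
    rw [hco s hs, Finset.sum_subtype (p := fun θ => θ ∈ Bbar) _ (fun θ => by simp)
      (fun θ : Cfsg.IrrCharacter (K ⧸ N0) => (co θ : ℂ) * (θ : K ⧸ N0 → ℂ) (s : K ⧸ N0)),
      ← R.ρ.sum_comp]
    simp only [R.value _ hsq, Int.cast_sum, Int.cast_mul, Finset.mul_sum, Finset.sum_mul, hΦ]
    rw [Finset.sum_comm]
    exact Finset.sum_congr rfl fun i _ => Finset.sum_congr rfl fun p _ => by ring
  choose W hW using hex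
  set ι : Bbar → b := fun θ => ⟨inflIrr (θ : Cfsg.IrrCharacter (K ⧸ N0)), hsub _ θ.2⟩ with hι
  have hWι : ∀ p, W (ι (R.ρ p)) = fun i => R.σ p * row l p i := fun p => huniq _ _ fun s hs => by
    rw [← hW _ s hs]
    exact R.value p fun hd => hs (hd.trans (orderOf_map_dvd (QuotientGroup.mk' N0) s))
  have hsι : ∀ θ, sgn Z (ι θ : Cfsg.IrrCharacter K) = 1 := fun θ => by
    have e := val_mul hc (ι θ : Cfsg.IrrCharacter K) 1
    rw [mul_one, show ((ι θ : Cfsg.IrrCharacter K) : K → ℂ) Z =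
      ((ι θ : Cfsg.IrrCharacter K) : K → ℂ) 1 by
        show (θ : Cfsg.IrrCharacter (K ⧸ N0)).1 (Z : K ⧸ N0) = (θ : Cfsg.IrrCharacter (K ⧸ N0)).1
          ((1 : K) : K ⧸ N0)
        rw [(QuotientGroup.eq_one_iff Z).2 (Subgroup.mem_zpowers Z), QuotientGroup.mk_one]] at e
    exact (mul_eq_right₀ (irr_one_ne_zero (ι θ : Cfsg.IrrCharacter K).2)).1 e.symm
  let eN : Bbar ≃ {ψ : b // sgn Z (ψ : Cfsg.IrrCharacter K) = 1} :=
    Equiv.ofBijective (fun θ => ⟨ι θ, hsι θ⟩) ⟨fun θ θ' e => by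
      have e1 : ((inflIrr (θ : Cfsg.IrrCharacter (K ⧸ N0)) : Cfsg.IrrCharacter K) : K → ℂ) =
          (inflIrr (θ' : Cfsg.IrrCharacter (K ⧸ N0)) : Cfsg.IrrCharacter K) :=
        congrArg (fun t : {ψ : b // sgn Z (ψ : Cfsg.IrrCharacter K) = 1} =>
          (((t : b) : Cfsg.IrrCharacter K) : K → ℂ)) e
      exact Subtype.ext (Subtype.ext (funext fun k => by
        obtain ⟨x, rfl⟩ := QuotientGroup.mk_surjective k
        exact congrFun e1 x)),
      fun ψ => by
        have hψ := ψ.2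
        obtain ⟨f, -, hf1, hf2⟩ := exists_deflate_quotient N0
          (irr_isCharacter ((ψ : b) : Cfsg.IrrCharacter K)) fun x hx => by
            rcases (hmem x).1 hx with rfl | rfl
            · rfl
            · have e2 := val_mul hc ((ψ : b) : Cfsg.IrrCharacter K) 1
              rw [mul_one, hψ, one_mul] at e2
              exact e2
        have e1 : inflIrr (N := N0) ⟨f, hf2 ((ψ : b) : Cfsg.IrrCharacter K).2⟩ =
            ((ψ : b) : Cfsg.IrrCharacter K) := Subtype.ext (funext hf1)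
        exact ⟨⟨_, CharTheory.CyclicCofactor.mem_of_inflIrr_mem hM hN0 hcen hb hBbar hsub
          (e1.symm ▸ (ψ : b).2)⟩, Subtype.ext (Subtype.ext e1)⟩⟩
  -- the two halves have the same products
  have hgram1 : ∀ i j, ∑ ψ : {ψ : b // sgn Z (ψ : Cfsg.IrrCharacter K) = 1},
      W ψ i * W ψ j = cbar l m i j := fun i j => by
    rw [← eN.sum_comp, ← R.ρ.sum_comp]
    refine Finset.sum_congr rfl fun p _ => ?_
    show W (ι (R.ρ p)) i * W (ι (R.ρ p)) j = _
    rw [hWι]
    linear_combination (row l p i * row l p j) * R.sign_sq p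
  have hD0 : ∀ i j, ∑ ψ : b, sgn Z (ψ : Cfsg.IrrCharacter K) * (W ψ i : ℂ) * (W ψ j : ℂ) = 0 := by
    set D : Fin l → Fin l → ℂ := fun i j =>
      ∑ ψ : b, sgn Z (ψ : Cfsg.IrrCharacter K) * (W ψ i : ℂ) * (W ψ j : ℂ)
    have hDreal : ∀ i j, conj (D i j) = D i j := fun i j => by
      simp only [D, map_sum, map_mul, conj_sgn hc hZ2, map_intCast]
    have h1 : ∀ i (s : K), ¬ 2 ∣ orderOf s → ∑ j, D i j * conj (Φ j s) = 0 := by
      intro i s hs
      refine congrFun (hind (fun i => ∑ j, D i j * conj (Φ j s)) fun t ht => ?_) i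
      have hsing : 2 ∣ orderOf (Z * s) := by
        have hco : (orderOf Z).Coprime (orderOf s) := by
          rw [hordZ]; exact Nat.prime_two.coprime_iff_not_dvd.2 hs
        rw [(show Commute Z s from (Subgroup.mem_center_iff.1 hc s).symm
          ).orderOf_mul_eq_mul_orderOf_of_coprime hco, hordZ]
        exact dvd_mul_right 2 _
      have e := sum_block_reg_sing hM (intEl_blockIdem hM hb) ht hsing
      rw [ZStar.Principal.finsum_mem_eq_sum_filter,
        Finset.sum_subtype (p := fun χ => χ ∈ b) _ (fun χ => by simp)] at e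
      refine Eq.trans ?_ e
      simp only [val_mul hc, map_mul, conj_sgn hc hZ2]
      rw [Finset.sum_congr rfl (g := fun ψ : b => (∑ i, (W ψ i : ℂ) * Φ i t) *
        (sgn Z (ψ : Cfsg.IrrCharacter K) * conj (∑ j, (W ψ j : ℂ) * Φ j s))) fun ψ _ => by
          rw [hW ψ t ht, hW ψ s hs]]
      simp only [D, map_sum, map_mul, map_intCast, Finset.sum_mul, Finset.mul_sum]
      conv_lhs => rw [Finset.sum_comm]
      conv_lhs => arg 2; ext j; rw [Finset.sum_comm]
      conv_lhs => rw [Finset.sum_comm]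
      exact Finset.sum_congr rfl fun ψ _ => Finset.sum_congr rfl fun j _ =>
        Finset.sum_congr rfl fun i _ => by ring
    intro i j
    refine congrFun (hind (fun j => D i j) fun s hs => ?_) j
    have := congrArg conj (h1 i s hs)
    simpa [map_sum, hDreal] using this
  have hgramF : ∀ i j, ∑ ψ : {ψ : b // sgn Z (ψ : Cfsg.IrrCharacter K) = -1},
      W ψ i * W ψ j = cbar l m i j := fun i j => by
    rw [← hgram1 i j]
    apply Int.cast_injective (α := ℂ)
    have e := hD0 i j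
    rw [sum_sign_split hc hZ2] at e
    have e1 : ∀ ψ : {ψ : b // sgn Z (ψ : Cfsg.IrrCharacter K) = 1},
        sgn Z ((ψ : b) : Cfsg.IrrCharacter K) * (W ψ i : ℂ) * (W ψ j : ℂ) =
          ((W ψ i * W ψ j : ℤ) : ℂ) := fun ψ => by rw [ψ.2]; push_cast; ring
    have e2 : ∀ ψ : {ψ : b // sgn Z (ψ : Cfsg.IrrCharacter K) = -1},
        sgn Z ((ψ : b) : Cfsg.IrrCharacter K) * (W ψ i : ℂ) * (W ψ j : ℂ) =
          -((W ψ i * W ψ j : ℤ) : ℂ) := fun ψ => by rw [ψ.2]; push_cast; ring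
    simp only [e1, e2, Finset.sum_neg_distrib, ← Int.cast_sum] at e
    linear_combination -e
  -- parities
  have hdD : ((2 ^ Cfsg.blockDefect 2 b : ℕ) : ℤ) = 8 * ((m : ℤ) + 1) := by
    rw [← card_defectGroup hM hb hD, h.card, hN4]; push_cast; ring
  have hy : ∀ ψ : b, contrib 2 b (ψ : Cfsg.IrrCharacter K) ψ =
      ((yv (m : ℤ) (W ψ) (W ψ) : ℤ) : ℂ) := fun ψ => by
    refine contrib_eq_form hM hb W Φ (fun χ s hs => hW χ s hs) hind (smat l (m : ℤ))
      (fun i j => ?_) ψ ψ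
    have hsum : ∀ i k, ∑ χ : b, W χ i * W χ k = 2 * cbar l m i k := fun i k => by
      rw [sum_sign_split hc hZ2, hgram1, hgramF]; ring
    simp only [hsum, mul_assoc, ← Finset.mul_sum]
    rw [cbar_smat hl, hdD]
    split_ifs <;> ring
  have heven : ∀ ψ : {ψ : b // sgn Z (ψ : Cfsg.IrrCharacter K) = -1},
      2 ∣ yv (m : ℤ) (W ψ) (W ψ) := fun ψ => by
    by_contra hn
    exact height_ne_zero hM hmax h hc (ψ : b).2 ψ.2
      ((height_zero_iff hM hb (ψ : b).2 (hy ψ)).2 hn)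
  have hne : ∀ ψ : {ψ : b // sgn Z (ψ : Cfsg.IrrCharacter K) = -1}, W ψ ≠ 0 := fun ψ e => by
    refine irr_one_ne_zero ((ψ : b) : Cfsg.IrrCharacter K).2 ?_
    rw [hW (ψ : b) 1 (by simp), e]
    simp
  -- enough of them
  have hcardF : m + l ≤ Fintype.card {ψ : b // sgn Z (ψ : Cfsg.IrrCharacter K) = -1} := by
    obtain ⟨u, c, hc0, hu1, hureg, hugram⟩ := exists_orth_cols hM hmax h hc hN4
    have hrowu : ∀ i k, ∑ ψ : {ψ : b // sgn Z (ψ : Cfsg.IrrCharacter K) = -1},
        u i ψ * (W ψ k : ℂ) = 0 := by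
      intro i k
      refine congrFun (hind (fun k => ∑ ψ : {ψ : b // sgn Z (ψ : Cfsg.IrrCharacter K) = -1},
        u i ψ * (W ψ k : ℂ)) fun s hs => ?_) k
      refine Eq.trans ?_ (hureg i s hs)
      rw [sum_sign_split hc hZ2 (fun ψ : b => u i ψ * ((ψ : Cfsg.IrrCharacter K) : K → ℂ) s),
        Finset.sum_eq_zero (s := (Finset.univ : Finset {ψ : b // sgn Z (ψ : Cfsg.IrrCharacter K) = 1}))
          fun ψ _ => by rw [hu1 i ψ ψ.2, zero_mul], zero_add]
      simp only [hW _ s hs, Finset.sum_mul, Finset.mul_sum]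
      rw [Finset.sum_comm]
      exact Finset.sum_congr rfl fun ψ _ => Finset.sum_congr rfl fun j _ => by ring
    have hli : LinearIndependent ℂ (Sum.elim
        (fun i (ψ : {ψ : b // sgn Z (ψ : Cfsg.IrrCharacter K) = -1}) => u i ψ)
        fun j (ψ : {ψ : b // sgn Z (ψ : Cfsg.IrrCharacter K) = -1}) => (W ψ j : ℂ)) := by
      refine Fintype.linearIndependent_iff.2 fun t ht => ?_
      have hsum : ∀ ψ : {ψ : b // sgn Z (ψ : Cfsg.IrrCharacter K) = -1},
          ∑ i, t (Sum.inl i) * u i ψ + ∑ j, t (Sum.inr j) * (W ψ j : ℂ) = 0 := fun ψ => by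
        have := congrFun ht ψ
        rw [Fintype.sum_sum_type] at this
        simpa [Finset.sum_apply] using this
      have hb0 : ∀ k, ∑ j, t (Sum.inr j) * (cbar l m j k : ℂ) = 0 := fun k => by
        have e := Finset.sum_eq_zero (s := Finset.univ)
          fun ψ (_ : ψ ∈ Finset.univ) => mul_eq_zero_of_left (hsum ψ) (W ψ k : ℂ)
        simp only [add_mul, Finset.sum_add_distrib, Finset.sum_mul, mul_assoc] at e
        rw [Finset.sum_comm (s := (Finset.univ : Finset {ψ : b // sgn Z (ψ : Cfsg.IrrCharacter K) = -1}))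
            (t := (Finset.univ : Finset (Fin m))),
          Finset.sum_comm (s := (Finset.univ : Finset {ψ : b // sgn Z (ψ : Cfsg.IrrCharacter K) = -1}))
            (t := (Finset.univ : Finset (Fin l)))] at e
        simp only [← Finset.mul_sum, hrowu, mul_zero, Finset.sum_const_zero, zero_add,
          ← Int.cast_mul, ← Int.cast_sum, hgramF] at e
        exact e
      have hbz : ∀ j, t (Sum.inr j) = 0 := fun j => by
        have e := Finset.sum_eq_zero (s := Finset.univ)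
          fun k (_ : k ∈ Finset.univ) => mul_eq_zero_of_left (hb0 k) (smat l (m : ℤ) k j : ℂ)
        simp only [Finset.sum_mul, mul_assoc] at e
        rw [Finset.sum_comm] at e
        simp only [← Finset.mul_sum, ← Int.cast_mul, ← Int.cast_sum, cbar_smat hl] at e
        simp only [Int.cast_ite, Int.cast_mul, Int.cast_add, Int.cast_natCast, Int.cast_ofNat,
          Int.cast_one, Int.cast_zero, mul_ite, mul_zero, Finset.sum_ite_eq', Finset.mem_univ,
          if_true] at e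
        exact (mul_eq_zero.1 e).resolve_right
          (mul_ne_zero (by norm_num) (by exact_mod_cast Nat.succ_ne_zero m))
      rintro (i | j)
      swap
      · exact hbz j
      simp only [hbz, zero_mul, Finset.sum_const_zero, add_zero] at hsum
      have e := Finset.sum_eq_zero (s := Finset.univ)
        fun ψ (_ : ψ ∈ Finset.univ) => mul_eq_zero_of_left (hsum ψ) (conj (u i ψ))
      simp only [Finset.sum_mul, mul_assoc] at e
      rw [Finset.sum_comm] at e
      have hg : ∀ j, ∑ ψ : {ψ : b // sgn Z (ψ : Cfsg.IrrCharacter K) = -1},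
          u j ψ * conj (u i ψ) = if j = i then c j else 0 := fun j => by
        rw [← hugram j i, sum_sign_split hc hZ2 (fun ψ : b => u j ψ * conj (u i ψ)),
          Finset.sum_eq_zero
            (s := (Finset.univ : Finset {ψ : b // sgn Z (ψ : Cfsg.IrrCharacter K) = 1}))
            fun ψ _ => by rw [hu1 j ψ ψ.2, zero_mul], zero_add]
      simp only [← Finset.mul_sum, hg, mul_ite, mul_zero, Finset.sum_ite_eq', Finset.mem_univ,
        if_true] at e
      exact (mul_eq_zero.1 e).resolve_right (hc0 i)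
    have := hli.fintype_card_le_finrank
    rwa [Fintype.card_sum, Fintype.card_fin, Fintype.card_fin, Module.finrank_fintype_fun_eq_card]
      at this
  obtain ⟨g₁, g₂, hsh, τ, hτ⟩ := classify hl hl2
    (fun ψ : {ψ : b // sgn Z (ψ : Cfsg.IrrCharacter K) = -1} => W ψ) hcardF hgramF heven hne
  set ρ : Pos (m + (m + 1)) g₁ g₂ → b := fun p => match p with
    | .a => ι (R.ρ .a)
    | .b => ι (R.ρ .b)
    | .u => ι (R.ρ .u)
    | .v => ι (R.ρ .v)
    | .x i => Fin.addCases (fun i => ι (R.ρ (.x i))) (fun i => (τ (Sum.inl i) : b)) i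
    | .g i => (τ (Sum.inr (Sum.inl i)) : b)
    | .k i => (τ (Sum.inr (Sum.inr i)) : b) with hρ
  have hsurj : Function.Surjective ρ := by
    intro ψ
    rcases sgn_cases hc hZ2 (ψ : Cfsg.IrrCharacter K) with e | e
    · obtain ⟨θ, hθ⟩ := eN.surjective ⟨ψ, e⟩
      obtain ⟨p, rfl⟩ := R.ρ.surjective θ
      have hp : ι (R.ρ p) = ψ := congrArg Subtype.val hθ
      rcases p with _ | _ | _ | _ | i | i | i
      exacts [⟨.a, hp⟩, ⟨.b, hp⟩, ⟨.u, hp⟩, ⟨.v, hp⟩,
        ⟨.x (Fin.castAdd (m + 1) i), by simp [hρ, hp]⟩, i.elim0, i.elim0]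
    · obtain ⟨p, hp⟩ := τ.surjective ⟨ψ, e⟩
      have hp' : (τ p : b) = ψ := congrArg Subtype.val hp
      rcases p with i | i | i
      exacts [⟨.x (Fin.natAdd m i), by simp [hρ, hp']⟩, ⟨.g i, hp'⟩, ⟨.k i, hp'⟩]
  have hcardb : Fintype.card (Pos (m + (m + 1)) g₁ g₂) = Fintype.card b := by
    have h1 := Fintype.card_congr ((R.ρ.trans eN))
    have h2 := Fintype.card_congr τ
    have h3 := sum_sign_split hc hZ2 (b := b) (fun _ => (1 : ℕ))
    simp only [Finset.sum_const, Finset.card_univ, smul_eq_mul, mul_one] at h3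
    rw [Pos.card_eq] at h1
    simp only [Fintype.card_sum, Fintype.card_fin] at h2
    rw [Pos.card_eq, h3]
    omega
  have hsign : ∀ p, UpTo (W (ρ p)) (row l p) := by
    have hb' : ∀ p, UpTo (W (ι (R.ρ p))) (row l p) := fun p =>
      ⟨R.σ p, R.unit p, fun i => by rw [hWι]; linear_combination (row l p i) * R.sign_sq p⟩
    intro p
    rcases p with _ | _ | _ | _ | i | i | i
    · exact hb' .a
    · exact hb' .b
    · exact hb' .u
    · exact hb' .v
    · refine Fin.addCases (fun i => ?_) (fun i => ?_) i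
      · simp only [hρ, Fin.addCases_left]
        exact hb' (.x i)
      · simp only [hρ, Fin.addCases_right]
        exact hτ (Sum.inl i)
    · exact hτ (Sum.inr (Sum.inl i))
    · exact hτ (Sum.inr (Sum.inr i))
  choose σ hσu hσ using hsign
  refine ⟨l, g₁, g₂, hsh, hl2, ⟨⟨Equiv.ofBijective ρ
    ((Fintype.bijective_iff_surjective_and_card ρ).2 ⟨hsurj, hcardb⟩), σ, hσu, Φ,
    fun p s hs => ?_, hind⟩⟩⟩
  rw [Equiv.ofBijective_apply, hW _ s hs, Finset.mul_sum]
  refine Finset.sum_congr rfl fun i _ => ?_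
  rw [← hσ p i]
  push_cast
  ring

end Cfsg.Agent.Blocks.Quaternion
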