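import Mathlib
import Cfsg.Agent.Lib.Blocks.Quaternion.Faithful
import Cfsg.Agent.Lib.Blocks.Quaternion.Transfer
import Cfsg.Agent.Lib.Blocks.Quaternion.Lattice

/-!
# The invariants of a block with generalised quaternion defect group

The columns of the model of the block at the central involution are induced to the group; their
products force the same rows there.
-/

set_option linter.style.haveILetI false
set_option linter.unusedSectionVars false

namespace Cfsg.Agent.Blocks.Quaternion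

open Cfsg.Agent.Blocks Cfsg.Agent.Characters Cfsg.Agent.Blocks.Star
open Cfsg.Agent.Blocks.CentralStep
open Cfsg.Agent.BlockCharsA Cfsg.Agent.BlockCharsA.BrauerPairs Cfsg.Agent.BlockCharsA.PairConj
open Cfsg.Agent.BlockCharsA.PairMax Cfsg.Agent.BlockCharsA.Contrib

universe u

variable {G : Type u} [Group G] [Finite G] {M : Ideal Cfsg.AlgInt}
  {B : Set (Cfsg.IrrCharacter G)} {n l g₁ g₂ : ℕ}

/-- The products of the columns. -/
def selGram (n g₁ g₂ : ℕ) (s t : Sel n) : ℤ := ∑ q : Pos n g₁ g₂, col s q * col t q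

/-- A model gives the columns. -/
theorem cols_of_model [Fintype B] (R : RowModel 2 B n g₁ g₂ l) (hs : Shape l g₁ g₂) :
    ∃ c : Sel n → B → ℤ, IsCols 2 B (selGram n g₁ g₂) c := by
  classical
  refine ⟨fun s χ => R.σ (R.ρ.symm χ) * col s (R.ρ.symm χ), fun s x hx => ?_, fun s t => ?_,
    fun f hf => ?_⟩
  · rw [← R.ρ.sum_comp]
    simp only [R.ρ.symm_apply_apply]
    have e : ∀ p, ((R.σ p * col s p : ℤ) : ℂ) * ((R.ρ p : Cfsg.IrrCharacter G) : G → ℂ) x =
        ∑ i, ((col s p * row l p i : ℤ) : ℂ) * R.Φ i x := fun p => by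
      rw [Int.cast_mul, mul_right_comm, R.hrow p x hx, Finset.sum_mul]
      exact Finset.sum_congr rfl fun i _ => by push_cast; ring
    simp only [e]
    rw [Finset.sum_comm]
    simp only [← Finset.sum_mul, ← Int.cast_sum, col_row hs, Int.cast_zero, zero_mul,
      Finset.sum_const_zero]
  · rw [← R.ρ.sum_comp, selGram]
    simp only [R.ρ.symm_apply_apply]
    exact Finset.sum_congr rfl fun p _ => by linear_combination (col s p * col t p) * R.sign_sq p
  · set g : Pos n g₁ g₂ → ℂ := fun p => (R.σ p : ℂ) * f (R.ρ p) with hg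
    have h0 : ∀ j, ∑ p, g p * (row l p j : ℂ) = 0 := fun j => by
      refine congrFun (R.indep (fun j => ∑ p, g p * (row l p j : ℂ)) fun x hx => ?_) j
      rw [← hf x hx, ← R.ρ.sum_comp]
      simp only [Finset.sum_mul]
      rw [Finset.sum_comm]
      refine Finset.sum_congr rfl fun p _ => ?_
      simp only [mul_assoc, ← Finset.mul_sum, ← R.hrow p x hx, hg]
      rcases R.unit p with e | e <;> simp [e]
    obtain ⟨α, hα⟩ := exists_comb hs g h0
    refine ⟨α, fun χ => ?_⟩
    obtain ⟨p, rfl⟩ := R.ρ.surjective χ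
    simp only [R.ρ.symm_apply_apply, Int.cast_mul]
    have e := hα p
    simp only [hg] at e
    calc f (R.ρ p) = (R.σ p : ℂ) * ((R.σ p : ℂ) * f (R.ρ p)) := by
          rcases R.unit p with e' | e' <;> simp [e']
      _ = _ := by rw [e, Finset.mul_sum]; exact Finset.sum_congr rfl fun s _ => by ring

/-- Columns with the products of the model force the rows. -/
theorem model_of_cols (hM : Odd n) [Fintype B] {c : Sel n → B → ℤ}
    (hs : Shape l g₁ g₂) (hc : IsCols 2 B (selGram n g₁ g₂) c)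
    (hcover : ∀ χ : B, ∃ s, c s χ ≠ 0) : Nonempty (RowModel 2 B n g₁ g₂ l) := by
  classical
  have hg : g₁ ≤ 1 ∧ g₂ ≤ 1 := by
    rcases hs with ⟨-, rfl, rfl⟩ | ⟨-, rfl, rfl⟩ | ⟨-, rfl, rfl⟩ <;> omega
  set δ : B → ℝ := fun χ => (Cfsg.charDegree ((χ : Cfsg.IrrCharacter G) : G → ℂ) : ℝ)
  have hperp : ∀ s, ∑ χ, (c s χ : ℝ) * δ χ = 0 := fun s => by
    apply Complex.ofReal_injective
    push_cast
    have e := hc.ker s 1 (by simp)
    simp only [← charDegree_cast] at e
    simp only [δ, Complex.ofReal_natCast]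
    exact e
  obtain ⟨ρ, σ, hσ, hcol, hH⟩ := lattice hM hg.1 hg.2 (c := c) hc.gram
    (δ := δ) (fun χ => Nat.cast_ne_zero.2 (charDegree_pos _).ne') hperp hcover
  set f : G → Pos n g₁ g₂ → ℂ := fun x q =>
    (σ q : ℂ) * ((ρ q : Cfsg.IrrCharacter G) : G → ℂ) x with hf
  have hkill : ∀ x, ¬ 2 ∣ orderOf x → ∀ s, ∑ q, (col s q : ℂ) * f x q = 0 := by
    intro x hx
    have hk : ∀ s, ∑ q, (c s (ρ q) : ℂ) * ((ρ q : Cfsg.IrrCharacter G) : G → ℂ) x = 0 :=
      fun s => by
        rw [ρ.sum_comp fun χ => (c s χ : ℂ) * ((χ : Cfsg.IrrCharacter G) : G → ℂ) x]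
        exact hc.ker s x hx
    have h1 : ∀ s, s ≠ Sel.H true → ∑ q, (col s q : ℂ) * f x q = 0 := fun s hs' => by
      refine Eq.trans (Finset.sum_congr rfl fun q _ => ?_) (hk s)
      rw [hcol q s hs']
      push_cast
      simp only [hf]
      ring
    intro s
    by_cases hs' : s = Sel.H true
    · subst hs'
      rcases hH with hH | hH
      · refine Eq.trans (Finset.sum_congr rfl fun q _ => ?_) (hk (Sel.H true))
        rw [hH q]
        push_cast
        simp only [hf]
        ring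
      · have e := hk (Sel.H true)
        rw [Finset.sum_congr rfl (g := fun q => (col Sel.C q : ℂ) * f x q -
          (col (Sel.H true) q : ℂ) * f x q) fun q _ => by
            rw [hH q]; push_cast; simp only [hf]; ring,
          Finset.sum_sub_distrib, h1 Sel.C (by simp), zero_sub, neg_eq_zero] at e
        exact e
    · exact h1 s hs'
  refine ⟨⟨ρ, σ, hσ, fun i x => f x (piv l i),
    fun q x hx => eq_row_piv hs (f x) (hkill x hx) q, fun t ht => ?_⟩⟩
  set g : Pos n g₁ g₂ → ℂ := fun q => ∑ i, if piv l i = q then t i else 0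
  set F : B → ℂ := fun χ => (σ (ρ.symm χ) : ℂ) * g (ρ.symm χ)
  have hF : IsKer 2 B F := fun x hx => by
    rw [← ρ.sum_comp, ← ht x hx]
    simp only [F, g, ρ.symm_apply_apply, Finset.mul_sum, Finset.sum_mul]
    rw [Finset.sum_comm]
    refine Finset.sum_congr rfl fun i _ => ?_
    rw [Finset.sum_eq_single (piv l i) (fun q _ hq => by rw [if_neg (Ne.symm hq)]; ring)
      (fun h' => absurd (Finset.mem_univ _) h'), if_pos rfl]
    simp only [hf]
    ring
  obtain ⟨α, hα⟩ := hc.span F hF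
  have hgq : ∀ q, g q = ∑ s, α s * ((σ q * c s (ρ q) : ℤ) : ℂ) := fun q => by
    have e := hα (ρ q)
    simp only [F, ρ.symm_apply_apply] at e
    calc g q = (σ q : ℂ) * ((σ q : ℂ) * g q) := by
          rcases hσ q with e' | e' <;> simp [e']
      _ = _ := by
          rw [e, Finset.mul_sum]
          exact Finset.sum_congr rfl fun s _ => by push_cast; ring
  have hrow0 : ∀ s j, ∑ q, σ q * c s (ρ q) * row l q j = 0 := by
    intro s j
    have h1 : ∀ s, s ≠ Sel.H true → ∑ q, σ q * c s (ρ q) * row l q j = 0 := fun s hs' => by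
      refine Eq.trans (Finset.sum_congr rfl fun q _ => ?_) (col_row hs s j)
      rw [hcol q s hs', ← mul_assoc, sq_sign hσ, one_mul]
    by_cases hs' : s = Sel.H true
    · subst hs'
      rcases hH with hH | hH
      · refine Eq.trans (Finset.sum_congr rfl fun q _ => ?_) (col_row hs (Sel.H true) j)
        rw [hH q, ← mul_assoc, sq_sign hσ, one_mul]
      · rw [Finset.sum_congr rfl fun q _ => by rw [hH q, ← mul_assoc, sq_sign hσ, one_mul],
          Finset.sum_congr rfl fun q _ => sub_mul _ _ _, Finset.sum_sub_distrib,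
          col_row hs, col_row hs, sub_zero]
    · exact h1 s hs'
  funext j
  have e1 : ∑ q, g q * (row l q j : ℂ) = t j := by
    simp only [g, Finset.sum_mul]
    rw [Finset.sum_comm, Finset.sum_eq_single j]
    · rw [Finset.sum_eq_single (piv l j) (fun q _ hq => by rw [if_neg (Ne.symm hq), zero_mul])
        (fun h' => absurd (Finset.mem_univ _) h'), if_pos rfl, row_piv hs.rank, if_pos rfl,
        Int.cast_one, mul_one]
    · intro i _ hi
      rw [Finset.sum_eq_single (piv l i) (fun q _ hq => by rw [if_neg (Ne.symm hq), zero_mul])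
        (fun h' => absurd (Finset.mem_univ _) h'), if_pos rfl, row_piv hs.rank, if_neg hi,
        Int.cast_zero, mul_zero]
    · exact fun h' => absurd (Finset.mem_univ _) h'
  rw [Pi.zero_apply, ← e1]
  simp only [hgq, Finset.sum_mul, mul_assoc]
  rw [Finset.sum_comm]
  simp only [← Finset.mul_sum, ← Int.cast_mul, ← Int.cast_sum, hrow0, Int.cast_zero, mul_zero,
    Finset.sum_const_zero]

/-- The heights of the positions. -/
def hgt (n : ℕ) (q : Pos n g₁ g₂) (d : ℕ) : ℕ :=
  match q with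
  | .a => 0
  | .b => 0
  | .u => 0
  | .v => 0
  | .x _ => 1
  | .g _ => d
  | .k _ => d

/-- The products with the first position. -/
theorem natAbs_yv {m : ℕ} (hs : Shape l g₁ g₂) (q : Pos (m + (m + 1)) g₁ g₂) (hm : l = 2 → Odd m) :
    (hgt _ q 0 = 0 ∧ (∀ i, q ≠ .g i) ∧ (∀ i, q ≠ .k i) ∧
      ¬ (2 : ℤ) ∣ yv (m : ℤ) (row l (Pos.a (M := m + (m + 1)) (g₁ := g₁) (g₂ := g₂))) (row l q)) ∨
    ((∃ i, q = .x i) ∧
      (yv (m : ℤ) (row l (Pos.a (M := m + (m + 1)) (g₁ := g₁) (g₂ := g₂))) (row l q)).natAbs = 2) ∨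
    (((∃ i, q = .g i) ∨ ∃ i, q = .k i) ∧
      (yv (m : ℤ) (row l (Pos.a (M := m + (m + 1)) (g₁ := g₁) (g₂ := g₂))) (row l q)).natAbs =
        2 * (m + 1)) := by
  rcases hs with ⟨rfl, rfl, rfl⟩ | ⟨rfl, rfl, rfl⟩ | ⟨rfl, rfl, rfl⟩
  · rcases q with _ | _ | _ | _ | i | i | i
    iterate 4
      left
      simp [hgt, yv, smat, row, red]
      try omega
    · right; left; simp [yv, smat, row, red]
    · exact i.elim0
    · exact i.elim0
  · obtain ⟨k, hk⟩ := hm rfl
    rcases q with _ | _ | _ | _ | i | i | i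
    iterate 4
      left
      simp [hgt, yv, smat, row, red, Fin.sum_univ_two]
      try omega
    · right; left
      refine ⟨⟨i, rfl⟩, ?_⟩
      simp [yv, smat, row, red, Fin.sum_univ_two]
      try omega
    · exact i.elim0
    · right; right
      refine ⟨Or.inr ⟨i, rfl⟩, ?_⟩
      simp [yv, smat, row, red, Fin.sum_univ_two]
      try omega
  · rcases q with _ | _ | _ | _ | i | i | i
    iterate 4
      left
      simp [hgt, yv, smat, row, red, Fin.sum_univ_three]
      try omega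
    · right; left
      refine ⟨⟨i, rfl⟩, ?_⟩
      simp [yv, smat, row, red, Fin.sum_univ_three]
      try omega
    · right; right
      refine ⟨Or.inl ⟨i, rfl⟩, ?_⟩
      simp [yv, smat, row, red, Fin.sum_univ_three]
      try omega
    · right; right
      refine ⟨Or.inr ⟨i, rfl⟩, ?_⟩
      simp [yv, smat, row, red, Fin.sum_univ_three]
      try omega

/-- The invariants. -/
theorem invariants {D : Subgroup G} {e : Set (Cfsg.IrrCharacter (Subgroup.centralizer (D : Set G)))}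
    {r : D} {n : ℕ} (hn : 3 ≤ n) (hM : Cfsg.IsPModular 2 M)
    (hmax : Cfsg.IsMaximalBrauerPair 2 M B D e) (h : IsQuat D r (2 ^ (n - 1))) :
    1 ≤ Cfsg.blockRank 2 B ∧ Cfsg.blockRank 2 B ≤ 3 ∧
      Nat.card B = Cfsg.blockRank 2 B + 2 ^ (n - 2) + 2 ∧
      Nat.card {χ : Cfsg.IrrCharacter G // χ ∈ B ∧ Cfsg.blockHeight 2 B (χ : G → ℂ) = 0} = 4 ∧
      (∀ χ ∈ B, Cfsg.blockHeight 2 B (χ : G → ℂ) = 0 ∨ Cfsg.blockHeight 2 B (χ : G → ℂ) = 1 ∨
        Cfsg.blockHeight 2 B (χ : G → ℂ) = n - 2) ∧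
      (4 ≤ n → Nat.card {χ : Cfsg.IrrCharacter G //
        χ ∈ B ∧ Cfsg.blockHeight 2 B (χ : G → ℂ) = 1} = 2 ^ (n - 2) - 1) := by
  classical
  haveI := fact_prime_of_pm hM
  haveI := Fintype.ofFinite G
  haveI := Fintype.ofFinite B
  set N := 2 ^ (n - 1) with hN
  set z : D := r ^ (N / 2) with hz
  obtain ⟨a, ha, hm⟩ := exists_maximal_central hM hmax h.z_cen
  haveI := Fintype.ofFinite (gAt 2 M e (z : G))
  have S : Setting M B D e z (gAt 2 M e (z : G)) a :=
    ⟨hM, hmax, h.z_cen, h.z_facts.1, h.z_facts.2, fun v hv => h.z_mem_zpowers hv, ha, hm⟩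
  have hPC : D ≤ CU (z : G) := top_le z h.z_cen
  set φ : D ≃* top' D (z : G) := (Subgroup.subgroupOfEquivOfLe hPC).symm
  have hc : (((φ r) ^ (N / 2) : top' D (z : G)) : CU (z : G)) ∈ Subgroup.center (CU (z : G)) := by
    refine Subgroup.mem_center_iff.2 fun g => Subtype.ext ?_
    have e1 : ((((φ r) ^ (N / 2) : top' D (z : G)) : CU (z : G)) : G) = (z : G) := by
      rw [← map_pow]; rfl
    show (g : G) * _ = _ * (g : G)
    rw [e1]
    exact (commute_of_mem_CU g.2).eq.symm
  obtain ⟨l, g₁, g₂, hs, hl2, ⟨R₀⟩⟩ := local_model hM ha (h.map_equiv φ) hc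
  obtain ⟨c₀, hc₀⟩ := cols_of_model R₀ hs
  obtain ⟨c, hcB⟩ := S.transfer hc₀
  set m := N / 4 - 1 with hmdef
  obtain ⟨R⟩ := model_of_cols (n := m + (m + 1)) ⟨m, by ring⟩ hs hcB fun χ => S.exists_col_ne hcB χ
  have hB := hmax.1.2.1
  have hpow : N = 2 * 2 ^ (n - 2) := by
    rw [hN, show n - 1 = n - 2 + 1 by omega, pow_succ']
  have h2 : 2 ^ (n - 2) = 2 * (m + 1) := by
    have h4 := h.four_dvd
    have := h.four_le
    omega
  have hd : 2 ^ Cfsg.blockDefect 2 B = 8 * (m + 1) := by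
    rw [← card_defectGroup hM hB (isDefectGroup_of_maximal hM hmax), h.card, hpow, h2]
    ring
  have hl := R.blockRank_eq hs.rank
  have hk := R.card_eq
  have hcon := R.contrib_eq hM hB hs hd
  have h0a : Cfsg.blockHeight 2 B ((R.ρ .a : Cfsg.IrrCharacter G) : G → ℂ) = 0 := by
    refine (height_zero_iff hM hB (R.ρ .a).2 (hcon .a .a)).2 ?_
    rw [R.sign_sq, one_mul]
    rcases natAbs_yv hs Pos.a hl2 with h' | ⟨⟨i, hi⟩, -⟩ | ⟨⟨i, hi⟩ | ⟨i, hi⟩, -⟩
    · exact h'.2.2.2
    all_goals simp at hi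
  have hh : ∀ q, Cfsg.blockHeight 2 B ((R.ρ q : Cfsg.IrrCharacter G) : G → ℂ) =
      hgt _ q (n - 2) := by
    intro q
    obtain ⟨-, hv⟩ := padicValInt_contrib hM hB (R.ρ .a).2 (R.ρ q).2 h0a (hcon .a q)
    rw [← hv, padicValInt]
    have habs : (R.σ .a * R.σ q * yv (m : ℤ) (row l (Pos.a : Pos (m + (m + 1)) g₁ g₂))
        (row l q)).natAbs =
        (yv (m : ℤ) (row l (Pos.a : Pos (m + (m + 1)) g₁ g₂)) (row l q)).natAbs := by
      rcases R.unit .a with e1 | e1 <;> rcases R.unit q with e2 | e2 <;> simp [e1, e2]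
    rw [habs]
    rcases natAbs_yv hs q hl2 with ⟨h1, hg, hk', hodd⟩ | ⟨⟨i, rfl⟩, h'⟩ | ⟨hq, h'⟩
    · rw [padicValNat.eq_zero_of_not_dvd fun hd' => hodd (Int.ofNat_dvd_left.2 hd')]
      rcases q with _ | _ | _ | _ | i | i | i
      iterate 4 rfl
      · simp [hgt] at h1
      · exact absurd rfl (hg i)
      · exact absurd rfl (hk' i)
    · rw [h', padicValNat_self]; rfl
    · rw [h', ← h2, padicValNat.prime_pow]
      rcases hq with ⟨i, rfl⟩ | ⟨i, rfl⟩ <;> rfl
  have hcount : ∀ d, Nat.card {χ : Cfsg.IrrCharacter G //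
      χ ∈ B ∧ Cfsg.blockHeight 2 B (χ : G → ℂ) = d} =
      Nat.card {q : Pos (m + (m + 1)) g₁ g₂ // hgt _ q (n - 2) = d} := fun d =>
    Nat.card_congr ((Equiv.subtypeSubtypeEquivSubtypeInter (· ∈ B)
      (fun χ => Cfsg.blockHeight 2 B (χ : G → ℂ) = d)).symm.trans
      (R.ρ.subtypeEquiv (p := fun q => hgt _ q (n - 2) = d)
        (q := fun χ : B => Cfsg.blockHeight 2 B ((χ : Cfsg.IrrCharacter G) : G → ℂ) = d)
        fun q => by rw [hh]).symm)
  have hgs : l = g₁ + g₂ + 1 := by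
    rcases hs with ⟨rfl, rfl, rfl⟩ | ⟨rfl, rfl, rfl⟩ | ⟨rfl, rfl, rfl⟩ <;> rfl
  refine ⟨?_, ?_, ?_, ?_, fun χ hχ => ?_, fun hn4 => ?_⟩
  · omega
  · rcases hs.rank with e | e | e <;> omega
  · omega
  · rw [hcount, Nat.card_eq_fintype_card, Fintype.card_subtype,
      show (Finset.univ.filter fun q : Pos (m + (m + 1)) g₁ g₂ => hgt _ q (n - 2) = 0) =
        {.a, .b, .u, .v} by
        ext q
        rw [Finset.mem_filter]
        have : n - 2 ≠ 0 := by omega
        rcases q with _ | _ | _ | _ | i | i | i <;> simp [hgt, this]]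
    simp
  · obtain ⟨q, hq⟩ := R.ρ.surjective ⟨χ, hχ⟩
    have e := hh q
    rw [hq] at e
    rcases q with _ | _ | _ | _ | i | i | i <;> simp only [hgt] at e
    exacts [Or.inl e, Or.inl e, Or.inl e, Or.inl e, Or.inr (Or.inl e), Or.inr (Or.inr e),
      Or.inr (Or.inr e)]
  · rw [hcount]
    have : Nat.card {q : Pos (m + (m + 1)) g₁ g₂ // hgt _ q (n - 2) = 1} =
        Nat.card (Fin (m + (m + 1))) := (Nat.card_congr (Equiv.ofBijective
      (fun i => (⟨.x i, rfl⟩ : {q : Pos (m + (m + 1)) g₁ g₂ // hgt _ q (n - 2) = 1}))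
      ⟨fun i j hij => by simpa using congrArg Subtype.val hij, by
        rintro ⟨q, hq⟩
        rcases q with _ | _ | _ | _ | i | i | i <;> simp only [hgt] at hq <;> try omega
        exact ⟨i, rfl⟩⟩)).symm
    rw [this, Nat.card_fin]
    omega

end Cfsg.Agent.Blocks.Quaternion
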